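import Cfsg.Agent.Lib.Goldschmidt.Main
import Cfsg.Agent.Lib.Goldschmidt.Local.TypeFacts
import Cfsg.Agent.Lib.CI.Ident
import Cfsg.Agent.Lib.Classical.Dickson.Tools
import Cfsg.Agent.Lib.Fusion.Sections
import Cfsg.Agent.S2796

/-!
# What the theorem says about a simple group with a strongly closed abelian subgroup

The four outcomes, and the strongly closed subgroup of a simple group without a section `S₄` whose proper constrained
sections have the small composition factors.
-/

set_option autoImplicit false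
set_option linter.style.haveILetI false
set_option linter.unusedSectionVars false

namespace Cfsg.Agent.Goldschmidt

open Subgroup
open Cfsg.Agent.Solv.AbelianTwo (Ab2)
open Cfsg.Agent.Local.SCA (SC)

universe u

/-- The classification with abelian Sylow 2-subgroups. -/
theorem kType_of_ab2 (L : Type u) [Group L] [Finite L] [IsSimpleGroup L] (hna : ¬ IsMulCommutative L)
    (hab : Ab2 L) : Walter.KType L :=
  Walter.simpleStatement_of SEB.sol_all (Walter.R3.rankThreeStatement_of SEB.sol_all) L hna hab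

/-- The outcomes: `PSL₂`, centraliser `⟨t⟩ × E`, Suzuki, unitary. -/
theorem types_of_gType {L : Type u} [Group L] [Finite L] [IsSimpleGroup L] (hna : ¬ IsMulCommutative L)
    (hT : GType L) : Walter.IsL2 L ∨ Walter.IsJR L ∨ Cfsg.Lie.IsoSuzuki L ∨
      ∃ (F : Type) (_ : Field F) (_ : Fintype F) (n : ℕ), 2 ≤ n ∧ Fintype.card F = (2 ^ n) ^ 2 ∧
        Nonempty (L ≃* Cfsg.PSU 3 F (2 ^ n)) := by
  rcases hT with hab | ⟨H, hH⟩
  · exact (kType_of_ab2 L hna hab).imp id Or.inl
  · rcases CI.ident hna hH with ⟨F, iF, iT, n, hn, hF, he⟩ | h | h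
    · exact Or.inl ⟨F, iF, iT, Or.inl ⟨n, hn, hF⟩, he⟩
    · exact Or.inr (Or.inr (Or.inl h))
    · exact Or.inr (Or.inr (Or.inr h))

/-- The order of `PSL₂` over a finite field is divisible by three. -/
theorem three_dvd_psl (F : Type) [Field F] [Fintype F] :
    3 ∣ Nat.card (Matrix.ProjectiveSpecialLinearGroup (Fin 2) F) := by
  have hd : 3 ∣ Fintype.card F * (Fintype.card F ^ 2 - 1) := by
    generalize Fintype.card F = q
    have h : q % 3 = 0 ∨ q % 3 = 1 ∨ q % 3 = 2 := by omega
    rcases h with h | h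
    · exact Dvd.dvd.mul_right (Nat.dvd_of_mod_eq_zero h) _
    · refine Dvd.dvd.mul_left ?_ _
      have h2 : q ^ 2 % 3 = 1 := by rcases h with h | h <;> rw [Nat.pow_mod, h]
      omega
  rw [← Classical.Dickson.card_psl F] at hd
  refine (Nat.prime_three.dvd_mul.1 hd).resolve_right fun h3 => ?_
  have := Nat.le_of_dvd two_pos (h3.trans (Nat.gcd_dvd_left 2 _))
  omega

/-- A subgroup isomorphic to `PSL₂` gives the divisor three. -/
theorem three_dvd_of_jr {L : Type u} [Group L] [Finite L] (h : Walter.IsJR L) : 3 ∣ Nat.card L := by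
  obtain ⟨-, -, t, E, N, F, iF, iT, -, -, -, -, -, -, ⟨e⟩, -⟩ := h
  exact ((three_dvd_psl F).trans (Nat.card_congr e.toEquiv).symm.dvd).trans N.card_subgroup_dvd_card

/-- A normal 2-subgroup of a simple group that is not commutative is trivial. -/
theorem pCore_eq_bot {L : Type u} [Group L] [Finite L] [IsSimpleGroup L] (hna : ¬ IsMulCommutative L) :
    Cfsg.pCore 2 L = ⊥ := by
  haveI : Fact (Nat.Prime 2) := ⟨Nat.prime_two⟩
  haveI : (Cfsg.pCore 2 L).Normal := Solv.pCore_normal 2
  refine (inferInstance : (Cfsg.pCore 2 L).Normal).eq_bot_or_eq_top.resolve_right fun e => ?_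
  have hp : IsPGroup 2 (⊤ : Subgroup L) := e ▸ Solv.pCore_isPGroup 2
  haveI := (hp.of_equiv Subgroup.topEquiv).isNilpotent
  exact hna ⟨⟨IsSimpleGroup.comm_iff_isSolvable.2 inferInstance⟩⟩

/-- Without `S₄`, with small factors in the proper constrained sections, some abelian subgroup is strongly closed. -/
theorem exists_closed_of_sfour {G : Type u} [Group G] [Finite G] [IsSimpleGroup G] (hna : ¬ IsMulCommutative G)
    (hfree : ¬ Cfsg.Involves (Equiv.Perm (Fin 4)) G)
    (hfac : ∀ (X : Type u) [Group X] [Finite X], Nat.card X < Nat.card G → Cfsg.Involves X G →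
      centralizer (Cfsg.pCore 2 X : Set X) ≤ Cfsg.pCore 2 X →
        Cfsg.IsCompositionKGroupWith Cfsg.IsSuzukiOrPSL2OddPowerThree X) :
    ∃ A : Subgroup G, A ≠ ⊥ ∧ IsMulCommutative ↥A ∧ SC A := by
  haveI : Fact (Nat.Prime 2) := ⟨Nat.prime_two⟩
  obtain ⟨S⟩ := (inferInstance : Nonempty (Sylow 2 G))
  obtain ⟨N, hN⟩ : ∃ N, N = normalizer (Cfsg.thompsonSubgroupOf 2 (S : Subgroup G) : Set G) := ⟨_, rfl⟩
  set W := Cfsg.omegaOne 2 ((S : Subgroup G) ⊓ centralizer ((S : Subgroup G) : Set G)) with hW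
  obtain ⟨A, hA⟩ : ∃ A, A = (normalClosure ((W.subgroupOf N : Subgroup ↥N) : Set ↥N)).map N.subtype := ⟨_, rfl⟩
  have hsec : ∀ (K R : Subgroup G) [(R.subgroupOf K).Normal],
      centralizer (Cfsg.pCore 2 (K ⧸ R.subgroupOf K) : Set (K ⧸ R.subgroupOf K)) ≤
        Cfsg.pCore 2 (K ⧸ R.subgroupOf K) →
      Cfsg.IsCompositionKGroupWith Cfsg.IsSuzukiOrPSL2OddPowerThree (K ⧸ R.subgroupOf K) := by
    intro K R hR hX
    set X := K ⧸ R.subgroupOf K
    by_cases hlt : Nat.card X < Nat.card G
    · exact hfac X hlt ⟨K, R, hR, ⟨MulEquiv.refl _⟩⟩ hX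
    exfalso
    have h1 : Nat.card X ≤ Nat.card K :=
      Nat.card_le_card_of_surjective _ (QuotientGroup.mk'_surjective (R.subgroupOf K))
    have h2 : Nat.card K ≤ Nat.card G := Subgroup.card_le_card_group K
    have h3 : Nat.card G ≤ Nat.card X := not_lt.1 hlt
    have hK : K = ⊤ := Subgroup.eq_top_of_card_eq K (le_antisymm h2 (h3.trans h1))
    have hb : Function.Bijective (QuotientGroup.mk' (R.subgroupOf K)) :=
      (Nat.bijective_iff_surjective_and_card _).2
        ⟨QuotientGroup.mk'_surjective _, le_antisymm (h2.trans h3) h1⟩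
    let e : G ≃* X :=
      ((Subgroup.topEquiv.symm).trans (MulEquiv.subgroupCongr hK.symm)).trans (MulEquiv.ofBijective _ hb)
    haveI : IsSimpleGroup X :=
      haveI : Nontrivial X := e.toEquiv.symm.nontrivial
      IsSimpleGroup.isSimpleGroup_of_surjective e.toMonoidHom e.surjective
    have hnaX : ¬ IsMulCommutative X := fun hc => hna ⟨⟨fun a b => e.injective (by
      rw [map_mul, map_mul]; exact hc.is_comm.comm _ _)⟩⟩
    rw [pCore_eq_bot hnaX] at hX
    refine hnaX ⟨⟨fun a b => ?_⟩⟩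
    have ha : a ∈ (⊥ : Subgroup X) := hX (mem_centralizer_iff.2 fun y hy => by
      rw [Subgroup.mem_bot.1 hy, one_mul, mul_one])
    rw [Subgroup.mem_bot.1 ha, one_mul, mul_one]
  obtain ⟨hAS, hAe, hAsc, -⟩ := S2796.result hfree hsec S N hN A hA
  refine ⟨A, fun e => ?_, hAe.1, S, hAsc⟩
  have hSne : (S : Subgroup G) ≠ ⊥ := fun hS => by
    have hodd : Odd (Nat.card G) := by
      refine Nat.not_even_iff_odd.1 fun he => S.not_dvd_index ?_
      rw [hS, Subgroup.index_bot]
      exact he.two_dvd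
    haveI := Bender.AbelianSolvable.odd_solvable' hodd
    exact hna ⟨⟨IsSimpleGroup.comm_iff_isSolvable.2 inferInstance⟩⟩
  haveI : Nontrivial (S : Subgroup G) := (S : Subgroup G).bot_or_nontrivial.resolve_left hSne
  haveI := S.isPGroup'.center_nontrivial
  obtain ⟨z, hz⟩ : ∃ z : center (S : Subgroup G), orderOf z = 2 := by
    refine exists_prime_orderOf_dvd_card' 2 ?_
    obtain ⟨k, hk⟩ := IsPGroup.iff_card.1 (S.isPGroup'.to_subgroup (center (S : Subgroup G)))
    rw [hk]
    refine dvd_pow_self 2 fun k0 => ?_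
    have := Finite.one_lt_card (α := center (S : Subgroup G))
    rw [hk, k0, pow_zero] at this
    omega
  set z' : G := ((z : (S : Subgroup G)) : G) with hz'
  have hord : orderOf z' = 2 := by rw [hz', Subgroup.orderOf_coe, Subgroup.orderOf_coe, hz]
  have hzc : ∀ s ∈ (S : Subgroup G), s * z' = z' * s := fun s hs =>
    congrArg Subtype.val (mem_center_iff.1 z.2 ⟨s, hs⟩)
  have hzW : z' ∈ W := subset_closure ⟨⟨(z : (S : Subgroup G)).2, mem_centralizer_iff.2 hzc⟩, by
    rw [← hord, pow_orderOf_eq_one]⟩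
  have hzN : z' ∈ N := by
    rw [hN]
    refine Subgroup.centralizer_le_normalizer _ (mem_centralizer_iff.2 fun j hj => hzc j ?_)
    exact Subgroup.map_subtype_le _ hj
  have hzA : z' ∈ A := hA ▸ ⟨⟨z', hzN⟩, Subgroup.subset_normalClosure hzW, rfl⟩
  rw [e, Subgroup.mem_bot] at hzA
  rw [hzA, orderOf_one] at hord
  omega

end Cfsg.Agent.Goldschmidt
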