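import Cfsg.Agent.Lib.Goldschmidt.ConsumerBase
import Cfsg.Agent.Lib.Walter.JR.Plumb
import Cfsg.Agent.Lib.Lead.ZEmbedded
import Cfsg.Agent.Lib.Lead.JankoOne.Model
import Cfsg.Agent.Lib.Solv.AbelianTwo.Main
import Cfsg.Agent.Lib.Solv.CpQuotient.Basic
import Cfsg.Agent.Lib.LocalEven.IsolatedGroup
import Cfsg.Agent.Lib.Lie.HJType.FourNormalizer
import Cfsg.Agent.Lib.SECrit.SEIn
import Cfsg.Agent.Lib.UFour.Tools
import Cfsg.Agent.S1224
import Cfsg.Agent.S0810
import Cfsg.Agent.S0253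

/-!
# Strongly closed abelian subgroups in simple groups of even type (S1794)

A strongly embedded subgroup lies in a maximal one, which is strongly embedded and hence strongly `Z`-embedded for the
class of any 2-central involution; with abelian Sylow 2-subgroups even type leaves `PSL₂(2ⁿ)` and `J₁`.
-/

set_option autoImplicit false
set_option linter.style.haveILetI false
set_option linter.unusedSectionVars false

namespace Cfsg.Agent.Goldschmidt

open Subgroup
open Cfsg.Agent.Solv.AbelianTwo (Ab2)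
open Cfsg.Agent.Local.SCA (SC)
open scoped commutatorElement

universe u

variable {G : Type u} [Group G] [Finite G]

theorem se_conj_mem {M : Subgroup G} (hM : Cfsg.IsStronglyEmbedded M) {g t : G} (ht : orderOf t = 2) (htM : t ∈ M)
    (h : g * t * g⁻¹ ∈ M) : g ∈ M := by
  by_contra hg
  refine SEB.even_of_invol_mem (t := t) ht (K := M ⊓ M.map (MulAut.conj g⁻¹).toMonoidHom)
    (show t ∈ M ⊓ M.map (MulAut.conj g⁻¹).toMonoidHom from ⟨htM, g * t * g⁻¹, h, ?_⟩) (hM.2.2 g⁻¹ fun hh => hg (by simpa using inv_mem hh))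
  show g⁻¹ * (g * t * g⁻¹) * g⁻¹⁻¹ = t
  group

theorem exists_invol_of_even {M : Subgroup G} (he : Even (Nat.card M)) : ∃ t ∈ M, orderOf t = 2 := by
  haveI : Fact (Nat.Prime 2) := ⟨Nat.prime_two⟩
  obtain ⟨t, ht⟩ := exists_prime_orderOf_dvd_card' 2 he.two_dvd
  exact ⟨t, t.2, by rw [Subgroup.orderOf_coe, ht]⟩

/-- A strongly embedded subgroup contains a Sylow 2-subgroup. -/
theorem exists_sylow_le_of_se {M : Subgroup G} (hM : Cfsg.IsStronglyEmbedded M) :
    ∃ P : Sylow 2 G, (P : Subgroup G) ≤ M := by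
  haveI : Fact (Nat.Prime 2) := ⟨Nat.prime_two⟩
  obtain ⟨Q⟩ : Nonempty (Sylow 2 M) := inferInstance
  obtain ⟨P, hP⟩ := (Q.isPGroup'.map M.subtype).exists_le_sylow
  refine ⟨P, ?_⟩
  by_contra hle
  set Q' := (Q : Subgroup M).map M.subtype
  obtain ⟨t, ht⟩ := exists_prime_orderOf_dvd_card' 2 (Q.dvd_card_of_dvd_card hM.2.1.two_dvd)
  have htQ : ((t : M) : G) ∈ Q' := ⟨t, t.2, rfl⟩
  have ht2 : orderOf ((t : M) : G) = 2 := by rw [Subgroup.orderOf_coe, Subgroup.orderOf_coe, ht]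
  have hne : Q' ≠ (P : Subgroup G) := fun e => hle (e ▸ Subgroup.map_subtype_le _)
  haveI := P.isPGroup'.isNilpotent
  have hlt : Q'.subgroupOf (P : Subgroup G) < ⊤ := lt_top_iff_ne_top.2 fun e =>
    hne (le_antisymm hP (Subgroup.subgroupOf_eq_top.1 e))
  obtain ⟨n, hn, hnQ⟩ := SetLike.exists_of_lt (Group.normalizerCondition_of_isNilpotent _ hlt)
  have hnt : (n : G) * ((t : M) : G) * (n : G)⁻¹ ∈ Q' :=
    Subgroup.mem_subgroupOf.1 ((Subgroup.mem_normalizer_iff.1 hn ⟨_, hP htQ⟩).1 (Subgroup.mem_subgroupOf.2 htQ))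
  have hnM : (n : G) ∈ M := se_conj_mem hM ht2 (t : M).2 (Subgroup.map_subtype_le _ hnt)
  have hbig : Q' ≤ (P : Subgroup G) ⊓ M := le_inf hP (Subgroup.map_subtype_le _)
  have heq := Q.is_maximal' (Q := ((P : Subgroup G) ⊓ M).subgroupOf M)
    ((P.isPGroup'.to_le inf_le_left).of_equiv (Subgroup.subgroupOfEquivOfLe inf_le_right).symm)
    fun x hx => Subgroup.mem_subgroupOf.2 (hbig ⟨x, hx, rfl⟩)
  refine hnQ (Subgroup.mem_subgroupOf.2 ⟨⟨n, hnM⟩, ?_, rfl⟩)
  have h0 : (⟨n, hnM⟩ : M) ∈ ((P : Subgroup G) ⊓ M).subgroupOf M := Subgroup.mem_subgroupOf.2 ⟨n.2, hnM⟩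
  rw [heq] at h0
  exact h0

theorem control_of_se {M : Subgroup G} (hM : Cfsg.IsStronglyEmbedded M) (T : Sylow 2 M) :
    Cfsg.ControlsFusion M ((T : Subgroup M).map M.subtype) := by
  intro A g hA hgA
  by_cases h1 : ∃ a ∈ A, a ≠ 1
  · obtain ⟨a, ha, ha1⟩ := h1
    obtain ⟨b, hbT, hb⟩ := hA ha
    obtain ⟨k, hk⟩ := T.isPGroup' ⟨b, hbT⟩
    have hk' : a ^ 2 ^ k = 1 := by
      rw [← hb, ← map_pow]
      exact (congrArg (fun x : (T : Subgroup M) => M.subtype (x : M)) hk).trans (map_one _)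
    obtain ⟨j, -, hj⟩ := (Nat.dvd_prime_pow Nat.prime_two).1 (orderOf_dvd_of_pow_eq_one hk')
    obtain ⟨j, rfl⟩ := Nat.exists_eq_succ_of_ne_zero (n := j) fun e => ha1 (orderOf_eq_one_iff.1 (by rw [hj, e, pow_zero]))
    have hs : orderOf (a ^ 2 ^ j) = 2 := by
      rw [orderOf_pow_of_dvd (pow_ne_zero _ two_ne_zero) (hj ▸ pow_dvd_pow 2 j.le_succ), hj,
        Nat.pow_div j.le_succ two_pos, Nat.succ_sub j.le_refl, Nat.sub_self, pow_one]
    have haM : a ∈ M := Subgroup.map_subtype_le _ (hA ha)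
    have hgaM : g * a * g⁻¹ ∈ M := Subgroup.map_subtype_le _ (hgA ⟨a, ha, rfl⟩)
    exact ⟨g, se_conj_mem hM hs (pow_mem haM _) (by rw [← conj_pow]; exact pow_mem hgaM _), rfl⟩
  · push Not at h1
    refine ⟨1, one_mem _, Set.image_congr fun a ha => ?_⟩
    rw [h1 a ha]
    group

/-- A strongly embedded maximal subgroup is strongly `Z`-embedded. -/
theorem zEmbedded_of_se [IsSimpleGroup G] {M : Subgroup G} (hM : Cfsg.IsStronglyEmbedded M) {z : G}
    (hz : orderOf z = 2) : Cfsg.IsStronglyZEmbedded (conjugatesOf z) M := by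
  haveI : Fact (Nat.Prime 2) := ⟨Nat.prime_two⟩
  obtain ⟨s, hsM, hs⟩ := exists_invol_of_even hM.2.1
  refine ⟨hM.1, ⟨s, Fusion.SEPairs.involutions_conj hM hz hs, hsM⟩, fun x hx hxM g hg => ?_,
    ⟨Classical.arbitrary _, control_of_se hM _⟩, fun H _ ⟨x, hxZ, hxH⟩ hHM => ?_⟩
  · obtain ⟨c, rfl⟩ := isConj_iff.1 (show IsConj z x from hx)
    refine se_conj_mem hM (Fusion.SEPairs.conj_involution hz c) hxM ?_
    rw [Subgroup.mem_centralizer_singleton_iff.1 hg, mul_inv_cancel_right]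
    exact hxM
  obtain ⟨hxH, hxM⟩ := Subgroup.mem_inf.1 hxH
  obtain ⟨c, hc⟩ := isConj_iff.1 (show IsConj z x from hxZ)
  have hx2 : orderOf x = 2 := hc ▸ Fusion.SEPairs.conj_involution hz c
  set W := Subgroup.closure (conjugatesOf z ∩ (H : Set G))
  have hxW : x ∈ W := Subgroup.subset_closure ⟨hxZ, hxH⟩
  have hWM : ¬ W ≤ M := fun hle => by
    obtain ⟨h, hh, hhM⟩ := SetLike.not_le_iff_exists.1 hHM
    refine hhM (se_conj_mem hM hx2 hxM (hle (Subgroup.subset_closure ⟨?_, mul_mem (mul_mem hh hxH) (inv_mem hh)⟩)))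
    exact (show IsConj z x from hxZ).trans (isConj_iff.2 ⟨h, rfl⟩)
  refine ⟨hWM, ?_⟩
  have hse : Cfsg.IsStronglyEmbedded (M.subgroupOf W) :=
    SECrit.se_in hWM hx2 hxW hxM fun g _ hgM t _ ht htM h => hgM (by
      have h' := se_conj_mem hM (g := g⁻¹) ht htM (by rwa [inv_inv])
      simpa using inv_mem h')
  rw [show (W ⊓ M).subgroupOf W = M.subgroupOf W by
    rw [inf_comm, Subgroup.inf_subgroupOf_right]]
  obtain ⟨P, hP⟩ := exists_sylow_le_of_se hse
  exact ZEmb.spe_of_se hse P hP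

/-- A maximal subgroup over a strongly embedded one. -/
theorem exists_zEmbedded [IsSimpleGroup G] {H : Subgroup G} (hH : Cfsg.IsStronglyEmbedded H) :
    ∃ (M : Subgroup G) (z : G), IsCoatom M ∧ Cfsg.IsTwoCentralInvolution z ∧
      Cfsg.IsStronglyZEmbedded (conjugatesOf z) M := by
  haveI : Fact (Nat.Prime 2) := ⟨Nat.prime_two⟩
  obtain ⟨M, hM, hHM⟩ := (IsCoatomic.eq_top_or_exists_le_coatom H).resolve_left hH.1
  have hse : Cfsg.IsStronglyEmbedded M := by
    refine ⟨hM.1, (even_iff_two_dvd.2 (hH.2.1.two_dvd.trans (Subgroup.card_dvd_of_le hHM))), fun g hg => ?_⟩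
    refine SEB.odd_of_no_invol fun t ht ht2 => hg ?_
    obtain ⟨htM, y, hy, e⟩ := ht
    have hy2 : orderOf y = 2 := by rw [← ht2, ← e]; exact (MulEquiv.orderOf_eq (MulAut.conj g) y).symm
    obtain ⟨s, hsH, hs⟩ := exists_invol_of_even hH.2.1
    -- both involutions are conjugate to one of `H`, and `H` controls them
    have key : ∀ v ∈ M, orderOf v = 2 → ∃ m ∈ M, m * v * m⁻¹ ∈ H := by
      intro v hv hv2
      obtain ⟨P, hP⟩ := exists_sylow_le_of_se hH
      obtain ⟨R, hR⟩ := (IsPGroup.of_card (n := 1) (by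
        rw [Nat.card_zpowers, Subgroup.orderOf_mk, hv2, pow_one]) :
          IsPGroup 2 (zpowers (⟨v, hv⟩ : M))).exists_le_sylow
      obtain ⟨m, hm⟩ := MulAction.exists_smul_eq M R (P.subtype (hP.trans hHM))
      exact ⟨m, m.2, hP (hm ▸ ⟨⟨v, hv⟩, hR (mem_zpowers _), rfl⟩ :
        m * (⟨v, hv⟩ : M) * m⁻¹ ∈ (P.subtype (hP.trans hHM) : Subgroup M))⟩
    obtain ⟨m, hm, hmy⟩ := key y hy hy2
    obtain ⟨n, hn, hnt⟩ := key t htM ht2
    have h := se_conj_mem hH (g := n * g * m⁻¹) (Fusion.SEPairs.conj_involution hy2 m) hmy (by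
      rw [show n * g * m⁻¹ * (m * y * m⁻¹) * (n * g * m⁻¹)⁻¹ = n * (g * y * g⁻¹) * n⁻¹ by group,
        show g * y * g⁻¹ = t from e]
      exact hnt)
    have h' := mul_mem (mul_mem (inv_mem hn) (hHM h)) hm
    rwa [show n⁻¹ * (n * g * m⁻¹) * m = g by group] at h'
  obtain ⟨P⟩ : Nonempty (Sylow 2 G) := inferInstance
  obtain ⟨z, hzP, hz2, hzc⟩ : ∃ z ∈ (P : Subgroup G), orderOf z = 2 ∧ ∀ x ∈ (P : Subgroup G), x * z = z * x := by
    haveI : Nontrivial (P : Subgroup G) := by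
      rw [Subgroup.nontrivial_iff_ne_bot]
      intro e
      have h := P.not_dvd_index
      rw [e, Subgroup.index_bot] at h
      exact h (hH.2.1.two_dvd.trans H.card_subgroup_dvd_card)
    have hne := P.isPGroup'.center_nontrivial
    obtain ⟨z, hz⟩ := exists_prime_orderOf_dvd_card' 2
      ((IsPGroup.iff_card.1 (P.isPGroup'.to_subgroup (center ↥(P : Subgroup G)))).elim fun k hk => by
        have h1 := Finite.one_lt_card_iff_nontrivial.2 hne
        rw [hk] at h1 ⊢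
        exact dvd_pow_self 2 fun e => by simp [e] at h1)
    refine ⟨((z : (P : Subgroup G)) : G), (z : (P : Subgroup G)).2, by
      rw [Subgroup.orderOf_coe, Subgroup.orderOf_coe, hz], fun x hx => congrArg Subtype.val
        (Subgroup.mem_center_iff.1 z.2 ⟨x, hx⟩)⟩
  exact ⟨M, z, hM, ⟨hz2, P, hzP, hzc⟩, zEmbedded_of_se hse hz2⟩

/-- With centralisers of involutions inside the abelian Sylow subgroup, its normaliser is strongly embedded. -/
theorem se_normalizer_of_ti [IsSimpleGroup G] (hna : ¬ IsMulCommutative G) (S : Sylow 2 G)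
    (hne : (S : Subgroup G) ≠ ⊥)
    (h : ∀ t ∈ (S : Subgroup G), orderOf t = 2 → centralizer ({t} : Set G) ≤ (S : Subgroup G))
    (hcomm : ∀ a ∈ (S : Subgroup G), ∀ b ∈ (S : Subgroup G), a * b = b * a) :
    Cfsg.IsStronglyEmbedded (normalizer ((S : Subgroup G) : Set G)) := by
  haveI : Fact (Nat.Prime 2) := ⟨Nat.prime_two⟩
  refine ⟨fun e => ?_, ?_, fun g hg => SEB.odd_of_no_invol fun t ht ht2 => hg ?_⟩
  · rcases (Subgroup.normalizer_eq_top_iff.1 e).eq_bot_or_eq_top with e' | e'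
    · exact hne e'
    · exact hna ⟨⟨fun a b => hcomm a (e' ▸ mem_top a) b (e' ▸ mem_top b)⟩⟩
  · obtain ⟨k, hk⟩ := IsPGroup.iff_card.1 S.isPGroup'
    refine even_iff_two_dvd.2 ((?_ : 2 ∣ Nat.card (S : Subgroup G)).trans (Subgroup.card_dvd_of_le le_normalizer))
    rw [hk]
    exact dvd_pow_self 2 fun e => hne (Subgroup.card_eq_one.1 (by rw [hk, e, pow_zero]))
  · obtain ⟨ht1, y, hy, e⟩ := ht
    have he : g * y * g⁻¹ = t := e
    have inS : ∀ v ∈ normalizer ((S : Subgroup G) : Set G), orderOf v = 2 → v ∈ (S : Subgroup G) := by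
      intro v hv hv2
      exact UFour.mem_sylow_of_normalizes hv (a := 1) (by rw [pow_one, ← hv2, pow_orderOf_eq_one])
    have htS := inS t ht1 ht2
    have hyS := inS y hy (by rw [← ht2, ← he]; exact (MulEquiv.orderOf_eq (MulAut.conj g) y).symm)
    refine Fusion.mem_normalizer_of_cj_le fun x hx => h t htS ht2 (mem_centralizer_singleton_iff.2 ?_)
    rw [Fusion.mem_cj] at hx
    have h1 := hcomm _ hx y hyS
    rw [← he]
    calc x * (g * y * g⁻¹) = g * ((g⁻¹ * x * g) * y) * g⁻¹ := by group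
      _ = g * (y * (g⁻¹ * x * g)) * g⁻¹ := by rw [h1]
      _ = g * y * g⁻¹ * x := by group

/-- `PSL₂(2ⁿ)` has a strongly embedded subgroup. -/
theorem se_of_l2_even [IsSimpleGroup G] (hna : ¬ IsMulCommutative G) {F : Type} [Field F] [Fintype F] {n : ℕ}
    (hn : 2 ≤ n) (hF : Fintype.card F = 2 ^ n) (e : G ≃* Matrix.ProjectiveSpecialLinearGroup (Fin 2) F) :
    ∃ H : Subgroup G, Cfsg.IsStronglyEmbedded H := by
  haveI : Fact (Nat.Prime 2) := ⟨Nat.prime_two⟩
  haveI : Finite (Matrix.ProjectiveSpecialLinearGroup (Fin 2) F) := Finite.of_surjective _ Small.PSL2.pr_surjective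
  obtain ⟨P, hP⟩ := (Small.PSL2.isPGroup_U hF).exists_le_sylow
  have hPU : (P : Subgroup (Matrix.ProjectiveSpecialLinearGroup (Fin 2) F)) = Small.PSL2.U := by
    refine le_antisymm (fun g hg => ?_) hP
    haveI : Nontrivial (P : Subgroup (Matrix.ProjectiveSpecialLinearGroup (Fin 2) F)) :=
      ⟨⟨⟨_, hP (Small.PSL2.uS_mem 1)⟩, ⟨_, hP (Small.PSL2.uS_mem 0)⟩, fun h =>
        one_ne_zero (Small.PSL2.pr_uS_inj (congrArg Subtype.val h))⟩⟩
    obtain ⟨z, hz, hz1⟩ : ∃ z ∈ center (P : Subgroup (Matrix.ProjectiveSpecialLinearGroup (Fin 2) F)), z ≠ 1 := by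
      by_contra! hall
      exact (Subgroup.nontrivial_iff_ne_bot _).1 P.isPGroup'.center_nontrivial
        ((Subgroup.eq_bot_iff_forall _).2 hall)
    have hzU : (z : Matrix.ProjectiveSpecialLinearGroup (Fin 2) F) ∈ Small.PSL2.U := by
      refine Small.PSL2.mem_U_of_commute (x := 1) one_ne_zero ?_
      exact congrArg Subtype.val ((Subgroup.mem_center_iff.1 hz ⟨_, hP (Small.PSL2.uS_mem 1)⟩).symm)
    obtain ⟨x, hx⟩ := (Small.PSL2.mem_U _).1 hzU
    refine Small.PSL2.mem_U_of_commute (x := x) (fun h0 => hz1 (Subtype.ext ?_)) ?_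
    · rw [← hx, h0]
      exact map_one (Small.PSL2.uP (F := F))
    · rw [hx]
      exact congrArg Subtype.val (Subgroup.mem_center_iff.1 hz ⟨g, hg⟩)
  let S : Sylow 2 G := P.mapSurjective (f := e.symm.toMonoidHom) e.symm.surjective
  have hS : ∀ g : G, g ∈ (S : Subgroup G) ↔ e g ∈ Small.PSL2.U := by
    intro g
    show g ∈ (P : Subgroup _).map e.symm.toMonoidHom ↔ _
    rw [← hPU, Subgroup.mem_map_equiv, MulEquiv.symm_symm]
  refine ⟨_, se_normalizer_of_ti hna S (fun h0 => ?_) (fun t htS ht g hg => ?_) fun a ha b hb => ?_⟩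
  · have h1 : e.symm (Small.PSL2.pr (Small.PSL2.uS (1 : F))) ∈ (S : Subgroup G) :=
      (hS _).2 (by rw [e.apply_symm_apply]; exact Small.PSL2.uS_mem 1)
    rw [h0, Subgroup.mem_bot] at h1
    have h2 := congrArg e h1
    rw [e.apply_symm_apply, map_one] at h2
    exact one_ne_zero (Small.PSL2.pr_uS_inj (h2.trans (map_one (Small.PSL2.uP (F := F))).symm))
  · obtain ⟨x, hx⟩ := (Small.PSL2.mem_U _).1 ((hS t).1 htS)
    refine (hS g).2 (Small.PSL2.mem_U_of_commute (x := x) (fun h0 => ?_) ?_)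
    · have h1 : t = 1 := e.injective (by rw [← hx, h0, map_one]; exact map_one (Small.PSL2.uP (F := F)))
      rw [h1, orderOf_one] at ht
      omega
    · rw [hx]
      exact (show Commute g t from mem_centralizer_singleton_iff.1 hg).map e
  · refine e.injective ?_
    obtain ⟨x, hx⟩ := (Small.PSL2.mem_U _).1 ((hS a).1 ha)
    obtain ⟨y, hy⟩ := (Small.PSL2.mem_U _).1 ((hS b).1 hb)
    rw [map_mul, map_mul, ← hx, ← hy]
    exact ((Commute.all (Multiplicative.ofAdd x) (Multiplicative.ofAdd y)).map (Small.PSL2.uP (F := F))).eq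

/-- `PSL₂(q)`, `q ≡ 3, 5 (mod 8)`, has 2-rank two. -/
theorem rank_false_of_l2_odd {F : Type} [Field F] [Fintype F]
    (h35 : Fintype.card F % 8 = 3 ∨ Fintype.card F % 8 = 5)
    (e : G ≃* Matrix.ProjectiveSpecialLinearGroup (Fin 2) F) (h3 : Cfsg.PRankAtLeast 2 3 G) : False := by
  haveI : Fact (Nat.Prime 2) := ⟨Nat.prime_two⟩
  obtain ⟨A, hAc, hA2, hAcard⟩ := h3
  have hp : IsPGroup 2 A := fun a => ⟨1, by
    rw [pow_one]; exact Subtype.ext (hA2 a a.2)⟩
  obtain ⟨k, hk⟩ := IsPGroup.iff_card.1 hp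
  have h8 : 2 ^ 3 ∣ Nat.card G := by
    refine (pow_dvd_pow 2 ?_).trans (hk ▸ A.card_subgroup_dvd_card)
    exact (Nat.pow_le_pow_iff_right (by norm_num)).1 (hk ▸ hAcard)
  rw [Nat.card_congr e.toEquiv] at h8
  have hc := Classical.Dickson.card_psl F
  have hg : Nat.gcd 2 (Fintype.card F - 1) = 2 := Nat.gcd_eq_left (by omega)
  rw [hg] at hc
  obtain ⟨r, hr⟩ : ∃ r, Fintype.card F = 8 * r + 3 ∨ Fintype.card F = 8 * r + 5 := ⟨Fintype.card F / 8, by omega⟩
  obtain ⟨m, hm⟩ := h8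
  rw [hm] at hc
  have hsq : (Fintype.card F ^ 2 - 1) % 16 = 8 := by
    rcases hr with hr | hr <;> rw [hr]
    · rw [show (8 * r + 3) ^ 2 - 1 = 16 * (4 * r ^ 2 + 3 * r) + 8 by ring_nf; omega]
      omega
    · rw [show (8 * r + 5) ^ 2 - 1 = 16 * (4 * r ^ 2 + 5 * r + 1) + 8 by ring_nf; omega]
      omega
  have hodd : Fintype.card F % 2 = 1 := by omega
  have h16 : (Fintype.card F * (Fintype.card F ^ 2 - 1)) % 16 = 0 := by rw [← hc]; omega
  rw [Nat.mul_mod, hsq] at h16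
  omega

/-- Of the groups with centraliser `⟨t⟩ × E` only `J₁` has even type. -/
theorem isoJ1_of_jr [IsSimpleGroup G] (hE : Cfsg.IsOfEvenType G) (hJ : Walter.IsJR G) : Cfsg.Spor.IsoJ1 G := by
  classical
  haveI : Fact (Nat.Prime 2) := ⟨Nat.prime_two⟩
  obtain ⟨T, hT8, -⟩ := Walter.cyc_jr hJ
  obtain ⟨-, hab, t, E, N, F, iF, iT, ht, hdp, hNE, hconjN, hFo, hF5, ⟨iso⟩, hCE⟩ := hJ
  haveI : Finite (Matrix.ProjectiveSpecialLinearGroup (Fin 2) F) := Finite.of_surjective _ Small.PSL2.pr_surjective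
  haveI : IsSimpleGroup (Matrix.ProjectiveSpecialLinearGroup (Fin 2) F) := S0810.psl_simple_big (by omega)
  haveI : IsSimpleGroup N := by
    haveI : Nontrivial N := iso.toEquiv.nontrivial
    exact IsSimpleGroup.isSimpleGroup_of_surjective iso.symm.toMonoidHom iso.symm.surjective
  have hNna : ¬ IsMulCommutative N := fun hc =>
    S0810.psl_not_solvable (F := F) (by omega) (Group.isSolvable_of_comm fun a b => iso.symm.injective (by
      rw [map_mul, map_mul]; exact hc.is_comm.comm _ _))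
  have hna : ¬ IsMulCommutative G := fun hc => hNna ⟨⟨fun a b => Subtype.ext (hc.is_comm.comm _ _)⟩⟩
  have hne : centralizer ({t} : Set G) ≠ ⊤ := fun h => by
    have hc : t ∈ center G := mem_center_iff.2 fun g => mem_centralizer_singleton_iff.1 (h ▸ mem_top g)
    rcases (inferInstance : (center G).Normal).eq_bot_or_eq_top with h' | h'
    · rw [h', mem_bot] at hc
      rw [hc, orderOf_one] at ht
      omega
    · exact hna ⟨⟨fun a b => (mem_center_iff.1 (h' ▸ mem_top b : b ∈ center G) a)⟩⟩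
  obtain ⟨hdt, hEC, hcomm, hdisj, hsup⟩ := id hdp
  obtain ⟨Q, hQ⟩ := (IsPGroup.of_card (n := 1) (by rw [Nat.card_zpowers, ht, pow_one]) :
    IsPGroup 2 (zpowers t)).exists_le_sylow
  let D : Lead.JankoRee.RCtx G F :=
    { hG := hna, hab := hab, t := t, ht := ht, hne := hne, E := E, hE := hdp, hFo := hFo, hF3 := by omega
      N := N, N_le := hNE, N_conj := hconjN, iso := iso
      faithful := fun e he h => by
        have h' : e ∈ E ⊓ centralizer (N : Set G) := ⟨he, mem_centralizer_iff.2 fun n hn => (h n hn).symm⟩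
        rwa [hCE, mem_bot] at h'
      S := Q, t_mem := hQ (mem_zpowers t) }
  have h35 := D.h35
  have hidx := D.N_index_odd
  set C := centralizer ({t} : Set G) with hC
  -- `N` is a component of `C`
  have hNn : (N.subgroupOf C).Normal := ⟨fun n hn c => by
    rw [mem_subgroupOf] at hn ⊢
    obtain ⟨a, ha, b, hb, hab'⟩ := Lie.HJType.internal_decomp hdp (c : G) c.2
    obtain ⟨i, rfl⟩ := mem_zpowers_iff.1 ha
    push_cast
    rw [← hab', show t ^ i * b * (n : G) * (t ^ i * b)⁻¹ = t ^ i * (b * n * b⁻¹) * (t ^ i)⁻¹ by group]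
    have h1 := hconjN b hb _ hn
    rw [hcomm _ (zpow_mem (mem_zpowers t) i) _ (hNE h1), mul_inv_cancel_right]
    exact h1⟩
  have hKq : Cfsg.IsQuasisimple ↥(N.subgroupOf C) := by
    refine Local.isQuasisimple_congr (Subgroup.subgroupOfEquivOfLe (hNE.trans hEC)).symm ?_
    have hZ : center N = ⊥ := (inferInstance : (center N).Normal).eq_bot_or_eq_top.resolve_right fun e =>
      hNna ⟨⟨fun a b => (mem_center_iff.1 (e ▸ mem_top b : b ∈ center N) a)⟩⟩
    refine ⟨Group.isPerfect_def.2 ?_, ?_⟩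
    · rcases (inferInstance : (commutator N).Normal).eq_bot_or_eq_top with h | h
      · exact absurd ⟨⟨fun a b => commutatorElement_eq_one_iff_mul_comm.1 (Subgroup.mem_bot.1 (h ▸
          Subgroup.commutator_mem_commutator (mem_top a) (mem_top b) : ⁅a, b⁆ ∈ (⊥ : Subgroup N)))⟩⟩ hNna
      · exact h
    · let q : N ≃* N ⧸ center N := ((QuotientGroup.quotientMulEquivOfEq hZ).trans QuotientGroup.quotientBot).symm
      haveI : Nontrivial (N ⧸ center N) := q.toEquiv.symm.nontrivial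
      exact IsSimpleGroup.isSimpleGroup_of_surjective q.toMonoidHom q.surjective
  have hO : Cfsg.pPrimeCore 2 C = ⊥ := (map_eq_bot_iff_of_injective _ C.subtype_injective).1 (hE.2.1 t ht)
  let eq1 : (↥C ⧸ Cfsg.pPrimeCore 2 C) ≃* C :=
    (QuotientGroup.quotientMulEquivOfEq hO).trans QuotientGroup.quotientBot
  have hcomp := hE.1 t ht _ (LocalEven.Isolated.component_map eq1.symm ⟨hNn.isSubnormal, hKq⟩)
  obtain ⟨-, -, hcp, -⟩ := hcomp
  set K := (N.subgroupOf C).map eq1.symm.toMonoidHom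
  let eK : K ≃* N := (((N.subgroupOf C).equivMapOfInjective _ eq1.symm.injective).symm).trans
    (Subgroup.subgroupOfEquivOfLe (hNE.trans hEC))
  have hZN : center N = ⊥ := (inferInstance : (center N).Normal).eq_bot_or_eq_top.resolve_right fun e =>
    hNna ⟨⟨fun a b => mem_center_iff.1 (e ▸ mem_top b : b ∈ center N) a⟩⟩
  have hZK : center K = ⊥ := (Subgroup.eq_bot_iff_forall _).2 fun z hz => eK.injective (by
    rw [map_one]
    have h1 : eK z ∈ center N := mem_center_iff.2 fun g => eK.symm.injective (by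
      rw [map_mul, map_mul, eK.symm_apply_apply]
      exact mem_center_iff.1 hz _)
    rwa [hZN, mem_bot] at h1)
  have hcN : Cfsg.IsCpSimple 2 N :=
    (Solv.CpQuot.isCpSimple_congr 2 (((QuotientGroup.quotientMulEquivOfEq hZK).trans
      QuotientGroup.quotientBot).trans eK)).1 hcp
  have habN : Ab2 N := Solv.AbelianTwo.of_injective hab N.subtype N.subtype_injective
  obtain ⟨K', iK, iKT, hK', ⟨eK'⟩⟩ := Solv.AbelianTwo.simple_cases hNna hcN habN
  haveI : Finite (Matrix.ProjectiveSpecialLinearGroup (Fin 2) K') := Finite.of_surjective _ Small.PSL2.pr_surjective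
  obtain ⟨G5, i5, iT5, h5, ⟨e5⟩⟩ : ∃ (F' : Type) (_ : Field F') (_ : Fintype F'), Fintype.card F' = 5 ∧
      Nonempty (N ≃* Matrix.ProjectiveSpecialLinearGroup (Fin 2) F') := by
    rcases hK' with hK' | ⟨h4, h2⟩
    · exact ⟨K', iK, iKT, hK', ⟨eK'⟩⟩
    · exfalso
      obtain ⟨p, hp⟩ := CharP.exists K'
      haveI := hp
      obtain ⟨m, hpp, hm⟩ := FiniteField.card K' p
      have hp2 : p = 2 := ((Nat.prime_dvd_prime_iff_eq Nat.prime_two hpp).1
        (Nat.prime_two.dvd_of_dvd_pow (hm ▸ h2))).symm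
      subst hp2
      rw [hm] at h4
      have hm3 : 3 ≤ (m : ℕ) := by
        by_contra hlt
        have := Nat.pow_le_pow_right (show 1 ≤ 2 by norm_num) (show (m : ℕ) ≤ 2 by omega)
        omega
      refine rank_false_of_l2_odd (G := Matrix.ProjectiveSpecialLinearGroup (Fin 2) K') h35 (eK'.symm.trans iso)
        ⟨Small.PSL2.U, ?_, ?_, ?_⟩
      · exact ⟨⟨fun a b => by
          obtain ⟨⟨_, x, rfl⟩, ⟨_, y, rfl⟩⟩ := a, b
          exact Subtype.ext ((Commute.all x y).map (Small.PSL2.uP (F := K'))).eq⟩⟩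
      · rintro _ ⟨x, rfl⟩
        haveI : CharP K' 2 := hp
        rw [pow_two, ← map_mul, show x * x = 1 from (show x.toAdd + x.toAdd = 0 from CharTwo.add_self_eq_zero _),
          map_one]
      · have hU : Nat.card (Small.PSL2.U : Subgroup (Matrix.ProjectiveSpecialLinearGroup (Fin 2) K')) =
            Fintype.card K' := by
          rw [← Nat.card_eq_fintype_card]
          refine (Nat.card_eq_of_bijective (fun x : K' => (⟨Small.PSL2.pr (Small.PSL2.uS x), Small.PSL2.uS_mem x⟩ :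
            Small.PSL2.U)) ⟨fun x y e' => Small.PSL2.pr_uS_inj (congrArg Subtype.val e'), fun g => ?_⟩).symm
          obtain ⟨x, hx⟩ := (Small.PSL2.mem_U _).1 g.2
          exact ⟨x, Subtype.ext hx⟩
        rw [hU, hm]
        exact Nat.pow_le_pow_right (by norm_num) hm3
  -- `E = N`
  let L : Subgroup E := N.subgroupOf E
  haveI : L.Normal := ⟨fun n hn e => mem_subgroupOf.2 (hconjN e e.2 n (mem_subgroupOf.1 hn))⟩
  let iL : L ≃* Matrix.ProjectiveSpecialLinearGroup (Fin 2) G5 := (subgroupOfEquivOfLe hNE).trans e5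
  have hCL : ∀ g : E, (∀ m ∈ L, Commute g m) → g = 1 := by
    intro g hg
    have hm : (g : G) ∈ E ⊓ centralizer (N : Set G) := ⟨g.2, mem_centralizer_iff.2 fun n hn =>
      (congrArg Subtype.val (hg ⟨n, hNE hn⟩ (mem_subgroupOf.2 hn)).eq).symm⟩
    rw [hCE, mem_bot] at hm
    exact Subtype.ext hm
  have hEN : E = N := by
    refine le_antisymm (fun g hg => mem_subgroupOf.1 (show (⟨g, hg⟩ : E) ∈ L from ?_)) hNE
    have h2 : (2 : G5) ≠ 0 := Solv.AbelianTwo.odd_field (by omega)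
    haveI : Fact (Nat.Prime 5) := ⟨by norm_num⟩
    obtain ⟨A, σ, hg⟩ := Walter.JR.exists_pure h2 L iL hidx ⟨g, ‹_›⟩
    rw [Walter.JR.ringEquiv_eq_one h5 σ, map_one, mul_one, Small.PSL2.conjP_toGL,
      ← Classical.CyclicNormalizer.act_emb L iL] at hg
    rw [Classical.CyclicNormalizer.act_inj L iL hCL hg]
    exact Classical.CyclicNormalizer.emb_mem L iL _
  obtain ⟨e5'⟩ := S0253.result h5
  subst hEN
  -- the centraliser
  let f : ↥(zpowers t) × ↥E →* C :=
    { toFun := fun p => ⟨(p.1 : G) * p.2, mul_mem (hdt p.1.2) (hEC p.2.2)⟩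
      map_one' := Subtype.ext (one_mul 1)
      map_mul' := fun p q => Subtype.ext
        ((show Commute (q.1 : G) p.2 from hcomm _ q.1.2 _ p.2.2).symm.mul_mul_mul_comm _ _).symm }
  have hf : Function.Bijective f := by
    refine ⟨?_, fun c => ?_⟩
    · rw [injective_iff_map_eq_one]
      rintro ⟨a, b⟩ h
      have h' : (a : G) * b = 1 := congrArg Subtype.val h
      have hm : (a : G) ∈ zpowers t ⊓ E := ⟨a.2, by rw [eq_inv_of_mul_eq_one_left h']; exact E.inv_mem b.2⟩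
      rw [hdisj, mem_bot] at hm
      rw [hm, one_mul] at h'
      exact Prod.ext (Subtype.ext hm) (Subtype.ext h')
    · obtain ⟨a, ha, b, hb, e⟩ := Lie.HJType.internal_decomp hdp (c : G) c.2
      exact ⟨(⟨a, ha⟩, ⟨b, hb⟩), Subtype.ext e⟩
  let z2 : Multiplicative (ZMod 2) ≃* zpowers t :=
    (mulEquivOfPrimeCardEq (p := 2) (by simp) (by rw [Nat.card_zpowers, ht]))
  exact Lead.JankoOne.isoJ1 (Lead.JankoOne.isTwoCentral_of_comm T (hab T) ht)
    ((MulEquiv.ofBijective f hf).symm.trans (z2.symm.prodCongr (e5.trans e5')))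

/-- The statement S1794 from the induction hypothesis. -/
theorem evenType_cases (hB : ∀ n, Below.{u} n) {G : Type u} [Group G] [Finite G] [IsSimpleGroup G]
    (hG : ¬ IsMulCommutative G) (hE : Cfsg.IsOfEvenType G) (S : Sylow 2 G) (A : Subgroup G) (hA : A ≠ ⊥)
    (hAc : IsMulCommutative A) (hAS : Cfsg.IsStronglyClosed A (S : Subgroup G)) :
    (∃ (M : Subgroup G) (z : G), IsCoatom M ∧ Cfsg.IsTwoCentralInvolution z ∧
      Cfsg.IsStronglyZEmbedded (conjugatesOf z) M) ∨ Cfsg.Spor.IsoJ1 G := by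
  rcases gType_of hB G hG hA hAc ⟨S, hAS⟩ with hab | ⟨H, hH⟩
  · rcases kType_of_ab2 G hG hab with ⟨F, iF, iT, ⟨n, hn, hF⟩ | ⟨h35, -⟩, ⟨e⟩⟩ | hJ
    · obtain ⟨H, hH⟩ := se_of_l2_even hG hn hF e
      exact Or.inl (exists_zEmbedded hH)
    · exact (rank_false_of_l2_odd h35 e hE.2.2).elim
    · exact Or.inr (isoJ1_of_jr hE hJ)
  · exact Or.inl (exists_zEmbedded hH)

end Cfsg.Agent.Goldschmidt
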