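import Cfsg.Agent.Lib.Goldschmidt.Closed.Struct
import Cfsg.Agent.Lib.Goldschmidt.Closed.Invariant
import Cfsg.Agent.Lib.Fusion.Cores

/-!
# Two commuting strongly closed subgroups (S2767)

Each component moved by the intersection meets one of them in the intersection and the other in a Sylow subgroup, so
outside the closure of the intersection the two meet trivially and the product theorem applies.
-/

set_option autoImplicit false
set_option linter.style.haveILetI false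
set_option linter.unusedSectionVars false

namespace Cfsg.Agent.Goldschmidt

open Subgroup Cfsg.Agent
open scoped commutatorElement

universe u

variable {Y : Type u} [Group Y] [Finite Y]

/-- An element of the Sylow subgroup inner on a component is so by an element of the Sylow subgroup. -/
theorem split_sylow {S : Sylow 2 Y} {L : Subgroup Y} (hcore : Cfsg.oddCore Y = ⊥) (hL : Cfsg.IsComponent L) {u : Y}
    (hu : u ∈ (S : Subgroup Y)) (huL : u ∈ L ⊔ centralizer (L : Set Y)) :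
    ∃ l ∈ (S : Subgroup Y) ⊓ L, l⁻¹ * u ∈ centralizer (L : Set Y) := by
  haveI : Fact (Nat.Prime 2) := ⟨Nat.prime_two⟩
  obtain ⟨l, hl, hc⟩ := mem_sup_centralizer huL
  have hpow : ∀ n : ℕ, ∃ c ∈ centralizer (L : Set Y), u ^ n = l ^ n * c := by
    intro n
    induction n with
    | zero => exact ⟨1, one_mem _, by simp⟩
    | succ n ih =>
      obtain ⟨c, hcc, e⟩ := ih
      refine ⟨c * (l⁻¹ * u), mul_mem hcc hc, ?_⟩
      calc u ^ (n + 1) = l ^ n * (c * l) * (l⁻¹ * u) := by rw [pow_succ, e]; group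
        _ = l ^ n * (l * c) * (l⁻¹ * u) := by rw [mem_centralizer_iff.1 hcc l hl]
        _ = l ^ (n + 1) * (c * (l⁻¹ * u)) := by rw [pow_succ]; group
  obtain ⟨j, hj⟩ := S.2 ⟨u, hu⟩
  have hj' : u ^ 2 ^ j = 1 := congrArg Subtype.val hj
  obtain ⟨c, hcc, e⟩ := hpow (2 ^ j)
  rw [hj'] at e
  have hlz : l ^ 2 ^ j ∈ cenL L := by
    refine ⟨pow_mem hl _, ?_⟩
    rw [eq_inv_of_mul_eq_one_left e.symm]
    exact (centralizer (L : Set Y)).inv_mem hcc
  have hzS : l ^ 2 ^ j ∈ (S : Subgroup Y) := CI.fitting_le_sylow hcore S (Solv.center_component_le_fitting hL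
    ⟨⟨_, hlz.1⟩, (mem_center_iff_cenL _).2 hlz, rfl⟩)
  have hp : IsPGroup 2 (zpowers l) := by
    obtain ⟨i, hi⟩ := S.2 ⟨_, hzS⟩
    have hi' : (l ^ 2 ^ j) ^ 2 ^ i = 1 := congrArg Subtype.val hi
    obtain ⟨k, -, hk⟩ := (Nat.dvd_prime_pow Nat.prime_two).1
      (show orderOf l ∣ 2 ^ (j + i) from orderOf_dvd_of_pow_eq_one (by rw [pow_add, pow_mul, hi']))
    exact IsPGroup.of_card (n := k) (by rw [Nat.card_zpowers, hk])
  have hN : l ∈ normalizer (((S : Subgroup Y) ⊓ L : Subgroup Y) : Set Y) := mem_normalizer_fintype fun x hx => by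
    refine ⟨?_, L.mul_mem (L.mul_mem hl hx.2) (L.inv_mem hl)⟩
    have h1 : u * x * u⁻¹ = l * x * l⁻¹ := by
      calc u * x * u⁻¹ = l * ((l⁻¹ * u) * x) * (l⁻¹ * u)⁻¹ * l⁻¹ := by group
        _ = l * (x * (l⁻¹ * u)) * (l⁻¹ * u)⁻¹ * l⁻¹ := by rw [mem_centralizer_iff.1 hc x hx.2]
        _ = l * x * l⁻¹ := by group
    rw [SetLike.mem_coe, ← h1]
    exact (S : Subgroup Y).mul_mem ((S : Subgroup Y).mul_mem hu hx.1) ((S : Subgroup Y).inv_mem hu)
  refine ⟨l, ?_, hc⟩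
  have hsup := IsPGroup.to_sup_of_normal_left' (S.isPGroup'.to_le inf_le_left) hp (zpowers_le.2 hN)
  have he := (CI.comp_sylIn hL S).eq_of_le hsup le_sup_left (sup_le inf_le_right (zpowers_le.2 hl))
  rw [← he]
  exact mem_sup_right (mem_zpowers l)

namespace AbHyp

variable {A : Subgroup Y} (hY : AbHyp Y A) (hb : Below.{u} (Nat.card Y + 1)) {S : Sylow 2 Y}
  (hAS : A ≤ (S : Subgroup Y))
include hY hb hAS

/-- A strongly closed subgroup over `A` meets a moved component in `A` or in its Sylow subgroup. -/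
theorem closed_dichotomy {L : Subgroup Y} (h : Moved (invPart A hY.ab) L) {U : Subgroup Y}
    (hU : Cfsg.IsStronglyClosed U (S : Subgroup Y)) (hAU : A ≤ U) :
    U ⊓ L ≤ A ∨ (S : Subgroup Y) ⊓ L ≤ U := by
  classical
  obtain ⟨hL, hne⟩ := (hY.moved_iff hb hAS).1 h
  obtain ⟨P, W, hQ⟩ := hY.exists_quot hb hAS hL hne
  have hcen := hY.center_le hb hAS hL hQ
  haveI : IsSimpleGroup (L ⧸ Subgroup.center L) := hL.2.2
  have hna := CI.quotient_center_nonab hL.2
  set π := QuotientGroup.mk' (Subgroup.center L) with hπ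
  have hU₀P : (U.subgroupOf L).map π ≤ (P : Subgroup (L ⧸ Subgroup.center L)) := by
    rintro _ ⟨x, hx, rfl⟩
    exact (hQ.mem x).2 (hU.1 hx)
  have hWU : W ≤ (U.subgroupOf L).map π := fun w hw => by
    obtain ⟨x, rfl⟩ := QuotientGroup.mk'_surjective _ w
    obtain ⟨e, he, -, hc⟩ := (hQ.memW x).1 hw
    refine ⟨⟨e, he.2⟩, hAU he.1, QuotientGroup.eq.2 ((mem_center_iff_cenL _).2 ?_)⟩
    simpa using hc
  rcases hQ.type.dichotomy hna hQ.gType hU₀P hWU (fun n hn v hv => by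
    obtain ⟨n, rfl⟩ := QuotientGroup.mk'_surjective _ n
    obtain ⟨x, hx, rfl⟩ := hv
    rw [← map_inv, ← map_mul, ← map_mul]
    refine mem_map_of_mem π ?_
    have h1 := (mem_normalizer_iff.1 hn (π x)).1 ((hQ.mem x).2 (hU.1 hx))
    rw [← map_inv, ← map_mul, ← map_mul, hQ.mem] at h1
    push_cast at h1
    show (((n * x * n⁻¹ : L)) : Y) ∈ U
    push_cast
    exact hU.2 _ hx n h1) with hle | hge
  · left
    intro x hx
    obtain ⟨e, he, -, hc⟩ := (hQ.memW ⟨x, hx.2⟩).1 (hle (mem_map_of_mem π (show (⟨x, hx.2⟩ : L) ∈ U.subgroupOf L from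
      hx.1)))
    rw [show x = e * (e⁻¹ * x) by group]
    exact mul_mem he.1 (hcen _ hc).1
  · right
    intro x hx
    obtain ⟨y, hy, e⟩ := hge ((hQ.mem ⟨x, hx.2⟩).2 hx.1)
    have h1 := (mem_center_iff_cenL _).1 (QuotientGroup.eq.1 e)
    push_cast at h1
    rw [show x = (y : Y) * ((y : Y)⁻¹ * x) by group]
    exact mul_mem hy (hAU (hcen _ h1).1)

/-- What centralises the moved components and lies in the closure lies in `A`. -/
theorem closure_inf_cen {x : Y} (hx : x ∈ normalClosure (A : Set Y))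
    (hc : ∀ L, Moved (invPart A hY.ab) L → x ∈ centralizer (L : Set Y)) : x ∈ A := by
  haveI hEn := hY.movedLayer_normal hb hAS
  haveI hO2 : (Cfsg.pCore 2 Y).Normal := Solv.pCore_normal 2
  set E := movedLayer (invPart A hY.ab)
  haveI hDn : (A ⊓ Cfsg.pCore 2 Y).Normal := ⟨fun d hd y =>
    ⟨hY.closed hAS hd.1 ((haveI : Fact (Nat.Prime 2) := ⟨Nat.prime_two⟩
      (Solv.pCore_isPGroup 2 : IsPGroup 2 (Cfsg.pCore 2 Y))).le_sylow_of_normal S (hO2.conj_mem d hd.2 y)),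
      hO2.conj_mem d hd.2 y⟩⟩
  have hle : normalClosure (A : Set Y) ≤ E ⊔ (A ⊓ Cfsg.pCore 2 Y) := Subgroup.normalClosure_le_normal fun a ha => by
    obtain ⟨e, he, hea, hec⟩ := hY.split hb hAS ha
    rw [show a = e * (e⁻¹ * a) by group]
    exact mul_mem (mem_sup_left he.2) (mem_sup_right ⟨hea, hY.mem_pCore hAS hea hec⟩)
  have hx' := hle hx
  rw [Subgroup.mem_sup_of_normal_left] at hx'
  obtain ⟨e, he, d, hd, rfl⟩ := hx'
  refine mul_mem (hY.central_mem hb hAS he fun L hL => ?_) hd.1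
  have hdc : d ∈ centralizer (L : Set Y) := by
    haveI : Fact (Nat.Prime 2) := ⟨Nat.prime_two⟩
    haveI := (Solv.pCore_isPGroup 2 : IsPGroup 2 (Cfsg.pCore 2 Y)).isNilpotent
    exact mem_centralizer_iff.2 fun l hl => (mem_centralizer_iff.1 (commutator_eq_bot_iff_le_centralizer.1
      (Solv.component_commutes_solvable hL.1 hO2.isSubnormal inferInstance) hl) d hd.2).symm
  have h1 := mul_mem (hc L hL) (inv_mem hdc)
  rwa [mul_inv_cancel_right] at h1

theorem moved_le_closure {L : Subgroup Y} (h : Moved (invPart A hY.ab) L) : L ≤ normalClosure (A : Set Y) := by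
  refine (Solv.component_subnormal_dichotomy h.1 (normalClosure_normal (s := (A : Set Y))).isSubnormal).resolve_right
    fun hc => ((hY.moved_iff hb hAS).1 h).2 fun a ha => ?_
  refine mem_centralizer_iff.2 fun l hl => ?_
  exact (mem_centralizer_iff.1 (commutator_eq_bot_iff_le_centralizer.1 hc hl) a (subset_normalClosure ha)).symm

variable {S₁ S₂ : Subgroup Y} (h₁ : Cfsg.IsStronglyClosed S₁ (S : Subgroup Y))
  (h₂ : Cfsg.IsStronglyClosed S₂ (S : Subgroup Y)) (hinf : S₁ ⊓ S₂ = A) (hc : ∀ a ∈ S₁, ∀ b ∈ S₂, a * b = b * a)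
include h₁ h₂ hinf hc

omit hb in
theorem comm_closed {x a : Y} (hx : x ∈ S₁ ∨ x ∈ S₂) (ha : a ∈ A) : x * a = a * x := by
  rcases hx with hx | hx
  · exact hc x hx a (hinf.symm.le ha).2
  · exact (hc a (hinf.symm.le ha).1 x hx).symm

omit hb in
theorem normalises_closed {L : Subgroup Y} (hL : Cfsg.IsComponent L) (hne : ¬ A ≤ centralizer (L : Set Y)) {x : Y}
    (hx : x ∈ S₁ ∨ x ∈ S₂) : x ∈ normalizer (L : Set Y) := by
  by_contra hn
  have hne' : L.map (MulAut.conj x).toMonoidHom ≠ L := fun e => hn (Fusion.mem_normalizer_iff_cj.2 e)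
  have hcom := commutator_eq_bot_iff_le_centralizer.1
    (Solv.components_commute hL (Solv.component_conj hL x) hne'.symm)
  refine hne (hY.centralises hAS hL fun e he heL g hg => (mem_centralizer_iff.1 (hcom hg) e ⟨e, heL, ?_⟩).symm)
  show x * e * x⁻¹ = e
  rw [hY.comm_closed hAS h₁ h₂ hinf hc hx he, mul_inv_cancel_right]

/-- An element of a subgroup that meets the component in `A` acts as an element of `A`. -/
theorem span_closed {L : Subgroup Y} (h : Moved (invPart A hY.ab) L) {U : Subgroup Y}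
    (hU : Cfsg.IsStronglyClosed U (S : Subgroup Y)) (hUL : U ⊓ L ≤ A) (hU12 : ∀ x ∈ U, x ∈ S₁ ∨ x ∈ S₂) {u : Y}
    (hu : u ∈ U) : ∃ e ∈ A ⊓ L, e⁻¹ * u ∈ centralizer (L : Set Y) := by
  obtain ⟨hL, hne⟩ := (hY.moved_iff hb hAS).1 h
  have hC := hY.abComp hb hAS hL hne
  have huN := hY.normalises_closed hAS h₁ h₂ hinf hc hL hne (hU12 u hu)
  obtain ⟨e, he, hec⟩ := hC.inner u (hU.1 hu) huN (fun e he => hY.comm_closed hAS h₁ h₂ hinf hc (hU12 u hu) he.1)
    fun x hx => hUL ⟨by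
      have h1 : x⁻¹ * u * x⁻¹⁻¹ ∈ U := hU.2 u hu x⁻¹
        (mul_mem (mul_mem (inv_mem hx.1) (hU.1 hu)) (inv_mem (inv_mem hx.1)))
      have := mul_mem h1 (inv_mem hu)
      rwa [show x⁻¹ * u * x⁻¹⁻¹ * u⁻¹ = x⁻¹ * (u * x * u⁻¹) by group] at this,
      L.mul_mem (L.inv_mem hx.2) ((mem_normalizer_iff.1 huN x).1 hx.2)⟩
  exact ⟨e, ⟨hY.mem_of_turn hb hAS hC (fun x hx g hg => hU.2 x hx g hg) hUL hu (hU.1 hu) he hec, he.2⟩, hec⟩

/-- If the first contains the Sylow subgroup of a component, it contains those of the conjugate components. -/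
theorem sylow_le_conj {U : Subgroup Y} (hU : Cfsg.IsStronglyClosed U (S : Subgroup Y)) {L : Subgroup Y}
    (hL : Cfsg.IsComponent L) (hle : (S : Subgroup Y) ⊓ L ≤ U) (g : Y) :
    (S : Subgroup Y) ⊓ L.map (MulAut.conj g).toMonoidHom ≤ U := by
  haveI : Fact (Nat.Prime 2) := ⟨Nat.prime_two⟩
  intro y hy
  have hsyl := CI.comp_sylIn hL S
  obtain ⟨x, hxL, hxy⟩ := hy.2
  change g * x * g⁻¹ = y at hxy
  have hp : IsPGroup 2 (zpowers x) := by
    obtain ⟨j, hj⟩ := S.2 ⟨y, hy.1⟩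
    have hj' : y ^ 2 ^ j = 1 := congrArg Subtype.val hj
    rw [← hxy, conj_pow, mul_inv_eq_one, mul_eq_left] at hj'
    obtain ⟨k, -, hk⟩ := (Nat.dvd_prime_pow Nat.prime_two).1 (orderOf_dvd_of_pow_eq_one hj')
    exact IsPGroup.of_card (n := k) (by rw [Nat.card_zpowers, hk])
  obtain ⟨l, hl, hlle⟩ := hsyl.conj_le hp (zpowers_le.2 hxL)
  have h1 : l * x * l⁻¹ ∈ U := hle (hlle ⟨x, mem_zpowers x, rfl⟩)
  have h2 := hU.2 _ h1 (g * l⁻¹) (by
    rw [show g * l⁻¹ * (l * x * l⁻¹) * (g * l⁻¹)⁻¹ = g * x * g⁻¹ by group, hxy]; exact hy.1)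
  rwa [show g * l⁻¹ * (l * x * l⁻¹) * (g * l⁻¹)⁻¹ = g * x * g⁻¹ by group, hxy] at h2

/-- The two subgroups meet in `A` modulo the closure of `A`. -/
theorem inf_closure {x₁ x₂ : Y} (hx₁ : x₁ ∈ S₁) (hx₂ : x₂ ∈ S₂) (hm : x₂⁻¹ * x₁ ∈ normalClosure (A : Set Y)) :
    x₁ ∈ normalClosure (A : Set Y) := by
  classical
  haveI := Fintype.ofFinite (Subgroup Y)
  haveI hEn := hY.movedLayer_normal hb hAS
  set K := normalClosure (A : Set Y) with hK
  have hAK : A ≤ K := subset_normalClosure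
  have hA1 : A ≤ S₁ := fun a ha => (hinf.symm.le ha).1
  have hA2 : A ≤ S₂ := fun a ha => (hinf.symm.le ha).2
  have hmS : x₂⁻¹ * x₁ ∈ (S : Subgroup Y) := mul_mem (inv_mem (h₂.1 hx₂)) (h₁.1 hx₁)
  have hKLC : ∀ L, Moved (invPart A hY.ab) L → K ≤ L ⊔ centralizer (L : Set Y) := fun L hL => by
    intro y hy
    haveI hO2 : (Cfsg.pCore 2 Y).Normal := Solv.pCore_normal 2
    have hle : K ≤ movedLayer (invPart A hY.ab) ⊔ Cfsg.pCore 2 Y := Subgroup.normalClosure_le_normal fun a ha => by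
      obtain ⟨e, he, hea, hec⟩ := hY.split hb hAS ha
      rw [show a = e * (e⁻¹ * a) by group]
      exact mul_mem (mem_sup_left he.2) (mem_sup_right (hY.mem_pCore hAS hea hec))
    refine sup_le (movedLayer_le_sup hL) (le_sup_of_le_right fun d hd => ?_) (hle hy)
    haveI : Fact (Nat.Prime 2) := ⟨Nat.prime_two⟩
    haveI := (Solv.pCore_isPGroup 2 : IsPGroup 2 (Cfsg.pCore 2 Y)).isNilpotent
    exact mem_centralizer_iff.2 fun l hl => (mem_centralizer_iff.1 (commutator_eq_bot_iff_le_centralizer.1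
      (Solv.component_commutes_solvable hL.1 hO2.isSubnormal inferInstance) hl) d hd).symm
  -- both act as their own elements on every component
  have key : ∀ L, Moved (invPart A hY.ab) L →
      (∃ e ∈ S₁ ⊓ L, e⁻¹ * x₁ ∈ centralizer (L : Set Y)) ∧ ∃ e ∈ S₂ ⊓ L, e⁻¹ * x₂ ∈ centralizer (L : Set Y) := by
    intro L hL
    obtain ⟨l, hl, hlc⟩ := split_sylow hY.core hL.1 hmS (hKLC L hL hm)
    have hcase1 : S₁ ⊓ L ≤ A → ∃ e₁ ∈ A ⊓ L, e₁⁻¹ * x₁ ∈ centralizer (L : Set Y) := fun h =>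
      hY.span_closed hb hAS h₁ h₂ hinf hc hL h₁ h (fun x hx => Or.inl hx) hx₁
    have hcase2 : S₂ ⊓ L ≤ A → ∃ e₂ ∈ A ⊓ L, e₂⁻¹ * x₂ ∈ centralizer (L : Set Y) := fun h =>
      hY.span_closed hb hAS h₁ h₂ hinf hc hL h₂ h (fun x hx => Or.inr hx) hx₂
    -- an inner action of one gives one of the other
    have hswap : ∀ {e : Y}, e ∈ (S : Subgroup Y) ⊓ L → e⁻¹ * x₂ ∈ centralizer (L : Set Y) →
        (e * l)⁻¹ * x₁ ∈ centralizer (L : Set Y) := fun {e} he hec => by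
      rw [show (e * l)⁻¹ * x₁ = (l⁻¹ * (e⁻¹ * x₂) * l) * (l⁻¹ * (x₂⁻¹ * x₁)) by group]
      refine mul_mem ?_ hlc
      rw [mul_assoc, ← mem_centralizer_iff.1 hec l hl.2, inv_mul_cancel_left]
      exact hec
    have hswap' : ∀ {e : Y}, e ∈ (S : Subgroup Y) ⊓ L → e⁻¹ * x₁ ∈ centralizer (L : Set Y) →
        (e * l⁻¹)⁻¹ * x₂ ∈ centralizer (L : Set Y) := fun {e} he hec => by
      rw [show (e * l⁻¹)⁻¹ * x₂ = (l * (e⁻¹ * x₁) * l⁻¹) * (l * (l⁻¹ * (x₂⁻¹ * x₁))⁻¹ * l⁻¹) by group]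
      refine mul_mem ?_ ?_
      · rw [mem_centralizer_iff.1 hec l hl.2, mul_inv_cancel_right]
        exact hec
      · rw [mem_centralizer_iff.1 (inv_mem hlc) l hl.2, mul_inv_cancel_right]
        exact inv_mem hlc
    rcases hY.closed_dichotomy hb hAS hL h₁ hA1 with d1 | d1
    · obtain ⟨e, he, hec⟩ := hcase1 d1
      refine ⟨⟨e, ⟨hA1 he.1, he.2⟩, hec⟩, ?_⟩
      rcases hY.closed_dichotomy hb hAS hL h₂ hA2 with d2 | d2
      · obtain ⟨e', he', hec'⟩ := hcase2 d2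
        exact ⟨e', ⟨hA2 he'.1, he'.2⟩, hec'⟩
      · exact ⟨e * l⁻¹, ⟨d2 ⟨(S : Subgroup Y).mul_mem (hAS he.1) ((S : Subgroup Y).inv_mem hl.1), L.mul_mem he.2 (L.inv_mem hl.2)⟩,
          L.mul_mem he.2 (L.inv_mem hl.2)⟩, hswap' ⟨hAS he.1, he.2⟩ hec⟩
    · have d2 : S₂ ⊓ L ≤ A := fun x hx => hinf.le ⟨d1 ⟨h₂.1 hx.1, hx.2⟩, hx.1⟩
      obtain ⟨e, he, hec⟩ := hcase2 d2
      exact ⟨⟨e * l, ⟨d1 ⟨mul_mem (hAS he.1) hl.1, L.mul_mem he.2 hl.2⟩, L.mul_mem he.2 hl.2⟩,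
        hswap ⟨hAS he.1, he.2⟩ hec⟩, e, ⟨hA2 he.1, he.2⟩, hec⟩
  set Mv := Finset.univ.filter fun L => Moved (invPart A hY.ab) L
  have hMv : ∀ L ∈ Mv, Moved (invPart A hY.ab) L := fun L hL => (Finset.mem_filter.1 hL).2
  obtain ⟨e, he, hin, -⟩ := absorb_family Mv (fun L hL => (hMv L hL).1) fun L hL => (key L (hMv L hL)).1
  obtain ⟨e', he', hin', -⟩ := absorb_family Mv (fun L hL => (hMv L hL).1) fun L hL => (key L (hMv L hL)).2
  have hEK : sSup (Mv : Set (Subgroup Y)) ≤ K := sSup_le fun L hL =>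
    hY.moved_le_closure hb hAS (hMv L (Finset.mem_coe.1 hL))
  set c := e⁻¹ * x₁
  set c' := e'⁻¹ * x₂
  have hcK : c'⁻¹ * c ∈ K := by
    rw [show c'⁻¹ * c = (x₂⁻¹ * e' * x₂⁻¹⁻¹) * (x₂⁻¹ * e⁻¹ * x₂⁻¹⁻¹) * (x₂⁻¹ * x₁) by simp only [c, c']; group]
    exact mul_mem (mul_mem ((normalClosure_normal (s := (A : Set Y))).conj_mem _ (hEK he'.2) _)
      ((normalClosure_normal (s := (A : Set Y))).conj_mem _ (K.inv_mem (hEK he.2)) _)) hm
  have hcA : c'⁻¹ * c ∈ A := hY.closure_inf_cen hb hAS hcK fun L hL =>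
    mul_mem (inv_mem (hin' L (Finset.mem_filter.2 ⟨Finset.mem_univ _, hL⟩)))
      (hin L (Finset.mem_filter.2 ⟨Finset.mem_univ _, hL⟩))
  have hc1 : c ∈ S₁ := mul_mem (inv_mem he.1) hx₁
  have hc2 : c ∈ S₂ := by
    have := S₂.mul_mem (S₂.mul_mem (S₂.inv_mem he'.1) hx₂) (hA2 hcA)
    rwa [mul_inv_cancel_left] at this
  rw [show x₁ = e * c by simp only [c]; group]
  exact K.mul_mem (hEK he.2) (hAK (hinf.le ⟨hc1, hc2⟩))

/-- One of the two normal closures acts by inner automorphisms. -/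
theorem commutator_inner {L : Subgroup Y} (hL : Moved (invPart A hY.ab) L) :
    ⁅normalClosure (S₁ : Set Y), normalClosure (S₂ : Set Y)⁆ ≤ L ⊔ centralizer (L : Set Y) := by
  have hA1 : A ≤ S₁ := fun a ha => (hinf.symm.le ha).1
  have hA2 : A ≤ S₂ := fun a ha => (hinf.symm.le ha).2
  have hmv : ∀ g : Y, Moved (invPart A hY.ab) (L.map (MulAut.conj g).toMonoidHom) :=
    (hY.localHyp hb).moved_map (hY.invPart_le_sylow hAS) hL
  have main : ∀ (U : Subgroup Y), Cfsg.IsStronglyClosed U (S : Subgroup Y) → (∀ x ∈ U, x ∈ S₁ ∨ x ∈ S₂) →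
      (∀ g : Y, U ⊓ L.map (MulAut.conj g).toMonoidHom ≤ A) →
      normalClosure (U : Set Y) ≤ L ⊔ centralizer (L : Set Y) := by
    intro U hU hU12 hUA
    refine (Subgroup.closure_le _).2 fun y hy => ?_
    obtain ⟨x, hx, hxy⟩ := Group.mem_conjugatesOfSet_iff.1 hy
    obtain ⟨g, rfl⟩ := isConj_iff.1 hxy
    obtain ⟨e, he, hec⟩ := hY.span_closed hb hAS h₁ h₂ hinf hc (hmv g⁻¹) hU (hUA g⁻¹) hU12 hx
    obtain ⟨l, hl, hle⟩ := he.2
    change g⁻¹ * l * g⁻¹⁻¹ = e at hle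
    rw [SetLike.mem_coe, show g * x * g⁻¹ = (g * e * g⁻¹) * (g * (e⁻¹ * x) * g⁻¹) by group]
    refine mul_mem (mem_sup_left ?_) (mem_sup_right (mem_centralizer_iff.2 fun m hm => ?_))
    · rw [← hle, show g * (g⁻¹ * l * g⁻¹⁻¹) * g⁻¹ = l by group]; exact hl
    · have h1 := mem_centralizer_iff.1 hec (g⁻¹ * m * g⁻¹⁻¹) ⟨m, hm, rfl⟩
      calc m * (g * (e⁻¹ * x) * g⁻¹) = g * ((g⁻¹ * m * g⁻¹⁻¹) * (e⁻¹ * x)) * g⁻¹ := by group
        _ = _ := by rw [h1]; group
  by_cases h : ∀ g : Y, S₁ ⊓ L.map (MulAut.conj g).toMonoidHom ≤ A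
  · exact (Subgroup.commutator_le_left _ _).trans (main S₁ h₁ (fun x hx => Or.inl hx) h)
  · push Not at h
    obtain ⟨g₀, hg₀⟩ := h
    have hfull := (hY.closed_dichotomy hb hAS (hmv g₀) h₁ hA1).resolve_left hg₀
    refine (Subgroup.commutator_le_right _ _).trans (main S₂ h₂ (fun x hx => Or.inr hx) fun g x hx => ?_)
    have h1 := hY.sylow_le_conj hb hAS h₁ h₂ hinf hc h₁ (hmv g₀).1 hfull (g * g₀⁻¹)
    have e : (L.map (MulAut.conj g₀).toMonoidHom).map (MulAut.conj (g * g₀⁻¹)).toMonoidHom =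
        L.map (MulAut.conj g).toMonoidHom := by
      have := Fusion.cj_cj L g₀ (g * g₀⁻¹)
      rwa [inv_mul_cancel_right] at this
    rw [e] at h1
    exact hinf.le ⟨h1 ⟨h₂.1 hx.1, hx.2⟩, hx.1⟩

/-- **The commutator of the closures lies in the closure of the intersection.** -/
theorem commutator_le_closure :
    ⁅normalClosure (S₁ : Set Y), normalClosure (S₂ : Set Y)⁆ ≤ normalClosure (A : Set Y) := by
  classical
  haveI : Fact (Nat.Prime 2) := ⟨Nat.prime_two⟩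
  haveI := Fintype.ofFinite (Subgroup Y)
  set K := normalClosure (A : Set Y) with hK
  haveI hKn : K.Normal := normalClosure_normal
  set q := QuotientGroup.mk' K with hq
  have hqs : Function.Surjective q := QuotientGroup.mk'_surjective K
  have hd : S₁.map q ⊓ S₂.map q = ⊥ := by
    refine (Subgroup.eq_bot_iff_forall _).2 ?_
    rintro _ ⟨⟨x₁, hx₁, rfl⟩, ⟨x₂, hx₂, e⟩⟩
    exact (QuotientGroup.eq_one_iff _).2 (hY.inf_closure hb hAS h₁ h₂ hinf hc hx₁ hx₂ (QuotientGroup.eq.1 e))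
  have hprod := StrongProd.prodThm (Y ⧸ K) (S.mapSurjective hqs) (S₁.map q) (S₂.map q)
    (StrongProd.sc_map h₁ K) (StrongProd.sc_map h₂ K) hd
  set N₁ := normalClosure (S₁ : Set Y)
  set N₂ := normalClosure (S₂ : Set Y)
  haveI : N₁.Normal := normalClosure_normal
  haveI : N₂.Normal := normalClosure_normal
  have hmapN : ∀ U : Subgroup Y, (normalClosure (U : Set Y)).map q = normalClosure ((U.map q : Subgroup (Y ⧸ K)) :
      Set (Y ⧸ K)) := fun U => by rw [Subgroup.map_normalClosure _ q hqs]; rfl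
  -- the part centralising the components and `A`
  haveI hEn := hY.movedLayer_normal hb hAS
  set E := movedLayer (invPart A hY.ab) with hE
  haveI hO2 : (Cfsg.pCore 2 Y).Normal := Solv.pCore_normal 2
  set D := A ⊓ Cfsg.pCore 2 Y with hD
  haveI hDn : D.Normal := ⟨fun x hx y =>
    ⟨hY.closed hAS hx.1 ((Solv.pCore_isPGroup 2 : IsPGroup 2 (Cfsg.pCore 2 Y)).le_sylow_of_normal S
      (hO2.conj_mem x hx.2 y)), hO2.conj_mem x hx.2 y⟩⟩
  haveI : (centralizer (E : Set Y)).Normal := Solv.centralizer_normal_of_normal E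
  haveI : (centralizer (D : Set Y)).Normal := Solv.centralizer_normal_of_normal D
  haveI : (Cfsg.oddCore (Y ⧸ K)).Normal := inferInstance
  set R := (Cfsg.oddCore (Y ⧸ K)).comap q with hR
  set R₀ := centralizer (E : Set Y) ⊓ centralizer (D : Set Y) ⊓ R with hR₀
  have hNR : ⁅N₁, N₂⁆ ≤ R := by
    rw [hR, ← Subgroup.map_le_iff_le_comap, Subgroup.map_commutator, hmapN, hmapN]
    exact hprod
  have hDcen : N₁ ≤ centralizer (D : Set Y) := Subgroup.normalClosure_le_normal fun x hx =>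
    mem_centralizer_iff.2 fun d hd => (hY.comm_closed hAS h₁ h₂ hinf hc (Or.inl hx) hd.1).symm
  have hAR : R₀ ≤ K := by
    haveI : R₀.Normal := inferInstance
    refine StrongProd.le_of_central_odd hY.core (Char.card_oddCore_odd (Y ⧸ K)) (fun x hx => ?_) fun k hk hkK x hx => ?_
    · rw [← QuotientGroup.eq_one_iff]
      show q (x ^ _) = 1
      rw [map_pow]
      exact congrArg Subtype.val (pow_card_eq_one' (x := (⟨q x, hx.2⟩ : Cfsg.oddCore (Y ⧸ K))))
    · have hkA : k ∈ A := hY.closure_inf_cen hb hAS hkK fun L hL =>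
        mem_centralizer_iff.2 fun l hl => mem_centralizer_iff.1 hk.1.1 l ((le_sSup (show L ∈ {L | Moved (invPart A hY.ab) L} from hL) : L ≤ E) hl)
      obtain ⟨e, he, hea, hec⟩ := hY.split hb hAS hkA
      have h1 := mem_centralizer_iff.1 hx.1.1 e he.2
      have h2 := mem_centralizer_iff.1 hx.1.2 _ ⟨hea, hY.mem_pCore hAS hea hec⟩
      calc k * x = e * ((e⁻¹ * k) * x) := by group
        _ = (e * x) * (e⁻¹ * k) := by rw [h2]; group
        _ = x * k := by rw [h1]; group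
  intro x hx
  obtain ⟨e, he, hin, -⟩ := absorb_family (U := ⊤) (u := x) (Finset.univ.filter fun L => Moved (invPart A hY.ab) L)
    (fun L hL => (Finset.mem_filter.1 hL).2.1) fun L hL => by
      obtain ⟨l, hl, hlc⟩ := mem_sup_centralizer (hY.commutator_inner hb hAS h₁ h₂ hinf hc (Finset.mem_filter.1 hL).2 hx)
      exact ⟨l, ⟨mem_top l, hl⟩, hlc⟩
  have heK : e ∈ K := (sSup_le fun L hL =>
    hY.moved_le_closure hb hAS (Finset.mem_filter.1 (Finset.mem_coe.1 hL)).2 : sSup _ ≤ K) he.2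
  have heD : e ∈ centralizer (D : Set Y) := by
    refine (Subgroup.normalClosure_le_normal fun a ha => ?_ : K ≤ centralizer (D : Set Y)) heK
    exact mem_centralizer_iff.2 fun d hd => hY.mem_comm hd.1 ha
  rw [show x = e * (e⁻¹ * x) by group]
  refine K.mul_mem heK (hAR ⟨⟨?_, (centralizer (D : Set Y)).mul_mem ((centralizer (D : Set Y)).inv_mem heD) (hDcen (Subgroup.commutator_le_left _ _ hx))⟩,
    R.mul_mem (R.inv_mem ?_) (hNR hx)⟩)
  · have hle : E ≤ centralizer ({e⁻¹ * x} : Set Y) := sSup_le fun L hL l hl => mem_centralizer_singleton_iff.2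
      (mem_centralizer_iff.1 (hin L (Finset.mem_filter.2 ⟨Finset.mem_univ _, hL⟩)) l hl)
    exact mem_centralizer_iff.2 fun l hl => mem_centralizer_singleton_iff.1 (hle hl)
  · show q e ∈ Cfsg.oddCore (Y ⧸ K)
    rw [show q e = 1 from (QuotientGroup.eq_one_iff e).2 heK]
    exact one_mem _

end AbHyp

/-- **S2767** from Goldschmidt's theorem. -/
theorem closed_pair_commutator (hB : ∀ n, Below.{u} n) {G : Type u} [Group G] [Finite G] (S : Sylow 2 G)
    (S₁ S₂ : Subgroup G) (h₁ : Cfsg.IsStronglyClosed S₁ (S : Subgroup G))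
    (h₂ : Cfsg.IsStronglyClosed S₂ (S : Subgroup G)) (hc : ∀ a ∈ S₁, ∀ b ∈ S₂, a * b = b * a) :
    ⁅normalClosure (S₁ : Set G), normalClosure (S₂ : Set G)⁆ ≤
      normalClosure ((S₁ ⊓ S₂ : Subgroup G) : Set G) ⊔ Cfsg.pPrimeCore 2 G := by
  haveI : Fact (Nat.Prime 2) := ⟨Nat.prime_two⟩
  set π := QuotientGroup.mk' (Cfsg.oddCore G) with hπ
  have hπs : Function.Surjective π := QuotientGroup.mk'_surjective _
  have hodd : Odd (Nat.card (Cfsg.oddCore G)) := Char.card_oddCore_odd G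
  have hinj : ∀ x ∈ (S : Subgroup G), x ∈ Cfsg.oddCore G → x = 1 := fun x hx hx' => by
    obtain ⟨j, hj⟩ := S.2 ⟨x, hx⟩
    exact orderOf_eq_one_iff.1 (Nat.eq_one_of_dvd_coprimes ((Nat.coprime_two_left.2 hodd).pow_left j)
      (orderOf_dvd_of_pow_eq_one (congrArg Subtype.val hj)) (Subgroup.orderOf_dvd_natCard _ hx'))
  have hinf : S₁.map π ⊓ S₂.map π = (S₁ ⊓ S₂).map π := by
    refine le_antisymm ?_ (Subgroup.map_inf_le _ _ _)
    rintro _ ⟨⟨a, ha, rfl⟩, ⟨b, hb, e⟩⟩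
    have hab : b = a := inv_mul_eq_one.1 (hinj _ (mul_mem (inv_mem (h₂.1 hb)) (h₁.1 ha)) (QuotientGroup.eq.1 e))
    exact ⟨a, ⟨ha, hab ▸ hb⟩, rfl⟩
  have hcq : ∀ a ∈ S₁.map π, ∀ b ∈ S₂.map π, a * b = b * a := by
    rintro _ ⟨a, ha, rfl⟩ _ ⟨b, hb, rfl⟩
    rw [← map_mul, ← map_mul, hc a ha b hb]
  have h1' := StrongProd.sc_map h₁ (Cfsg.oddCore G)
  have h2' := StrongProd.sc_map h₂ (Cfsg.oddCore G)
  have hab : IsMulCommutative ↥((S₁ ⊓ S₂).map π) := ⟨⟨fun a b => Subtype.ext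
    (hcq _ (hinf.symm.le a.2).1 _ (hinf.symm.le b.2).2)⟩⟩
  have hY : AbHyp (G ⧸ Cfsg.oddCore G) ((S₁ ⊓ S₂).map π) :=
    ⟨Fusion.pPrimeCore_quotient_eq_bot, hab, _, by
      rw [← hinf]
      exact ⟨inf_le_left.trans h1'.1, fun x hx g hg => ⟨h1'.2 x hx.1 g hg, h2'.2 x hx.2 g hg⟩⟩⟩
  have key := hY.commutator_le_closure (hB _) (S := Sylow.mapSurjective hπs S)
    (by rw [← hinf]; exact inf_le_left.trans h1'.1) h1' h2' hinf hcq
  have hcl : ∀ U : Subgroup G, normalClosure ((U.map π : Subgroup (G ⧸ Cfsg.oddCore G)) :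
      Set (G ⧸ Cfsg.oddCore G)) = (normalClosure (U : Set G)).map π := fun U => by
    rw [Subgroup.map_normalClosure _ π hπs]; rfl
  rw [hcl, hcl, hcl, ← Subgroup.map_commutator, Subgroup.map_le_iff_le_comap, Subgroup.comap_map_eq,
    QuotientGroup.ker_mk'] at key
  exact key

end Cfsg.Agent.Goldschmidt
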