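import Cfsg.Agent.Lib.Goldschmidt.ConsumerBase
import Cfsg.Agent.Lib.Walter.Consumers
import Cfsg.Agent.Lib.Lie.UnitarySylow
import Cfsg.Agent.Lib.Lie.SplitRankOne.Final
import Cfsg.Agent.Lib.CI.Final

/-!
# Simple groups in which no 2-element is inverted or moved inside its cyclic group (S4030)

Two involutions of a 2-group then commute, so the involutions of a Sylow 2-subgroup form with one a strongly closed
elementary subgroup.  In the unitary groups some element of order four is inverted.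
-/

set_option autoImplicit false
set_option linter.style.haveILetI false
set_option linter.unusedSectionVars false

namespace Cfsg.Agent.Goldschmidt

open Subgroup
open Cfsg.Agent.Local.SCA (SC)

universe u

/-- In `PSU₃(2ⁿ)` a 2-element is inverted by another and differs from its inverse. -/
theorem psu_inverted {F : Type} [Field F] [Fintype F] {n : ℕ} (hn : 2 ≤ n)
    (hF : Fintype.card F = (2 ^ n) ^ 2) [Finite (Cfsg.PSU 3 F (2 ^ n))] :
    ∃ x y : Cfsg.PSU 3 F (2 ^ n), (∃ k : ℕ, x ^ 2 ^ k = 1) ∧ y * x * y⁻¹ = x⁻¹ ∧ x⁻¹ ≠ x := by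
  classical
  haveI : Fact (Nat.Prime 2) := ⟨Nat.prime_two⟩
  haveI : CharP F 2 := charP_of_card_eq_prime_pow (p := 2) (f := n * 2) (by rw [hF, ← pow_mul])
  obtain ⟨σ, hσ⟩ := Lie.UnitarySylow.sigma_props (F := F) (show 1 ≤ n by omega) hF
  letI := Lie.UnitarySylow.uGroup hσ
  obtain ⟨S⟩ := (inferInstance : Nonempty (Sylow 2 (Cfsg.PSU 3 F (2 ^ n))))
  obtain ⟨e⟩ := Lie.UnitarySylow.sylow_PSU hσ (show 1 ≤ n by omega) rfl S
  obtain ⟨⟨c, hc⟩⟩ : Nonempty {z : F // z + σ z = 1} := by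
    have h1 := (Lie.UnitarySylow.card_fix hσ).2 1 (map_one σ)
    have h2 : 0 < Nat.card {z : F // z + σ z = 1} := h1.symm ▸ Nat.two_pow_pos n
    exact (Nat.card_pos_iff.1 h2).1
  obtain ⟨g, hg⟩ := Lie.UnitarySylow.exists_z hσ (1 : F)
  obtain ⟨h, hh⟩ := Lie.UnitarySylow.exists_z hσ c
  have hg2 : g.z + σ g.z = 1 := by rw [g.rel, hg, map_one, one_mul]
  have key : h * g = g⁻¹ * h := by
    refine Lie.UnitarySylow.U.ext ?_ ?_
    · show h.x + g.x = g.x + h.x
      rw [add_comm]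
    · show h.z + g.z + σ h.x * g.x = σ g.z + h.z + σ g.x * h.x
      rw [hh, hg, map_one, one_mul, mul_one]
      linear_combination hg2 + hc - (σ g.z + c - 1) * (CharTwo.two_eq_zero (R := F))
  have hne : g⁻¹ ≠ g := fun h1 => by
    have h2 : g * g = 1 := by
      nth_rw 1 [← h1]
      exact inv_mul_cancel g
    rw [Lie.UnitarySylow.sq_eq_one_iff hσ, hg] at h2
    exact one_ne_zero h2
  refine ⟨(e g : Cfsg.PSU 3 F (2 ^ n)), (e h : Cfsg.PSU 3 F (2 ^ n)), ?_, ?_, ?_⟩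
  · obtain ⟨k, hk⟩ := S.isPGroup' (e g)
    exact ⟨k, congrArg Subtype.val hk⟩
  · rw [← Subgroup.coe_inv, ← Subgroup.coe_inv, ← Subgroup.coe_mul, ← Subgroup.coe_mul, ← map_inv e g, ← map_inv e h,
      ← map_mul, ← map_mul]
    rw [key, mul_inv_cancel_right]
  · intro h1
    exact hne (e.injective (Subtype.ext (by rw [map_inv, Subgroup.coe_inv]; exact h1)))

/-- S4030 from Goldschmidt's theorem and part (C) of the theorem on abelian Sylow 2-subgroups. -/
theorem two_irrational_of (hB : ∀ n, Below.{u} n) (hC : Walter.ReeJOneStatement.{u}) {G : Type u} [Group G] [Finite G]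
    [IsSimpleGroup G] (hna : ¬ IsMulCommutative G)
    (hirr : ∀ x : G, (∀ r : ℕ, r.Prime → r ∣ orderOf x → r = 2) →
      Subgroup.normalizer ((Subgroup.zpowers x : Subgroup G) : Set G) ≤ Subgroup.centralizer {x}) :
    (∃ (F : Type) (_ : Field F) (_ : Fintype F), 4 ≤ Fintype.card F ∧
        (Fintype.card F % 8 = 0 ∨ Fintype.card F % 8 = 3 ∨ Fintype.card F % 8 = 5) ∧
        Nonempty (G ≃* Matrix.ProjectiveSpecialLinearGroup (Fin 2) F)) ∨
    Cfsg.IsSuzuki G ∨ Cfsg.IsRee G ∨ Cfsg.IsJ1 G := by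
  classical
  haveI : Fact (Nat.Prime 2) := ⟨Nat.prime_two⟩
  -- no 2-element differs from its inverse and is inverted
  have hinv : ∀ x y : G, (∃ k : ℕ, x ^ 2 ^ k = 1) → y * x * y⁻¹ = x⁻¹ → x⁻¹ = x := by
    intro x y ⟨k, hk⟩ hyx
    have h2 : ∀ r : ℕ, r.Prime → r ∣ orderOf x → r = 2 := fun r hr hd =>
      (Nat.prime_dvd_prime_iff_eq hr Nat.prime_two).1 (hr.dvd_of_dvd_pow (hd.trans (orderOf_dvd_of_pow_eq_one hk)))
    have hy : y ∈ normalizer ((zpowers x : Subgroup G) : Set G) := by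
      refine Fusion.mem_normalizer_of_cj_le ?_
      rintro _ ⟨z, hz, rfl⟩
      obtain ⟨i, rfl⟩ := mem_zpowers_iff.1 hz
      rw [MulEquiv.coe_toMonoidHom, map_zpow, MulAut.conj_apply, hyx, inv_zpow']
      exact zpow_mem_zpowers x (-i)
    rw [← hyx, mem_centralizer_singleton_iff.1 (hirr x h2 hy), mul_inv_cancel_right]
  obtain ⟨S⟩ := (inferInstance : Nonempty (Sylow 2 G))
  have hcomm : ∀ {a b : G}, a ∈ (S : Subgroup G) → b ∈ (S : Subgroup G) → a * a = 1 → b * b = 1 → a * b = b * a := by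
    intro a b ha hb ha2 hb2
    have ha' : a⁻¹ = a := inv_eq_of_mul_eq_one_right ha2
    have hb' : b⁻¹ = b := inv_eq_of_mul_eq_one_right hb2
    obtain ⟨k, hk⟩ := S.isPGroup' ⟨a * b, mul_mem ha hb⟩
    have h1 := hinv (a * b) a ⟨k, congrArg Subtype.val hk⟩ (by
      rw [mul_inv_rev, ← mul_assoc a a b, ha2, one_mul, hb', ha'])
    rw [mul_inv_rev, hb', ha'] at h1
    exact h1.symm
  let A : Subgroup G :=
    { carrier := {x | x ∈ (S : Subgroup G) ∧ x * x = 1}
      one_mem' := ⟨one_mem _, one_mul 1⟩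
      mul_mem' := fun {a b} ha hb => ⟨mul_mem ha.1 hb.1, by
        calc a * b * (a * b) = a * (b * a) * b := by group
          _ = a * a * (b * b) := by rw [← hcomm ha.1 hb.1 ha.2 hb.2]; group
          _ = 1 := by rw [ha.2, hb.2, one_mul]⟩
      inv_mem' := fun {a} ha => ⟨inv_mem ha.1, by rw [← mul_inv_rev, ha.2, inv_one]⟩ }
  have hAc : IsMulCommutative ↥A := ⟨⟨fun a b => Subtype.ext (hcomm a.2.1 b.2.1 a.2.2 b.2.2)⟩⟩
  have hAsc : SC A := ⟨S, fun x hx => hx.1, fun x hx g hg => ⟨hg, by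
    rw [show g * x * g⁻¹ * (g * x * g⁻¹) = g * (x * x) * g⁻¹ by group, hx.2, mul_one, mul_inv_cancel]⟩⟩
  have hAne : A ≠ ⊥ := by
    intro e
    have hSne : (S : Subgroup G) ≠ ⊥ := fun hS => by
      have hodd : Odd (Nat.card G) := by
        refine Nat.not_even_iff_odd.1 fun he => S.not_dvd_index ?_
        rw [hS, Subgroup.index_bot]
        exact he.two_dvd
      haveI := Bender.AbelianSolvable.odd_solvable' hodd
      exact hna ⟨⟨IsSimpleGroup.comm_iff_isSolvable.2 inferInstance⟩⟩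
    obtain ⟨m, hm⟩ := IsPGroup.iff_card.1 S.isPGroup'
    have hm0 : m ≠ 0 := fun e0 => hSne (Subgroup.card_eq_one.1 (by rw [hm, e0, pow_zero]))
    obtain ⟨x, hx⟩ := exists_prime_orderOf_dvd_card' 2
      (hm ▸ dvd_pow_self 2 hm0 : 2 ∣ Nat.card (S : Subgroup G))
    have hx2 : x ^ 2 = 1 := by
      have h0 := pow_orderOf_eq_one x
      rwa [hx] at h0
    have h1 : (x : G) ∈ A := ⟨x.2, congrArg Subtype.val ((pow_two x).symm.trans hx2)⟩
    rw [e, Subgroup.mem_bot] at h1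
    rw [show x = 1 from Subtype.ext h1, orderOf_one] at hx
    omega
  rcases types_of_gType hna (gType_of hB G hna hAne hAc hAsc) with
    ⟨F, iF, iT, hq, ⟨e⟩⟩ | hJ | hS | ⟨F, iF, iT, n, hn, hF, ⟨e⟩⟩
  · left
    rcases hq with ⟨n, hn, hF⟩ | ⟨h35, h5⟩
    · rcases Nat.lt_or_ge n 3 with h2 | h3
      · obtain rfl : n = 2 := by omega
        obtain ⟨K, iK, iKf, hK, e'⟩ := CI.psl_four (by rw [hF]; norm_num) e
        exact ⟨K, iK, iKf, by rw [hK]; omega, Or.inr (Or.inr (by rw [hK])), e'⟩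
      · obtain ⟨k, rfl⟩ : ∃ k, n = 3 + k := ⟨n - 3, by omega⟩
        refine ⟨F, iF, iT, ?_, Or.inl (by rw [hF, pow_add]; norm_num), ⟨e⟩⟩
        rw [hF, pow_add]
        have := Nat.two_pow_pos k
        omega
    · exact ⟨F, iF, iT, by omega, Or.inr h35, ⟨e⟩⟩
  · exact (hC G hJ).elim (fun h => Or.inr (Or.inr (Or.inl h))) fun h => Or.inr (Or.inr (Or.inr h))
  · exact Or.inr (Or.inl ⟨inferInstance, Lie.R1C.card_of_isoSuzuki hS⟩)
  · exfalso
    haveI : Finite (Cfsg.PSU 3 F (2 ^ n)) := Finite.of_equiv G e.toEquiv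
    obtain ⟨x, y, ⟨k, hk⟩, hxy, hne⟩ := psu_inverted hn hF
    refine hne (e.symm.injective ?_)
    rw [map_inv]
    refine hinv (e.symm x) (e.symm y) ⟨k, by rw [← map_pow, hk, map_one]⟩ ?_
    rw [← map_inv, ← map_mul, ← map_mul, hxy, map_inv]

end Cfsg.Agent.Goldschmidt
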