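import Cfsg.Agent.Lib.Goldschmidt.ConsumerBase
import Cfsg.Agent.Lib.Walter.JR.Plumb
import Cfsg.Agent.Lib.Lead.JankoOrder.Main
import Cfsg.Agent.Lib.CI.Final
import Cfsg.Agent.Lib.Fusion.LinearStable
import Cfsg.Agent.S2755
import Cfsg.Agent.S2759

/-!
# Simple groups without a section `S₄` (S2754)

A constrained group without `S₄` has no section `S₃` at all, so the induction provides the small factors, and the
outcomes of the theorem on strongly closed abelian subgroups are Goldschmidt groups.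
-/

set_option autoImplicit false
set_option linter.style.haveILetI false
set_option linter.unusedSectionVars false

namespace Cfsg.Agent.Goldschmidt

open Subgroup
open Cfsg.Agent.Solv.AbelianTwo (Ab2)

universe u

/-- Part (C) gives a group of Ree type or `J₁`. -/
theorem goldschmidtGroup_of_jr (hS : Walter.JR.Statement.{u}) {K : Type u} [Group K] [Finite K] [IsSimpleGroup K]
    (hna : ¬ IsMulCommutative K) (hJ : Walter.IsJR K) : Cfsg.IsGoldschmidtGroup K := by
  haveI : Fact (Nat.Prime 2) := ⟨Nat.prime_two⟩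
  obtain ⟨hs, hab, t, E, N, F, iF, iT, ht, hE, hNE, hconjN, hFo, hF5, ⟨iso⟩, hCE⟩ := hJ
  obtain ⟨-, hEN, h⟩ := Walter.JR.jr_order hab ht hE hNE hconjN hFo hF5 iso hCE fun F' _ _ C =>
    hS K F' C fun M _ _ _ hM hMab _ => kType_of_ab2 M hM hMab
  rcases h with ⟨m, hm, hF, -⟩ | ⟨-, hJ1⟩
  · refine Or.inl ⟨hs, hna, t, E, m, hm, ht, ?_, hE, F, iF, iT, hF, ⟨(MulEquiv.subgroupCongr hEN).trans iso⟩⟩
    obtain ⟨S, hS'⟩ := (IsPGroup.of_card (n := 1) (by rw [Nat.card_zpowers, ht, pow_one]) :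
      IsPGroup 2 (zpowers t)).exists_le_sylow
    have hle : (S : Subgroup K) ≤ centralizer ({t} : Set K) := fun s hs' => mem_centralizer_singleton_iff.2
      (Cfsg.Agent.Solv.AbelianTwo.commute_of_mem hab S.isPGroup' hs' (hS' (mem_zpowers t))).eq
    exact Nat.not_even_iff_odd.1 fun he => S.not_dvd_index (he.two_dvd.trans (Subgroup.index_dvd_of_le hle))
  · exact Or.inr (Or.inr (Or.inr (Or.inr (Or.inr (Cfsg.Agent.Lead.JankoOrder.isoJ1_of_card hJ1.2)))))

/-- The outcomes of the theorem are Goldschmidt groups. -/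
theorem goldschmidtGroup_of_gType (hS : Walter.JR.Statement.{u}) {K : Type u} [Group K] [Finite K] [IsSimpleGroup K]
    (hna : ¬ IsMulCommutative K) (hT : GType K) : Cfsg.IsGoldschmidtGroup K := by
  rcases types_of_gType hna hT with ⟨F, iF, iT, hq, ⟨e⟩⟩ | hJ | hSz | ⟨F, iF, iT, n, hn, hF, he⟩
  · rcases hq with ⟨n, hn, hF⟩ | ⟨h35, h5⟩
    · rcases Nat.lt_or_ge n 3 with h2 | h3
      · obtain rfl : n = 2 := by omega
        obtain ⟨K', iK, iKf, hK, e'⟩ := CI.psl_four (by rw [hF]; norm_num) e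
        exact Or.inr (Or.inr (Or.inr (Or.inr (Or.inl ⟨K', iK, iKf, 5, hK, le_rfl, Or.inr rfl, e'⟩))))
      · exact Or.inr (Or.inl ⟨F, iF, iT, n, h3, hF, ⟨e⟩⟩)
    · exact Or.inr (Or.inr (Or.inr (Or.inr (Or.inl ⟨F, iF, iT, _, rfl, h5, h35, ⟨e⟩⟩))))
  · exact goldschmidtGroup_of_jr hS hna hJ
  · exact Or.inr (Or.inr (Or.inl hSz))
  · refine Or.inr (Or.inr (Or.inr (Or.inl ⟨F, iF, iT, n, hn, ?_, he⟩)))
    rw [hF, ← pow_mul, mul_comm, pow_mul]
    norm_num

theorem perm_three_center : ∀ a : Equiv.Perm (Fin 3), (∀ b : Equiv.Perm (Fin 3), a * b = b * a) → a = 1 := by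
  decide

/-- A normal 2-subgroup of the symmetric group of degree three is trivial. -/
theorem perm_three_normal {H : Subgroup (Equiv.Perm (Fin 3))} (hH : H.Normal) (hp : IsPGroup 2 H) : H = ⊥ := by
  haveI : Fact (Nat.Prime 2) := ⟨Nat.prime_two⟩
  obtain ⟨k, hk⟩ := IsPGroup.iff_card.1 hp
  have hd : 2 ^ k ∣ 6 := by
    rw [← hk]
    refine H.card_subgroup_dvd_card.trans (dvd_of_eq ?_)
    rw [Nat.card_perm, Nat.card_fin]
    rfl
  have hle : k ≤ 1 := by
    by_contra hc
    have h4 : 2 ^ 2 ∣ 6 := (pow_dvd_pow 2 (show 2 ≤ k by omega)).trans hd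
    omega
  rcases Nat.le_one_iff_eq_zero_or_eq_one.1 hle with rfl | rfl
  · exact Subgroup.card_eq_one.1 (by rw [hk, pow_zero])
  · refine (Subgroup.eq_bot_iff_forall _).2 fun a ha => perm_three_center a fun b => ?_
    by_cases h1 : a = 1
    · rw [h1, one_mul, mul_one]
    obtain ⟨w, -, huniq⟩ := (Nat.card_eq_two_iff' (1 : H)).1 (hk.trans (pow_one 2))
    have e1 : (⟨a, ha⟩ : H) = w := huniq _ fun e => h1 (congrArg Subtype.val e)
    have e2 : (⟨b * a * b⁻¹, hH.conj_mem a ha b⟩ : H) = w := huniq _ fun e => h1 (by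
      have : b * a * b⁻¹ = 1 := congrArg Subtype.val e
      rwa [conj_eq_one_iff] at this)
    have e3 : b * a * b⁻¹ = a := congrArg Subtype.val (e2.trans e1.symm)
    exact (mul_inv_eq_iff_eq_mul.1 e3).symm

/-- A constrained group without `S₄` has no section `S₃`. -/
theorem not_involves_three {X : Type u} [Group X] [Finite X] (hfree : ¬ Cfsg.Involves (Equiv.Perm (Fin 4)) X)
    (hc : centralizer (Cfsg.pCore 2 X : Set X) ≤ Cfsg.pCore 2 X) : ¬ Cfsg.Involves (Equiv.Perm (Fin 3)) X := by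
  intro hI
  haveI : Fact (Nat.Prime 2) := ⟨Nat.prime_two⟩
  haveI : (Cfsg.pCore 2 X).Normal := Solv.pCore_normal 2
  set T := Cfsg.pCore 2 X with hT
  have hN : normalizer (T : Set X) = ⊤ := Subgroup.normalizer_eq_top_iff.2 inferInstance
  refine hfree ((S2759.result (G := X)).2 ⟨T, Solv.pCore_isPGroup 2, ?_⟩)
  obtain ⟨K, f, hf⟩ := Fusion.involves_exists_surjective hI
  let i : K →* ↥(normalizer (T : Set X)) := Subgroup.inclusion (hN ▸ le_top)
  let φ := (QuotientGroup.mk' ((centralizer (T : Set X)).subgroupOf (normalizer (T : Set X)))).comp i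
  have hker : φ.ker ≤ f.ker := by
    have h2 : IsPGroup 2 φ.ker := by
      rintro ⟨x, hx⟩
      have hx' : i x ∈ (centralizer (T : Set X)).subgroupOf (normalizer (T : Set X)) :=
        (QuotientGroup.eq_one_iff _).1 hx
      obtain ⟨k, hk⟩ := (Solv.pCore_isPGroup 2 : IsPGroup 2 T) ⟨(x : X), hc hx'⟩
      refine ⟨k, Subtype.ext (Subtype.ext ?_)⟩
      have h0 := congrArg Subtype.val hk
      rw [Subgroup.coe_pow] at h0
      exact h0
    have h3 := perm_three_normal ((inferInstance : φ.ker.Normal).map f hf) (h2.map f)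
    exact (Subgroup.map_eq_bot_iff _).1 h3
  let g : φ.range →* Equiv.Perm (Fin 3) :=
    (QuotientGroup.lift φ.ker f hker).comp (QuotientGroup.quotientKerEquivRange φ).symm.toMonoidHom
  refine Fusion.involves_of_surjective g fun y => ?_
  obtain ⟨x, rfl⟩ := hf y
  refine ⟨QuotientGroup.quotientKerEquivRange φ (QuotientGroup.mk x), ?_⟩
  show QuotientGroup.lift φ.ker f hker ((QuotientGroup.quotientKerEquivRange φ).symm _) = f x
  rw [MulEquiv.symm_apply_apply]
  rfl

/-- A simple group without `S₄` is a Goldschmidt group. -/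
theorem goldschmidtGroup_of_sfour (hB : ∀ n, Below.{u} n) (hS : Walter.JR.Statement.{u}) :
    ∀ (n : ℕ) (G : Type u) [Group G] [Finite G] [IsSimpleGroup G], Nat.card G = n → ¬ IsMulCommutative G →
      ¬ Cfsg.Involves (Equiv.Perm (Fin 4)) G → Cfsg.IsGoldschmidtGroup G := by
  intro n
  induction n using Nat.strong_induction_on with
  | _ n ih =>
    intro G _ _ _ hn hna hfree
    obtain ⟨A, hA, hAc, hAsc⟩ := exists_closed_of_sfour hna hfree fun X _ _ hlt hX hXc H _ N _ hs hnc => by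
      haveI := hs
      have hup : ∀ {Y : Type} [Group Y], Cfsg.Involves Y (H ⧸ N) → Cfsg.Involves Y X := fun {Y} _ hY =>
        Fusion.involves_trans hY (Fusion.involves_of_surjective (QuotientGroup.mk' N)
          (QuotientGroup.mk'_surjective N))
      have hXfree : ¬ Cfsg.Involves (Equiv.Perm (Fin 4)) X := fun h => hfree (Fusion.involves_trans h hX)
      have hlt' : Nat.card (H ⧸ N) < n := hn ▸ lt_of_le_of_lt
        ((Nat.card_le_card_of_surjective _ (QuotientGroup.mk'_surjective N)).trans (Subgroup.card_le_card_group H)) hlt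
      have hG' := ih _ hlt' (H ⧸ N) rfl hnc fun h => hXfree (hup h)
      exact ((S2755.result hG').2).1 fun h => not_involves_three hXfree hXc (hup h)
    exact goldschmidtGroup_of_gType hS hna (gType_of hB G hna hA hAc hAsc)

/-- S2754 from Goldschmidt's theorem and part (C). -/
theorem sfour_free_iff (hB : ∀ n, Below.{u} n) (hS : Walter.JR.Statement.{u}) {G : Type u} [Group G] [Finite G]
    [IsSimpleGroup G] (hna : ¬ IsMulCommutative G) :
    ¬ Cfsg.Involves (Equiv.Perm (Fin 4)) G ↔ Cfsg.IsGoldschmidtGroup G :=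
  ⟨goldschmidtGroup_of_sfour hB hS _ G rfl hna, fun h => (S2755.result h).1⟩

end Cfsg.Agent.Goldschmidt
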