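import Cfsg.Agent.Lib.Goldschmidt.Closed.Struct
import Cfsg.Agent.Lib.Goldschmidt.ConsumerSFour
import Cfsg.Agent.Lib.Fusion.Cores
import Mathlib.GroupTheory.NoncommPiCoprod

/-!
# The structure theorem for abelian strongly closed 2-subgroups (S2775)

Modulo the core the closure is the product of its moved components and its centre, and the components are covers of
Goldschmidt groups.
-/

set_option autoImplicit false
set_option linter.style.haveILetI false
set_option linter.unusedSectionVars false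

namespace Cfsg.Agent.Goldschmidt

open Subgroup Cfsg.Agent
open scoped commutatorElement

universe u

variable {Y : Type u} [Group Y] [Finite Y]

/-- The product of finitely many commuting quasisimple subgroups modulo its centre. -/
theorem layer_quotient_equiv {ι : Type} [Fintype ι] (L : ι → Subgroup Y)
    (hcomm : Pairwise fun i j => ∀ x y : Y, x ∈ L i → y ∈ L j → Commute x y) (E : Subgroup Y) (hE : E = ⨆ i, L i) :
    Nonempty (↥E ⧸ Subgroup.center ↥E ≃* ((i : ι) → ↥(L i) ⧸ Subgroup.center ↥(L i))) := by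
  classical
  subst hE
  have hcomm' : Pairwise fun i j => ∀ x y : Y, x ∈ L i → y ∈ L j → Commute x y := hcomm
  let Φ : ((i : ι) → L i) →* Y := Subgroup.noncommPiCoprod hcomm'
  have hrange : Φ.range = ⨆ i, L i := Subgroup.noncommPiCoprod_range
  have hs : ∀ (i : ι) (l : L i), Φ (Pi.mulSingle i l) = l := fun i l => Subgroup.noncommPiCoprod_mulSingle i l
  let Ψ : ((i : ι) → L i) →* ↥(⨆ i, L i) := Φ.codRestrict _ fun x => hrange.le ⟨x, rfl⟩
  have hΨ : Function.Surjective Ψ := fun y => by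
    obtain ⟨x, hx⟩ := hrange.ge y.2
    exact ⟨x, Subtype.ext hx⟩
  let p := (QuotientGroup.mk' (Subgroup.center ↥(⨆ i, L i))).comp Ψ
  have hp : Function.Surjective p := (QuotientGroup.mk'_surjective _).comp hΨ
  let χ : ((i : ι) → L i) →* ((i : ι) → L i ⧸ Subgroup.center (L i)) :=
    { toFun := fun x i => QuotientGroup.mk (x i)
      map_one' := rfl
      map_mul' := fun _ _ => rfl }
  have hχ : Function.Surjective χ := fun y =>
    ⟨fun i => (QuotientGroup.mk'_surjective (Subgroup.center (L i)) (y i)).choose,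
      funext fun i => (QuotientGroup.mk'_surjective (Subgroup.center (L i)) (y i)).choose_spec⟩
  have hconj : ∀ (x : (i : ι) → L i) (i : ι) (l : L i),
      x * Pi.mulSingle i l * x⁻¹ = Pi.mulSingle i (x i * l * (x i)⁻¹) := fun x i l => funext fun j => by
    by_cases h : j = i
    · subst h; simp
    · simp [Pi.mulSingle_eq_of_ne h]
  have hker : p.ker = χ.ker := by
    ext x
    rw [MonoidHom.mem_ker, MonoidHom.mem_ker]
    constructor
    · intro hx
      have hxc : Ψ x ∈ Subgroup.center ↥(⨆ i, L i) := (QuotientGroup.eq_one_iff _).1 hx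
      refine funext fun i => (QuotientGroup.eq_one_iff _).2 (Subgroup.mem_center_iff.2 fun l => ?_)
      have h1 := congrArg Subtype.val (Subgroup.mem_center_iff.1 hxc (Ψ (Pi.mulSingle i l)))
      change Φ (Pi.mulSingle i l) * Φ x = Φ x * Φ (Pi.mulSingle i l) at h1
      have h2 : Φ (x * Pi.mulSingle i l * x⁻¹) = Φ (Pi.mulSingle i l) := by
        rw [map_mul, map_mul, ← h1, map_inv, mul_inv_cancel_right]
      rw [hconj, hs, hs] at h2
      exact Subtype.ext (show (l : Y) * x i = x i * l from (mul_inv_eq_iff_eq_mul.1 h2).symm)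
    · intro hx
      refine (QuotientGroup.eq_one_iff _).2 (Subgroup.mem_center_iff.2 fun y => ?_)
      obtain ⟨y, rfl⟩ := hΨ y
      rw [← map_mul, ← map_mul]
      refine congrArg Ψ (funext fun i => ?_)
      exact Subgroup.mem_center_iff.1 ((QuotientGroup.eq_one_iff _).1 (congrFun hx i)) (y i)
  exact ⟨(QuotientGroup.quotientKerEquivOfSurjective p hp).symm.trans
    ((QuotientGroup.quotientMulEquivOfEq hker).trans (QuotientGroup.quotientKerEquivOfSurjective χ hχ))⟩

/-- Conjugates of a strongly closed subgroup are conjugates by its closure. -/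
theorem normalClosure_subgroupOf_eq_top {G : Type u} [Group G] [Finite G] {A : Subgroup G} (h : Local.SCA.SC A)
    (K : Subgroup G) (hK : K = normalClosure (A : Set G)) :
    normalClosure ((A.subgroupOf K) : Set ↥K) = ⊤ := by
  subst hK
  set K := normalClosure (A : Set G) with hK
  haveI hKn : K.Normal := normalClosure_normal
  set N := normalClosure ((A.subgroupOf K) : Set ↥K) with hN
  have hle : K ≤ N.map K.subtype := by
    refine (Subgroup.closure_le _).2 fun x hx => ?_
    obtain ⟨a, ha, hax⟩ := Group.mem_conjugatesOfSet_iff.1 hx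
    obtain ⟨g, rfl⟩ := isConj_iff.1 hax
    obtain ⟨k, hk, e⟩ := h.conj_in (subset_normalClosure : A ≤ K) (g := g) fun y hy => by
      obtain ⟨b, hb, rfl⟩ := hy
      exact hKn.conj_mem b (subset_normalClosure hb) g
    have h1 : g * a * g⁻¹ ∈ Fusion.cj A k := e ▸ Fusion.conj_mem_cj ha
    obtain ⟨b, hb, hbe⟩ := h1
    refine ⟨(⟨k, hk⟩ : K) * ⟨b, subset_normalClosure hb⟩ * (⟨k, hk⟩ : K)⁻¹, ?_, hbe⟩
    exact (normalClosure_normal (s := ((A.subgroupOf K) : Set ↥K))).conj_mem _
      (subset_normalClosure (show (⟨b, subset_normalClosure hb⟩ : K) ∈ A.subgroupOf K from hb)) _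
  refine eq_top_iff.2 fun x _ => ?_
  obtain ⟨y, hy, e⟩ := hle x.2
  exact (Subtype.ext e : y = x) ▸ hy

/-- **S2775** from Goldschmidt's theorem and part (C). -/
theorem closed_abelian_structure (hB : ∀ n, Below.{u} n) (hS : Walter.JR.Statement.{u}) {G : Type u} [Group G]
    [Finite G] (S : Sylow 2 G) (A : Subgroup G) (hA : IsMulCommutative ↥A)
    (hsc : Cfsg.IsStronglyClosed A (S : Subgroup G)) (K : Subgroup G) (hK : K = normalClosure (A : Set G))
    (Q : Type u) [Group Q] (π : ↥K →* Q) (hπ : Function.Surjective π) (hker : π.ker = Cfsg.pPrimeCore 2 ↥K) :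
    Cfsg.pCore 2 Q ⊔ commutator Q = ⊤ ∧ Cfsg.pCore 2 Q ≤ Subgroup.center Q ∧
      (∃ T : Sylow 2 Q, (A.subgroupOf K).map π ≤ (T : Subgroup Q) ∧
        (A.subgroupOf K).map π = Cfsg.pCore 2 Q ⊔ Cfsg.omegaOne 2 (T : Subgroup Q)) ∧
      ∃ (ι : Type) (_ : Fintype ι) (L : ι → Type u) (_ : ∀ i, Group (L i)),
        (∀ i, IsSimpleGroup (L i) ∧ ¬ IsMulCommutative (L i) ∧ Cfsg.IsGoldschmidtGroup (L i)) ∧
        Nonempty (↥(commutator Q) ⧸ Subgroup.center ↥(commutator Q) ≃* ((i : ι) → L i)) := by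
  classical
  haveI : Fact (Nat.Prime 2) := ⟨Nat.prime_two⟩
  haveI : Finite Q := Finite.of_surjective _ hπ
  have hSC : Local.SCA.SC A := ⟨S, hsc⟩
  have hAK : A ≤ K := hK ▸ subset_normalClosure
  obtain ⟨P, hP⟩ := hSC.subgroupOf hAK
  set e := QuotientGroup.quotientKerEquivOfSurjective π hπ
  set A' := (A.subgroupOf K).map π with hA'
  have hπe : ∀ x : K, e (QuotientGroup.mk x) = π x := fun _ => rfl
  set T := Sylow.mapSurjective hπ P with hT
  have hTm : (T : Subgroup Q) = (P : Subgroup K).map π := Sylow.coe_mapSurjective hπ P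
  have hscQ : Local.SCA.SC A' := by
    refine ⟨T, ?_, ?_⟩
    · rw [hTm]; exact Subgroup.map_mono hP.1
    rintro _ ⟨a, ha, rfl⟩ g hg
    obtain ⟨g, rfl⟩ := hπ g
    rw [hTm, ← map_inv, ← map_mul, ← map_mul] at hg
    have hmem : g * a * g⁻¹ ∈ (P : Subgroup K) ⊔ π.ker := by
      rw [← Subgroup.comap_map_eq]
      exact hg
    obtain ⟨m, hm, hm'⟩ := StrongProd.exists_conj_mem_sylow P π.ker
      (StrongProd.isPGroup_zpowers_conj P.isPGroup' (hP.1 ha) g) hmem
    have h1 : m * g * a * (m * g)⁻¹ ∈ A.subgroupOf K := hP.2 a ha (m * g) (by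
      rwa [show m * g * a * (m * g)⁻¹ = m * (g * a * g⁻¹) * m⁻¹ by group])
    refine ⟨_, h1, ?_⟩
    simp [map_mul, map_inv, MonoidHom.mem_ker.1 hm]
  have hA'ab : IsMulCommutative ↥A' := ⟨⟨by
    rintro ⟨_, a, ha, rfl⟩ ⟨_, b, hb, rfl⟩
    refine Subtype.ext ?_
    show π a * π b = π b * π a
    rw [← map_mul, ← map_mul, show a * b = b * a from Subtype.ext (comm_of_comm hA ha hb)]⟩⟩
  have hcore : Cfsg.oddCore Q = ⊥ := by
    rw [Cfsg.oddCore, ← Fusion.map_pPrimeCore_equiv
      ((QuotientGroup.quotientMulEquivOfEq hker.symm).trans e), Fusion.pPrimeCore_quotient_eq_bot, Subgroup.map_bot]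
  have hY : AbHyp Q A' := ⟨hcore, hA'ab, hscQ⟩
  have hAT : A' ≤ (T : Subgroup Q) := by rw [hTm]; exact Subgroup.map_mono hP.1
  have hgen : normalClosure (A' : Set Q) = ⊤ := by
    refine top_le_iff.1 ?_
    rw [← MonoidHom.range_eq_top.2 hπ, MonoidHom.range_eq_map, ← normalClosure_subgroupOf_eq_top hSC K hK,
      Subgroup.map_normalClosure _ π hπ]
    exact le_of_eq rfl
  obtain ⟨h1, h2, h3, h4, h5⟩ := hY.generated_struct (hB _) hAT hgen
  refine ⟨h1, h2, ⟨T, hAT, h5⟩, ?_⟩
  set M := {L : Subgroup Q // Moved (invPart A' hY.ab) L}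
  haveI : Fintype M := Fintype.ofFinite _
  obtain ⟨σ⟩ : Nonempty (Fin (Fintype.card M) ≃ M) := ⟨(Fintype.equivFin M).symm⟩
  refine ⟨Fin (Fintype.card M), inferInstance, fun i => ↥(σ i).1 ⧸ Subgroup.center ↥(σ i).1, fun i => inferInstance,
    fun i => ?_, ?_⟩
  · haveI : IsSimpleGroup (↥(σ i).1 ⧸ Subgroup.center ↥(σ i).1) := (σ i).2.1.2.2
    have hna := CI.quotient_center_nonab (σ i).2.1.2
    exact ⟨inferInstance, hna,
      goldschmidtGroup_of_gType hS hna (hY.moved_abComp (hB _) hAT (σ i).2).gType⟩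
  · refine layer_quotient_equiv (fun i => (σ i).1) (fun i j hij x y hx hy => ?_) (commutator Q) (h3.trans ?_)
    · exact (mem_centralizer_iff.1 (commutator_eq_bot_iff_le_centralizer.1 (Solv.components_commute (σ j).2.1 (σ i).2.1
        fun h => hij (σ.injective (Subtype.ext h.symm))) hy) x hx)
    · refine le_antisymm (sSup_le fun L hL => ?_) (iSup_le fun i => le_sSup (σ i).2)
      obtain ⟨i, hi⟩ := σ.surjective ⟨L, hL⟩
      exact le_iSup_of_le i (by rw [hi])

end Cfsg.Agent.Goldschmidt
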