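import Cfsg.Agent.Lib.Goldschmidt.ConsumerBase
import Cfsg.Agent.Lib.Char.ReeThree.Branches.Other
import Cfsg.Agent.Lib.Lie.SplitRankOne.Final

/-!
# Simple groups of order prime to three (S0336)

They have no section `S₄`, so by induction a strongly closed abelian subgroup, and of the outcomes only the Suzuki
groups have order prime to three.
-/

set_option autoImplicit false
set_option linter.style.haveILetI false
set_option linter.unusedSectionVars false

namespace Cfsg.Agent.Goldschmidt

open Subgroup

universe u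

/-- A simple group of order prime to three is a Suzuki group. -/
theorem isoSuzuki_of_three (hB : ∀ n, Below.{u} n) : ∀ (n : ℕ) (G : Type u) [Group G] [Finite G] [IsSimpleGroup G],
    Nat.card G = n → ¬ IsMulCommutative G → ¬ 3 ∣ Nat.card G → Cfsg.Lie.IsoSuzuki G := by
  intro n
  induction n using Nat.strong_induction_on with
  | _ n ih =>
    intro G _ _ _ hn hna h3
    have hfree : ¬ Cfsg.Involves (Equiv.Perm (Fin 4)) G := fun hI => h3 (dvd_trans (by
      rw [Nat.card_perm, Nat.card_fin]; decide) (Cfsg.Agent.Char.ReeThree.card_dvd_of_involves hI))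
    obtain ⟨A, hA, hAc, hAsc⟩ := exists_closed_of_sfour hna hfree fun X _ _ hlt hX _ H _ N _ hs hnc => by
      haveI := hs
      refine Or.inl (ih (Nat.card (H ⧸ N)) ?_ (H ⧸ N) rfl hnc fun hd => h3 ?_)
      · rw [← hn]
        exact lt_of_le_of_lt ((Nat.card_le_card_of_surjective _ (QuotientGroup.mk'_surjective N)).trans
          (Subgroup.card_le_card_group H)) hlt
      · exact ((hd.trans (Subgroup.card_dvd_of_surjective _ (QuotientGroup.mk'_surjective N))).trans
          H.card_subgroup_dvd_card).trans (Cfsg.Agent.Char.ReeThree.card_dvd_of_involves hX)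
    rcases types_of_gType hna (gType_of hB G hna hA hAc hAsc) with
      ⟨F, iF, iT, -, ⟨e⟩⟩ | hJ | hS | ⟨F, iF, iT, n', hn', hF, ⟨e⟩⟩
    · exact absurd ((three_dvd_psl F).trans (Nat.card_congr e.toEquiv).symm.dvd) h3
    · exact absurd (three_dvd_of_jr hJ) h3
    · exact hS
    · exfalso
      haveI : Fact (Nat.Prime 2) := ⟨Nat.prime_two⟩
      haveI : CharP F 2 := charP_of_card_eq_prime_pow (f := n' * 2) (by rw [hF, ← pow_mul])
      haveI : Finite (Cfsg.PSU 3 F (2 ^ n')) := Finite.of_equiv G e.toEquiv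
      obtain ⟨σ, hσ⟩ := Lie.UnitarySylow.sigma_props (F := F) (show 1 ≤ n' by omega) hF
      refine h3 (dvd_trans ?_ (Cfsg.Agent.Char.ReeThree.card_dvd_of_involves
        (Cfsg.Agent.Char.ReeThree.involves_of_iso e.symm (Cfsg.Agent.Char.ReeThree.Branch.psu_involves_three hσ))))
      rw [Nat.card_perm, Nat.card_fin]
      decide

/-- S0336 from Goldschmidt's theorem. -/
theorem suzuki_of_three (hB : ∀ n, Below.{u} n) {G : Type u} [Group G] [Finite G] [IsSimpleGroup G]
    (hG : ∃ a b : G, a * b ≠ b * a) (h3 : ¬ 3 ∣ Nat.card G) : Cfsg.IsSuzuki G := by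
  have hna : ¬ IsMulCommutative G := fun h => by
    obtain ⟨a, b, hab⟩ := hG
    exact hab (h.is_comm.comm a b)
  exact ⟨inferInstance, Cfsg.Agent.Lie.R1C.card_of_isoSuzuki (isoSuzuki_of_three hB _ G rfl hna h3)⟩

end Cfsg.Agent.Goldschmidt
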