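import Cfsg.Agent.Lib.Local.SCAbelian.Basic
import Cfsg.Agent.Lib.Solv.AbelianTwo.Basic
import Cfsg.Agent.Lib.Walter.Core.Defs
import Cfsg.Prelude.Def_Involutions

/-!
# Strongly closed abelian 2-subgroups: the statements of the induction

`LocalHyp` is the situation in a centraliser modulo its core, `PairData` is what a component moved by the strongly
closed group gives, `Mem` carries it back to the centralisers of the group, `Trichotomy` is what the linear algebra on
these pairs leaves.  See `notes/goldschmidt_design.md`.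
-/

set_option autoImplicit false

namespace Cfsg.Agent.Goldschmidt

open Subgroup
open Cfsg.Agent.Solv.AbelianTwo (Ab2)
open Cfsg.Agent.Local.SCA (SC)
open scoped commutatorElement

universe u

/-- A strongly embedded subgroup exists. -/
def HasSE (K : Type u) [Group K] : Prop := ∃ H : Subgroup K, Cfsg.IsStronglyEmbedded H

/-- What the theorem says about a simple group: the Sylow 2-subgroups are abelian or one is strongly embedded. -/
def GType (K : Type u) [Group K] : Prop := Ab2 K ∨ HasSE K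

/-- The theorem for simple groups of order below `n`. -/
def Below (n : ℕ) : Prop :=
  ∀ (L : Type u) [Group L] [Finite L] [IsSimpleGroup L], ¬ IsMulCommutative L → ∀ A : Subgroup L, A ≠ ⊥ →
    IsMulCommutative A → SC A → Nat.card L < n → GType L

/-- A minimal counterexample, with `A` elementary and minimal. -/
structure Hyp (G : Type u) [Group G] [Finite G] (A : Subgroup G) : Prop where
  simple : IsSimpleGroup G
  nonab : ¬ IsMulCommutative G
  below : Below.{u} (Nat.card G)
  elem : Cfsg.IsElementaryAbelian 2 A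
  sc : SC A
  ne : A ≠ ⊥
  irr : ∀ U : Subgroup G, U ≤ A → (∀ g ∈ normalizer (A : Set G), ∀ u ∈ U, g * u * g⁻¹ ∈ U) → U = ⊥ ∨ U = A
  nab : ¬ Ab2 G
  noSE : ¬ HasSE G

section Local

/-- A group without odd core with a strongly closed elementary 2-subgroup. -/
structure LocalHyp (Y : Type u) [Group Y] [Finite Y] (B : Subgroup Y) : Prop where
  core : Cfsg.oddCore Y = ⊥
  elem : Cfsg.IsElementaryAbelian 2 B
  sc : SC B
  below : Below.{u} (Nat.card Y + 1)

variable {Y : Type u} [Group Y]

/-- A component not centralised by `B`. -/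
def Moved (B L : Subgroup Y) : Prop := Cfsg.IsComponent L ∧ ¬ B ≤ centralizer (L : Set Y)

/-- The part of `B` on which the component acts. -/
def tPart (B L : Subgroup Y) : Subgroup Y := ⁅B ⊓ L, L ⊓ normalizer ((B ⊓ L : Subgroup Y) : Set Y)⁆

/-- The part of `B` centralising the component. -/
def rPart (B L : Subgroup Y) : Subgroup Y := B ⊓ centralizer (L : Set Y)

/-- The product of the moved components. -/
def movedLayer (B : Subgroup Y) : Subgroup Y := sSup {L | Moved B L}

/-- An element of `L` that is regular on the involutions of `T` and fixes `R`. -/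
def IsTorus (B L T R : Subgroup Y) (h : Y) : Prop :=
  h ∈ L ∧ h ∈ normalizer (B : Set Y) ∧ (∀ r ∈ R, h * r = r * h) ∧ (∀ s ∈ T, h * s * h⁻¹ ∈ T) ∧
    (∀ s ∈ T, h ^ (Nat.card T - 1) * s = s * h ^ (Nat.card T - 1)) ∧
    ∀ s ∈ T, s ≠ 1 → ∀ s' ∈ T, s' ≠ 1 → ∃ i : ℕ, h ^ i * s * (h ^ i)⁻¹ = s'

/-- A moved component splits `B`. -/
structure PairData (B L : Subgroup Y) : Prop where
  normed : B ≤ normalizer (L : Set Y)
  inner : B ≤ L ⊔ centralizer (L : Set Y)
  le : tPart B L ≤ B ⊓ L
  disj : tPart B L ⊓ rPart B L = ⊥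
  split : B = tPart B L ⊔ rPart B L
  big : 4 ≤ Nat.card (tPart B L)
  fixed : ∀ u ∈ L ⊔ centralizer (L : Set Y), u ∈ normalizer (B : Set Y) → u * u ∈ centralizer (B : Set Y) →
    ∀ t ∈ tPart B L, u * t = t * u
  torus : ∃ h : Y, IsTorus B L (tPart B L) (rPart B L) h

/-- A moved component whose torus part meets the centraliser: a double cover of a Suzuki group.  Its 2-elements act as
transvections on `B` and fix their squares; an involution normalising it is trivial on the quotient by `rPart`. -/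
structure BadData (B L : Subgroup Y) : Prop where
  normed : B ≤ normalizer (L : Set Y)
  inner : B ≤ L ⊔ centralizer (L : Set Y)
  span : B = (B ⊓ L) ⊔ rPart B L
  lift : ∀ e ∈ B ⊓ L, e ∉ rPart B L → ∃ x ∈ L, x ∈ normalizer (B : Set Y) ∧
    x * x ∈ centralizer (B : Set Y) ∧ (∀ r ∈ rPart B L, x * r = r * x) ∧
    (∃ e' ∈ B, e⁻¹ * e' ∈ rPart B L ∧ x * e' = e' * x) ∧
    (∀ b ∈ B, ⁅x, b⁆ ∈ rPart B L) ∧ ¬ ∀ b ∈ B, x * b = b * x
  rigid : ∀ u ∈ normalizer (B : Set Y), u ∈ normalizer (L : Set Y) → u * u ∈ centralizer (B : Set Y) →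
    (∀ r ∈ rPart B L, u * r = r * u) → ∀ b ∈ B, ⁅u, b⁆ ∈ rPart B L

/-- What holds in every `LocalHyp`. -/
structure LocalConcl (Y : Type u) [Group Y] [Finite Y] (B : Subgroup Y) : Prop where
  pair : ∀ L : Subgroup Y, Moved B L → tPart B L ⊓ rPart B L = ⊥ → PairData B L
  bad : ∀ L : Subgroup Y, Moved B L → tPart B L ⊓ rPart B L ≠ ⊥ → BadData B L
  perm : ∀ L : Subgroup Y, Moved B L → ∀ y : Y, Moved B (L.map (MulAut.conj y).toMonoidHom)
  closure_le : normalClosure (B : Set Y) ≤ movedLayer B ⊔ Cfsg.pCore 2 Y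
  frattini : ∀ y : Y, ∃ e ∈ movedLayer B, e * y ∈ normalizer (B : Set Y)

/-- The local theorem. -/
def LocalStatement : Prop :=
  ∀ (Y : Type u) [Group Y] [Finite Y] (B : Subgroup Y), LocalHyp Y B → LocalConcl Y B

end Local

section Global

variable {G : Type u} [Group G]

/-- The centraliser modulo its core. -/
abbrev Cq (a : G) : Type u :=
  ↥(centralizer ({a} : Set G)) ⧸ Cfsg.oddCore ↥(centralizer ({a} : Set G))

/-- The image of a subgroup in the centraliser modulo its core. -/
def img (a : G) (A : Subgroup G) [(Cfsg.oddCore ↥(centralizer ({a} : Set G))).Normal] : Subgroup (Cq a) :=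
  (A.subgroupOf (centralizer ({a} : Set G))).map (QuotientGroup.mk' _)

/-- The part of `A` over a subgroup of the centraliser modulo its core. -/
def pull (a : G) (A : Subgroup G) [(Cfsg.oddCore ↥(centralizer ({a} : Set G))).Normal] (U : Subgroup (Cq a)) :
    Subgroup G :=
  A ⊓ (U.comap (QuotientGroup.mk' _)).map (centralizer ({a} : Set G)).subtype

variable [Finite G]

/-- `(T, R)` is the pair of a moved component of `C(a)` modulo its core. -/
def Mem (A : Subgroup G) (a : G) (T R : Subgroup G) : Prop :=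
  a ∈ A ∧ a ≠ 1 ∧ ∃ J : Subgroup (Cq a), Moved (img a A) J ∧ T = pull a A (tPart (img a A) J) ∧
    R = pull a A (rPart (img a A) J)

/-- The axioms of the pairs. -/
structure PairSys (A : Subgroup G) : Prop where
  mem : ∀ {a : G} {T R : Subgroup G}, Mem A a T R → a ∈ R
  le : ∀ {a : G} {T R : Subgroup G}, Mem A a T R → T ≤ A ∧ R ≤ A ∧ T ⊓ R = ⊥ ∧ A = T ⊔ R ∧ 4 ≤ Nat.card T
  torus : ∀ {a : G} {T R : Subgroup G}, Mem A a T R → ∃ h ∈ normalizer (A : Set G),
    (∀ r ∈ R, h * r = r * h) ∧ (∀ s ∈ T, h * s * h⁻¹ ∈ T) ∧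
    (∀ s ∈ T, h ^ (Nat.card T - 1) * s = s * h ^ (Nat.card T - 1)) ∧
    ∀ s ∈ T, s ≠ 1 → ∀ s' ∈ T, s' ≠ 1 → ∃ i : ℕ, h ^ i * s * (h ^ i)⁻¹ = s'
  smul : ∀ {a : G} {T R : Subgroup G}, Mem A a T R → ∀ g ∈ normalizer (A : Set G),
    Mem A (g * a * g⁻¹) (T.map (MulAut.conj g).toMonoidHom) (R.map (MulAut.conj g).toMonoidHom)
  orth : ∀ {a : G} {T R T' R' : Subgroup G}, Mem A a T R → Mem A a T' R' →
    (T = T' ∧ R = R') ∨ (T ≤ R' ∧ T' ≤ R)
  lift : ∀ {a : G} {T R : Subgroup G}, Mem A a T R → ∀ r ∈ R, r ≠ 1 →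
    ∃ T' R' : Subgroup G, Mem A r T' R' ∧ T ≤ T' ∧ R' ≤ R

/-- No centraliser has a moved component. -/
def NoMoved (A : Subgroup G) : Prop := ∀ (a : G) (T R : Subgroup G), ¬ Mem A a T R

/-- `A` has order eight, its normaliser is transitive on it and every element has a pair with `T` a four-group. -/
structure SmallCase (A : Subgroup G) : Prop where
  eight : Nat.card A = 8
  odd : ∀ g ∈ normalizer (A : Set G), ∀ k : ℕ, g ^ 2 ^ k = 1 → g ∈ centralizer (A : Set G)
  trans : ∀ a ∈ A, a ≠ 1 → ∀ b ∈ A, b ≠ 1 → ∃ g ∈ normalizer (A : Set G), g * a * g⁻¹ = b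
  pairs : ∀ a ∈ A, a ≠ 1 → ∃ T R : Subgroup G, Mem A a T R ∧ Nat.card T = 4 ∧ Nat.card R = 2

/-- `A` is the product of at least three blocks; in every centraliser each component is fixed by all blocks but one,
a moved component is moved by exactly one, and there is exactly one moved by a block avoided by the element. -/
structure GBlocks (A : Subgroup G) (B : Finset (Subgroup G)) : Prop where
  three : 3 ≤ B.card
  span : A = ⨆ T ∈ B, T
  indep : ∀ T ∈ B, T ⊓ (⨆ U ∈ B, ⨆ _ : U ≠ T, U) = ⊥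
  big : ∀ T ∈ B, 4 ≤ Nat.card T
  perm : ∀ g ∈ normalizer (A : Set G), ∀ T ∈ B, T.map (MulAut.conj g).toMonoidHom ∈ B
  fixed : ∀ c ∈ A, c ≠ 1 → ∀ J, Cfsg.IsComponent J → ∃ T ∈ B, ∀ U ∈ B, U ≠ T → Walter.FixesMod c U J
  moved : ∀ c ∈ A, c ≠ 1 → ∀ J, Moved (img c A) J → ∃ T ∈ B, ¬ Walter.FixesMod c T J
  comp : ∀ T ∈ B, ∀ c ∈ (⨆ U ∈ B, ⨆ _ : U ≠ T, U), c ≠ 1 →
    ∃! J, Cfsg.IsComponent J ∧ ¬ Walter.FixesMod c T J

/-- What the linear algebra on the pairs leaves. -/
def Trichotomy (A : Subgroup G) : Prop :=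
  NoMoved A ∨ SmallCase A ∨ ∃ B : Finset (Subgroup G), GBlocks A B

end Global

/-- The pairs obey their axioms. -/
def SysStatement : Prop := ∀ (G : Type u) [Group G] [Finite G] (A : Subgroup G), Hyp G A → PairSys A

/-- The pairs leave three cases. -/
def TrichotomyStatement : Prop :=
  ∀ (G : Type u) [Group G] [Finite G] (A : Subgroup G), Hyp G A → PairSys A → Trichotomy A

/-- No moved component, rank at least three. -/
def NoMovedStatement : Prop :=
  ∀ (G : Type u) [Group G] [Finite G] (A : Subgroup G), Hyp G A → NoMoved A → 8 ≤ Nat.card A → False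

/-- No moved component, rank two. -/
def RankTwoStatement : Prop :=
  ∀ (G : Type u) [Group G] [Finite G] (A : Subgroup G), Hyp G A → NoMoved A → Nat.card A = 4 → False

/-- The exceptional pair. -/
def SmallStatement : Prop :=
  ∀ (G : Type u) [Group G] [Finite G] (A : Subgroup G), Hyp G A → SmallCase A → False

/-- The blocks. -/
def BlockStatement : Prop :=
  ∀ (G : Type u) [Group G] [Finite G] (A : Subgroup G), Hyp G A →
    ∀ B : Finset (Subgroup G), GBlocks A B → False

end Cfsg.Agent.Goldschmidt
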