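import Cfsg.Agent.Lib.Goldschmidt.Trichotomy
import Cfsg.Agent.Lib.Char.ZStarElement
import Cfsg.Agent.Lib.CI.Quotient

/-!
# Strongly closed abelian 2-subgroups of simple groups: the induction

A counterexample of least order has an elementary strongly closed subgroup on which its normaliser is irreducible; the
pairs of moved components then leave the cases that the five statements exclude.
-/

set_option autoImplicit false
set_option linter.style.haveILetI false

namespace Cfsg.Agent.Goldschmidt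

open Subgroup
open Cfsg.Agent.Solv.AbelianTwo (Ab2)
open Cfsg.Agent.Local.SCA (SC)

universe u

/-- The involutions and `1` of an abelian subgroup. -/
def invPart {G : Type u} [Group G] (A : Subgroup G) (hA : IsMulCommutative ↥A) : Subgroup G where
  carrier := {x | x ∈ A ∧ x * x = 1}
  one_mem' := ⟨one_mem _, one_mul 1⟩
  mul_mem' := fun {a b} ha hb => ⟨mul_mem ha.1 hb.1, by
    have h : b * a = a * b := congrArg Subtype.val (hA.is_comm.comm (⟨b, hb.1⟩ : ↥A) ⟨a, ha.1⟩)
    calc a * b * (a * b) = a * (b * a) * b := by group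
      _ = a * a * (b * b) := by rw [h]; group
      _ = 1 := by rw [ha.2, hb.2, one_mul]⟩
  inv_mem' := fun {a} ha => ⟨inv_mem ha.1, by rw [← mul_inv_rev, ha.2, inv_one]⟩

theorem comm_of_comm {G : Type u} [Group G] {A : Subgroup G} (hA : IsMulCommutative ↥A) {x y : G} (hx : x ∈ A)
    (hy : y ∈ A) : x * y = y * x :=
  congrArg Subtype.val (hA.is_comm.comm (⟨x, hx⟩ : ↥A) ⟨y, hy⟩)

variable {G : Type u} [Group G] [Finite G]

/-- A simple group with a strongly closed abelian subgroup has an elementary one with irreducible normaliser. -/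
theorem exists_normalised {A : Subgroup G} (hA : IsMulCommutative ↥A) (hne : A ≠ ⊥) (hsc : SC A) :
    ∃ B : Subgroup G, Cfsg.IsElementaryAbelian 2 B ∧ SC B ∧ B ≠ ⊥ ∧
      ∀ U : Subgroup G, U ≤ B → (∀ g ∈ normalizer (B : Set G), ∀ u ∈ U, g * u * g⁻¹ ∈ U) → U = ⊥ ∨ U = B := by
  haveI : Fact (Nat.Prime 2) := ⟨Nat.prime_two⟩
  let P : Subgroup G → Prop := fun B => B ≠ ⊥ ∧ Cfsg.IsElementaryAbelian 2 B ∧ SC B
  obtain ⟨S, hS⟩ := id hsc
  have hP : P (invPart A hA) := by
    refine ⟨fun e => ?_, ⟨⟨⟨fun a b => Subtype.ext (comm_of_comm hA a.2.1 b.2.1)⟩⟩,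
      fun a ha => (pow_two a).trans ha.2⟩, S,
      fun x hx => hS.1 hx.1, fun x hx g hg => ⟨hS.2 x hx.1 g hg, ?_⟩⟩
    · obtain ⟨m, hm⟩ := IsPGroup.iff_card.1 hsc.isPGroup
      have hm0 : m ≠ 0 := fun e0 => hne (Subgroup.card_eq_one.1 (by rw [hm, e0, pow_zero]))
      obtain ⟨x, hx⟩ := exists_prime_orderOf_dvd_card' 2 (hm ▸ dvd_pow_self 2 hm0 : 2 ∣ Nat.card A)
      have h1 : (x : G) ∈ invPart A hA := ⟨x.2, by
        rw [← pow_two, ← hx, ← Subgroup.orderOf_coe, pow_orderOf_eq_one]⟩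
      rw [e, Subgroup.mem_bot] at h1
      rw [show x = 1 from Subtype.ext h1, orderOf_one] at hx
      omega
    · rw [show g * x * g⁻¹ * (g * x * g⁻¹) = g * (x * x) * g⁻¹ by group, hx.2, mul_one, mul_inv_cancel]
  obtain ⟨B, -, hB⟩ := exists_minimal_le_of_wellFoundedLT P _ hP
  obtain ⟨hBne, hBe, hBsc⟩ := hB.1
  refine ⟨B, hBe, hBsc, hBne, fun U hU hinv => ?_⟩
  by_cases hU1 : U = ⊥
  · exact Or.inl hU1
  refine Or.inr (le_antisymm hU (hB.2 (y := U) ⟨hU1, ⟨⟨⟨fun a b => Subtype.ext
    (comm_of_comm hBe.1 (hU a.2) (hU b.2))⟩⟩, fun a ha => hBe.2 a (hU ha)⟩, ?_⟩ hU))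
  obtain ⟨T, hT⟩ := id hBsc
  refine ⟨T, fun x hx => hT.1 (hU hx), fun x hx g hg => ?_⟩
  obtain ⟨n, hn, e⟩ := hBsc.fuse hBe.1 (hU hx) (hT.2 x (hU hx) g hg)
  exact e ▸ hinv n hn x hx

/-- The strongly closed subgroup of a counterexample is no subgroup of order two. -/
theorem Hyp.four_le {A : Subgroup G} (h : Hyp G A) : 4 ≤ Nat.card A := by
  classical
  haveI : Fact (Nat.Prime 2) := ⟨Nat.prime_two⟩
  haveI := h.simple
  obtain ⟨k, hk⟩ := IsPGroup.iff_card.1 h.sc.isPGroup
  by_contra h4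
  have hk1 : k ≤ 1 := by
    by_contra hc
    have : 2 ^ 2 ≤ 2 ^ k := Nat.pow_le_pow_right (by norm_num) (by omega)
    omega
  have hk0 : k ≠ 0 := fun e0 => h.ne (Subgroup.card_eq_one.1 (by rw [hk, e0, pow_zero]))
  have h2 : Nat.card A = 2 := by rw [hk, show k = 1 by omega, pow_one]
  obtain ⟨a, ha1, huniq⟩ := (Nat.card_eq_two_iff' (1 : A)).1 h2
  have hmem : ∀ y ∈ A, y ≠ 1 → y = (a : G) := fun y hy hy1 =>
    congrArg Subtype.val (huniq ⟨y, hy⟩ fun e => hy1 (congrArg Subtype.val e))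
  obtain ⟨S, hS⟩ := h.sc
  have hcen := Char.isolatedElt_central (S := S) (x := (a : G)) (hS.1 a.2) (by
    intro y hy g hg
    have hyA : y ∈ A := (zpowers_le.2 a.2) hy
    by_cases hy1 : y = 1
    · subst hy1; simp
    · rw [hmem y hyA hy1] at hg ⊢
      exact hmem _ (hS.2 _ a.2 g hg) fun e => ha1 (Subtype.ext (conj_eq_one_iff.1 e)))
  have hO : Cfsg.oddCore G = ⊥ := CI.simple_core h.nonab
  have hc : (a : G) ∈ center G := mem_center_iff.2 fun g => by
    have h5 := hcen g
    rw [hO, mem_bot, mul_inv_eq_one, mul_inv_eq_iff_eq_mul] at h5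
    exact h5.symm
  rcases (inferInstance : (center G).Normal).eq_bot_or_eq_top with e | e
  · rw [e, mem_bot] at hc
    exact ha1 (Subtype.ext hc)
  · exact h.nonab ⟨⟨fun x y => (mem_center_iff.1 (e ▸ mem_top x : x ∈ center G) y).symm⟩⟩

/-- **The induction.** -/
theorem below_all (sys : SysStatement.{u}) (noMoved : NoMovedStatement.{u}) (rankTwo : RankTwoStatement.{u})
    (small : SmallStatement.{u}) (block : BlockStatement.{u}) : ∀ n, Below.{u} n := by
  intro n
  induction n using Nat.strong_induction_on with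
  | _ n ih =>
    intro L _ _ _ hna A hne hA hsc hlt
    by_contra hG
    obtain ⟨hnab, hnoSE⟩ := not_or.1 hG
    obtain ⟨B, hBe, hBsc, hBne, hirr⟩ := exists_normalised hA hne hsc
    have h : Hyp L B := ⟨inferInstance, hna, ih _ hlt, hBe, hBsc, hBne, hirr, hnab, hnoSE⟩
    rcases trichotomyStatement L B h (sys L B h) with hN | hS | ⟨Bl, hBl⟩
    · rcases le_or_gt 8 (Nat.card B) with h8 | h8
      · exact noMoved L B h hN h8
      · refine rankTwo L B h hN ?_
        haveI : Fact (Nat.Prime 2) := ⟨Nat.prime_two⟩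
        obtain ⟨k, hk⟩ := IsPGroup.iff_card.1 hBsc.isPGroup
        have h4 := h.four_le
        rw [hk] at h4 h8 ⊢
        have hk2 : k = 2 := by
          rcases k with _ | _ | _ | k
          · norm_num at h4
          · norm_num at h4
          · rfl
          · exfalso
            have : 2 ^ 3 ≤ 2 ^ (k + 3) := Nat.pow_le_pow_right (by norm_num) (by omega)
            omega
        rw [hk2]
        norm_num
    · exact small L B h hS
    · exact block L B h Bl hBl

/-- Every simple group. -/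
theorem gType_of (hB : ∀ n, Below.{u} n) (L : Type u) [Group L] [Finite L] [IsSimpleGroup L]
    (hna : ¬ IsMulCommutative L) {A : Subgroup L} (hne : A ≠ ⊥) (hA : IsMulCommutative ↥A) (hsc : SC A) : GType L :=
  hB (Nat.card L + 1) L hna A hne hA hsc (Nat.lt_succ_self _)

/-- The statement of Goldschmidt's theorem for simple groups. -/
theorem simple_concl (hB : ∀ n, Below.{u} n) {L : Type u} [Group L] [Finite L] [IsSimpleGroup L] (S : Sylow 2 L)
    (A : Subgroup L) (hne : A ≠ ⊥) (hA : IsMulCommutative ↥A) (hsc : Cfsg.IsStronglyClosed A (S : Subgroup L)) :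
    IsMulCommutative (S : Subgroup L) ∨ ∃ H : Subgroup L, Cfsg.IsStronglyEmbedded H := by
  by_cases hna : IsMulCommutative L
  · exact Or.inl ⟨⟨fun a b => Subtype.ext (hna.is_comm.comm (a : L) b)⟩⟩
  · exact (gType_of hB L hna hne hA ⟨S, hsc⟩).imp (fun h => h S) id

/-- Goldschmidt's theorem from its five parts. -/
theorem s1169_of (sys : SysStatement.{u}) (noMoved : NoMovedStatement.{u}) (rankTwo : RankTwoStatement.{u})
    (small : SmallStatement.{u}) (block : BlockStatement.{u}) {L : Type u} [Group L] [Finite L] [IsSimpleGroup L]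
    (S : Sylow 2 L) (A : Subgroup L) (hne : A ≠ ⊥) (hA : IsMulCommutative ↥A)
    (hsc : Cfsg.IsStronglyClosed A (S : Subgroup L)) :
    IsMulCommutative (S : Subgroup L) ∨ ∃ H : Subgroup L, Cfsg.IsStronglyEmbedded H :=
  simple_concl (below_all sys noMoved rankTwo small block) S A hne hA hsc

end Cfsg.Agent.Goldschmidt
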