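import Cfsg.Agent.Lib.Goldschmidt.NoProper
import Cfsg.Agent.Lib.Local.SCAbelian.Final
import Cfsg.Agent.Lib.Fusion.Cores

/-!
# A minimal counterexample without moved components: rank at least three

Every centraliser of an element of `A` is its core times a part normalising `A`, so the cores are balanced and
generate a subgroup of odd order; the normaliser of this or of `A` contains all these centralisers.
-/

set_option autoImplicit false
set_option linter.style.haveILetI false
set_option linter.unusedSectionVars false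

namespace Cfsg.Agent.Goldschmidt

open Cfsg Cfsg.Agent.Fusion
open Subgroup
open Cfsg.Agent.Local.SCA (SC comm_of_mem le_centralizer_of_mem mem_centralizer_A conj_mem core_odd sup_odd
  inf_eq_bot_of_odd le_map_oddCore le_core cj_core_le oddCore_odd' elemAb_map elemAb_subgroupOf)

universe u

variable {G : Type u} [Group G] [Finite G] {A : Subgroup G}

/-- Every centraliser of an element of `A` is its core times a part normalising `A`. -/
def Factorises (A : Subgroup G) : Prop :=
  ∀ a ∈ A, a ≠ 1 → ∀ g ∈ centralizer ({a} : Set G),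
    ∃ o ∈ centralizerPPrimeCore 2 a, o * g ∈ normalizer (A : Set G)

theorem Hyp.centralizer_ne_top (h : Hyp G A) {a : G} (ha1 : a ≠ 1) : centralizer ({a} : Set G) ≠ ⊤ := by
  intro e
  haveI := h.simple
  have hcen : a ∈ Subgroup.center G := Subgroup.mem_center_iff.2 fun g =>
    Subgroup.mem_centralizer_singleton_iff.1 (e ▸ Subgroup.mem_top g : g ∈ centralizer ({a} : Set G))
  rcases (inferInstance : (Subgroup.center G).Normal).eq_bot_or_eq_top with hc | hc
  · rw [hc, Subgroup.mem_bot] at hcen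
    exact ha1 hcen
  · exact h.nonab ⟨⟨fun x y => (Subgroup.mem_center_iff.1 (hc ▸ Subgroup.mem_top x : x ∈ Subgroup.center G) y).symm⟩⟩

theorem Hyp.below_quot (h : Hyp G A) {a : G} (ha1 : a ≠ 1) : Below.{u} (Nat.card (Cq a) + 1) := by
  intro L _ _ _ hna B hB hBc hsc hlt
  refine h.below L hna B hB hBc hsc ?_
  have h1 : Nat.card (Cq a) ≤ Nat.card ↥(centralizer ({a} : Set G)) :=
    Nat.card_le_card_of_surjective _ (QuotientGroup.mk'_surjective (Cfsg.oddCore ↥(centralizer ({a} : Set G))))
  have h2 : Nat.card ↥(centralizer ({a} : Set G)) < Nat.card G :=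
    lt_of_le_of_ne (Nat.card_le_card_of_injective _ Subtype.val_injective)
      fun e => h.centralizer_ne_top ha1 (Subgroup.eq_top_of_card_eq _ e)
  omega

/-- Without moved components the centralisers factorise. -/
theorem factorises_of_noMoved (hL : LocalStatement.{u}) (h : Hyp G A) (hN : NoMoved A) : Factorises A := by
  intro a ha ha1 g hg
  haveI : Fact (Nat.Prime 2) := ⟨Nat.prime_two⟩
  set C := centralizer ({a} : Set G) with hC
  haveI : (Cfsg.oddCore ↥C).Normal := Solv.pPrimeCore_normal 2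
  set π := QuotientGroup.mk' (Cfsg.oddCore ↥C)
  set A' := A.subgroupOf C
  have hAC : A ≤ C := le_centralizer_of_mem h.elem ha
  have hA' : IsElementaryAbelian 2 A' := elemAb_subgroupOf h.elem C
  have hsc' : SC A' := h.sc.subgroupOf hAC
  have hloc : LocalHyp (Cq a) (img a A) :=
    ⟨pPrimeCore_quotient_eq_bot, elemAb_map hA' π, hsc'.map _, h.below_quot ha1⟩
  have hconcl := hL (Cq a) (img a A) hloc
  have hlayer : movedLayer (img a A) = ⊥ := le_bot_iff.1 (sSup_le fun J hJ =>
    (hN a _ _ ⟨ha, ha1, J, hJ, rfl, rfl⟩).elim)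
  have hnormal : (A'.map π).Normal := by
    refine Subgroup.normalizer_eq_top_iff.1 (top_le_iff.1 fun y _ => ?_)
    obtain ⟨e, he, hey⟩ := hconcl.frattini y
    rw [hlayer, Subgroup.mem_bot] at he
    rw [he, one_mul] at hey
    exact hey
  obtain ⟨o, ho, hn⟩ := Local.SCA.factor hsc'.isPGroup (Local.SCA.sup_normal_of_map hnormal) ⟨g, hg⟩
  rw [← Subgroup.subgroupOf_normalizer_eq hAC] at hn
  exact ⟨o, ⟨o, ho, rfl⟩, hn⟩

/-- The cores are balanced. -/
theorem Factorises.balance (hF : Factorises A) (hA : IsElementaryAbelian 2 A) (hsc : SC A) {a b : G} (ha : a ∈ A)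
    (hbA : b ∈ A) (hb1 : b ≠ 1) :
    centralizerPPrimeCore 2 a ⊓ centralizer {b} ≤ centralizerPPrimeCore 2 b := by
  haveI : Fact (Nat.Prime 2) := ⟨Nat.prime_two⟩
  set D := centralizerPPrimeCore 2 a ⊓ centralizer {b}
  set Ob := centralizerPPrimeCore 2 b
  set Cb := centralizer ({b} : Set G)
  set CA := centralizer (A : Set G)
  have hObn : Cb ≤ normalizer (Ob : Set G) := LocBal.centralizer_le_normalizer_core b
  have hCAa : ∀ {x : G}, x ∈ A → CA ≤ centralizer ({x} : Set G) := fun hx =>
    Subgroup.centralizer_le (Set.singleton_subset_iff.2 hx)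
  have hCAD : ∀ {k : G}, k ∈ CA → k ∈ normalizer (D : Set G) := by
    intro k hk
    refine mem_normalizer_of_cj_le ?_
    rw [cj_inf, cj_eq_self (LocBal.centralizer_le_normalizer_core a (hCAa ha hk)),
      cj_eq_self (Subgroup.le_normalizer (hCAa hbA hk))]
  have hDb : D ≤ Cb := inf_le_right
  have hDodd : Odd (Nat.card D) := (core_odd a).of_dvd_nat (Subgroup.card_dvd_of_le inf_le_left)
  set J := Ob ⊔ D with hJ
  have hJodd : Odd (Nat.card J) := sup_odd (hDb.trans hObn) (core_odd b) hDodd
  set K := Ob ⊔ CA with hK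
  have hKC : K ≤ Cb := sup_le (LocBal.core_le_centralizer b) (hCAa hbA)
  have hOK : Ob ≤ K := le_sup_left
  have hDK : D ≤ K := by
    intro d hd
    obtain ⟨o, ho, hn⟩ := hF b hbA hb1 d (hDb hd)
    have hoC : o * d ∈ CA := by
      refine mem_centralizer_A fun x hx => ?_
      have h1 : (o * d) * x * (o * d)⁻¹ * x⁻¹ ∈ A := A.mul_mem (conj_mem hn hx) (A.inv_mem hx)
      have hxC : x ∈ centralizer (A : Set G) := mem_centralizer_A fun y hy => comm_of_mem hA hx hy
      have h2 : (o * d) * x * (o * d)⁻¹ * x⁻¹ ∈ J := by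
        rw [show (o * d) * x * (o * d)⁻¹ * x⁻¹ = o * (d * (x * d⁻¹ * x⁻¹)) * (x * o⁻¹ * x⁻¹) by group]
        refine mul_mem (mul_mem (Subgroup.mem_sup_left ho) (Subgroup.mem_sup_right (D.mul_mem hd ?_))) ?_
        · exact (Subgroup.mem_normalizer_iff.1 (hCAD hxC) _).1 (D.inv_mem hd)
        · exact Subgroup.mem_sup_left
            ((Subgroup.mem_normalizer_iff.1 (hObn (hCAa hbA hxC)) _).1 (Ob.inv_mem ho))
      have h3 : (o * d) * x * (o * d)⁻¹ * x⁻¹ ∈ A ⊓ J := ⟨h1, h2⟩
      rw [inf_eq_bot_of_odd hsc.isPGroup hJodd, Subgroup.mem_bot, mul_inv_eq_one, mul_inv_eq_iff_eq_mul] at h3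
      exact h3
    have := K.mul_mem (K.inv_mem (hOK ho)) (Subgroup.mem_sup_right hoC)
    rwa [inv_mul_cancel_left] at this
  have hKJ : K ≤ normalizer (J : Set G) := by
    refine sup_le (fun o ho => Subgroup.le_normalizer (Subgroup.mem_sup_left ho)) fun k hk => ?_
    refine mem_normalizer_of_cj_le ?_
    rw [hJ, cj_sup, cj_eq_self (hObn (hCAa hbA hk)), cj_eq_self (hCAD hk)]
  have hnK : Cb ≤ normalizer (K : Set G) := by
    intro g hg
    obtain ⟨o, ho, hn⟩ := hF b hbA hb1 g hg
    have hoC : o ∈ Cb := LocBal.core_le_centralizer b ho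
    have h1 : o * g ∈ normalizer (K : Set G) := by
      refine mem_normalizer_of_cj_le ?_
      rw [hK, cj_sup, cj_eq_self (hObn (mul_mem hoC hg)), cj_centralizer, cj_eq_self hn]
    have := mul_mem ((normalizer (K : Set G)).inv_mem (Subgroup.le_normalizer (hOK ho))) h1
    rwa [inv_mul_cancel_left] at this
  set M := (oddCore K).map K.subtype with hM
  have hJM : J ≤ M := le_map_oddCore (sup_le hOK hDK) hKJ hJodd
  have hMO : M ≤ Ob := le_core ((Subgroup.map_subtype_le _).trans hKC)
    (hnK.trans (LocBal.normalizer_le_map_core K)) (by rw [hM, Solv.card_map_subtype]; exact oddCore_odd')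
  exact le_sup_right.trans (hJM.trans hMO)

/-- Balanced cores give a proper subgroup over all the centralisers. -/
theorem Factorises.exists_proper (hF : Factorises A) (h : Hyp G A) (h8 : 8 ≤ Nat.card A) :
    ∃ M : Subgroup G, M ≠ ⊤ ∧ ∀ a ∈ A, a ≠ 1 → centralizer ({a} : Set G) ≤ M := by
  haveI : Fact (Nat.Prime 2) := ⟨Nat.prime_two⟩
  haveI := h.simple
  let θ : G → Subgroup G := fun a => centralizerPPrimeCore 2 a
  have hθ : IsSolvableSignalizerFunctor 2 A θ := by
    refine ⟨⟨fun a _ _ => LocBal.core_le_centralizer a, fun a _ _ => (core_odd a).not_two_dvd_nat,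
      fun a ha _ b hbA x hx => (Subgroup.mem_normalizer_iff.1
        (LocBal.centralizer_le_normalizer_core a (le_centralizer_of_mem h.elem ha hbA)) x).1 hx,
      fun a ha _ b hbA hb1 => hF.balance h.elem h.sc ha hbA hb1⟩,
      fun a _ _ => OddFT.odd_solvable_of_no_min (fun _ _ _ h => OddFT.no_minSimple _ h) (core_odd a)⟩
  obtain ⟨hfam, -⟩ := SSF.complete_of_odd h.elem (h8 : 2 ^ 3 ≤ Nat.card A) hθ fun a _ _ => core_odd a
  set W : Subgroup G := ⨆ a : {a : G // a ∈ A ∧ a ≠ 1}, θ (a : G) with hW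
  have hθW : ∀ a ∈ A, a ≠ 1 → θ a ≤ W := fun a ha ha1 =>
    le_iSup (fun a : {a : G // a ∈ A ∧ a ≠ 1} => θ (a : G)) ⟨a, ha, ha1⟩
  have hN : ∀ n ∈ normalizer (A : Set G), n ∈ normalizer (W : Set G) := by
    intro n hn
    refine mem_normalizer_of_cj_le ?_
    rw [cj_le_iff, hW]
    refine iSup_le fun a => ?_
    rw [← cj_le_iff]
    exact (cj_core_le _ n).trans (hθW _ (conj_mem hn a.2.1) fun e => a.2.2 (conj_eq_one_iff.1 e))
  by_cases hW1 : W = ⊥
  · refine ⟨normalizer (A : Set G), fun e => ?_, fun a ha ha1 g hg => ?_⟩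
    · haveI := Subgroup.normalizer_eq_top_iff.1 e
      have htop : A = ⊤ := (inferInstance : A.Normal).eq_bot_or_eq_top.resolve_left h.ne
      refine h.nonab ⟨⟨fun x y => comm_of_mem h.elem ?_ ?_⟩⟩ <;> rw [htop] <;> exact Subgroup.mem_top _
    · obtain ⟨o, ho, hog⟩ := hF a ha ha1 g hg
      have : o ∈ W := hθW a ha ha1 ho
      rw [hW1, Subgroup.mem_bot] at this
      rwa [this, one_mul] at hog
  · refine ⟨normalizer (W : Set G), fun e => hW1 ?_, fun a ha ha1 g hg => ?_⟩
    · haveI := Subgroup.normalizer_eq_top_iff.1 e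
      refine (inferInstance : W.Normal).eq_bot_or_eq_top.resolve_right fun htop => ?_
      refine hfam.2.1 ?_
      have h2 : 2 ∣ Nat.card A := by
        obtain ⟨k, hk⟩ := IsPGroup.iff_card.1 h.sc.isPGroup
        exact hk ▸ dvd_pow_self 2 fun e' => h.ne (Subgroup.card_eq_one.1 (by rw [hk, e', pow_zero]))
      exact h2.trans (Subgroup.card_dvd_of_le (le_top.trans htop.ge))
    · obtain ⟨o, ho, hog⟩ := hF a ha ha1 g hg
      have := mul_mem ((normalizer (W : Set G)).inv_mem (Subgroup.le_normalizer (hθW a ha ha1 ho))) (hN _ hog)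
      rwa [inv_mul_cancel_left] at this

/-- No moved component and rank at least three is impossible. -/
theorem noMoved_of_local (crit : SECrit.Crit.{u}) (hL : LocalStatement.{u}) : NoMovedStatement.{u} := by
  intro G _ _ A h hN h8
  obtain ⟨M, hM, hC⟩ := (factorises_of_noMoved hL h hN).exists_proper h h8
  exact no_proper crit h hM hC

end Cfsg.Agent.Goldschmidt
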