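import Cfsg.Agent.Lib.Goldschmidt.Defs
import Cfsg.Agent.Lib.SECrit.ConsumerSimple

/-!
# A minimal counterexample: no proper subgroup contains the centralisers of the elements of `A`

The criterion for strong embedding makes such a subgroup give a strongly embedded one.
-/

set_option autoImplicit false
set_option linter.style.haveILetI false

namespace Cfsg.Agent.Goldschmidt

open Subgroup

universe u

variable {G : Type u} [Group G] [Finite G] {A : Subgroup G}

/-- No proper subgroup contains the centralisers of all elements of `A`. -/
theorem no_proper (crit : SECrit.Crit.{u}) (h : Hyp G A) {M : Subgroup G} (hM : M ≠ ⊤)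
    (hC : ∀ a ∈ A, a ≠ 1 → centralizer ({a} : Set G) ≤ M) : False := by
  haveI := h.simple
  obtain ⟨S, hS⟩ := h.sc
  refine h.noSE (SECrit.closed_simple_concl crit S A h.ne hS fun e => hM (top_le_iff.1 (e ▸ iSup_le fun t => ?_)))
  refine hC t t.2.1 fun e1 => ?_
  have := t.2.2
  rw [e1, orderOf_one] at this
  omega

end Cfsg.Agent.Goldschmidt
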