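import Cfsg.Agent.Lib.Goldschmidt.Defs
import Cfsg.Agent.Lib.Fusion.BurnsideFusion
import Cfsg.Agent.S2791

/-!
# A minimal counterexample: the normaliser of `A` has no subgroup of index two

`A` controls fusion and `G` is perfect, so by the focal subgroup theorem a Sylow 2-subgroup lies in the derived
subgroup of `N(A)`.
-/

set_option autoImplicit false
set_option linter.style.haveILetI false

namespace Cfsg.Agent.Goldschmidt

open Subgroup
open Cfsg.Agent.Local.SCA (autOn)
open scoped commutatorElement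

universe u

variable {G : Type u} [Group G] [Finite G] {A : Subgroup G}

/-- A simple group that is not commutative is perfect. -/
theorem Hyp.commutator_eq_top (h : Hyp G A) : commutator G = ⊤ := by
  haveI := h.simple
  haveI : (commutator G).Normal := inferInstance
  refine ((inferInstance : (commutator G).Normal).eq_bot_or_eq_top).resolve_left fun e => h.nonab ⟨⟨fun a b => ?_⟩⟩
  have h1 : ⁅a, b⁆ ∈ commutator G :=
    commutator_def G ▸ Subgroup.commutator_mem_commutator (Subgroup.mem_top a) (Subgroup.mem_top b)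
  rw [e, Subgroup.mem_bot] at h1
  exact commutatorElement_eq_one_iff_mul_comm.1 h1

/-- A Sylow 2-subgroup lies in the derived subgroup of `N(A)`. -/
theorem Hyp.sylow_le_derived (h : Hyp G A) : ∃ T : Sylow 2 G, A ≤ (T : Subgroup G) ∧
    (T : Subgroup G) ≤ normalizer (A : Set G) ∧
    (T : Subgroup G) ≤ ⁅normalizer (A : Set G), normalizer (A : Set G)⁆ := by
  haveI : Fact (Nat.Prime 2) := ⟨Nat.prime_two⟩
  obtain ⟨S, hS⟩ := h.sc
  obtain ⟨T, hAT, hT⟩ := S2791.result S A h.elem.1 hS
  have hTN : (T : Subgroup G) ≤ normalizer (A : Set G) := h.sc.le_normalizer hAT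
  refine ⟨T, hAT, hTN, le_trans ?_ (Fusion.focalIn_le_commutator hTN)⟩
  rw [← Fusion.focalIn_eq_of_fusion (S := (T : Subgroup G)) (le_top : normalizer (A : Set G) ≤ ⊤),
    ← Fusion.inf_commutator_eq_focalIn_top (Fusion.sylIn_top T), h.commutator_eq_top, inf_top_eq]
  intro x hx g _ hg
  obtain ⟨n, hn, he⟩ := (hT {x} (Set.singleton_subset_iff.2 hx)).2 g (by
    rintro _ ⟨a, ha, rfl⟩
    rw [Set.mem_singleton_iff.1 ha]
    exact hg)
  exact ⟨n, hn, (he x rfl).symm⟩

/-- A subgroup with a Sylow 2-subgroup in its derived subgroup has no subgroup of index two. -/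
theorem index_ne_two_of_le_derived {N : Subgroup G} (T : Sylow 2 G) (hT : (T : Subgroup G) ≤ ⁅N, N⁆)
    (H : Subgroup ↥N) : H.index ≠ 2 := by
  intro hH
  haveI : Fact (Nat.Prime 2) := ⟨Nat.prime_two⟩
  have hle : ⁅N, N⁆ ≤ H.map N.subtype := by
    refine Subgroup.commutator_le.2 fun a ha b hb =>
      ⟨⁅(⟨a, ha⟩ : ↥N), ⟨b, hb⟩⁆, ?_, map_commutatorElement N.subtype _ _⟩
    have e := fun {x y : ↥N} => Subgroup.mul_mem_iff_of_index_two (a := x) (b := y) hH
    show ⁅(⟨a, ha⟩ : ↥N), ⟨b, hb⟩⁆ ∈ H
    rw [commutatorElement_def, e, e, e, inv_mem_iff, inv_mem_iff]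
    tauto
  have hMN : (H.map N.subtype).relIndex N = 2 := by
    show ((H.map N.subtype).subgroupOf N).index = 2
    rw [Subgroup.subgroupOf, Subgroup.comap_map_eq_self_of_injective N.subtype_injective, hH]
  refine T.not_dvd_index (dvd_trans ?_ (Subgroup.index_dvd_of_le (hT.trans hle)))
  rw [← Subgroup.relIndex_mul_index (Subgroup.map_subtype_le H), hMN]
  exact dvd_mul_right 2 _

/-- The normaliser of `A` has no subgroup of index two. -/
theorem Hyp.no_index_two (h : Hyp G A) (H : Subgroup ↥(normalizer (A : Set G))) : H.index ≠ 2 := by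
  obtain ⟨T, -, -, hT⟩ := h.sylow_le_derived
  exact index_ne_two_of_le_derived T hT H

/-- The automisers of `A` have no subgroup of index two. -/
theorem Hyp.no_index_two_autOn (h : Hyp G A) (H : Subgroup ↥(autOn A)) : H.index ≠ 2 := by
  intro hH
  refine h.no_index_two (H.comap (Subgroup.normalizerMonoidHom A).rangeRestrict) ?_
  exact (Subgroup.index_comap_of_surjective H (MonoidHom.rangeRestrict_surjective _)).trans hH

end Cfsg.Agent.Goldschmidt
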