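import Cfsg.Agent.Lib.Walter.Blocks
import Mathlib.Combinatorics.SimpleGraph.DegreeSum

/-!
# Pairs with trivially intersecting translates

A group acts irreducibly on the elementary abelian 2-group `V = T ⊕ R`, an element `h` is trivial on `R` and regular
on the non-zero vectors of `T`, `|R| ≤ |T|`, and two different translates of `R` meet trivially.  Then the group has
odd order, or it permutes the two summands.
-/

set_option autoImplicit false
set_option linter.style.haveILetI false
set_option linter.unusedSectionVars false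

namespace Cfsg.Agent.Goldschmidt

open Cfsg.Agent.Walter (tr mem_tr apply_mem_tr tr_tr tr_one tr_injective card_tr rho_mul rho_one rho_inv rho_inv'
  rho_injective)

universe v w

attribute [local instance] _root_.Classical.propDecidable

variable {V : Type v} [AddCommGroup V] [Finite V] {A : Type w} [Group A] [Finite A]

/-- A pair whose fixed part has trivially intersecting translates. -/
structure TIPair (ρ : A →* AddMonoid.End V) (h : A) (T R : AddSubgroup V) : Prop where
  two : ∀ v : V, v + v = 0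
  inj : Function.Injective ρ
  fix : ∀ r ∈ R, ρ h r = r
  stable : ∀ s ∈ T, ρ h s ∈ T
  decomp : ∀ x : V, ∃ s ∈ T, ∃ r ∈ R, x = s + r
  disj : T ⊓ R = ⊥
  reg : ∀ s ∈ T, s ≠ 0 → ∀ s' ∈ T, s' ≠ 0 → ∃ i : ℕ, ρ (h ^ i) s = s'
  ord : orderOf h + 1 = Nat.card T
  big : 4 ≤ Nat.card T
  small : Nat.card R ≤ Nat.card T
  nontriv : R ≠ ⊥
  ti : ∀ a : A, ∀ r ∈ R, r ≠ 0 → ρ a r ∈ R → tr ρ a R = R ∧ tr ρ a T = T

namespace TIPair

variable {ρ : A →* AddMonoid.End V} {h : A} {T R : AddSubgroup V} (B : TIPair ρ h T R)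
include B

theorem one_lt_card : 1 < Nat.card R := by
  haveI : Nontrivial R := R.bot_or_nontrivial.resolve_left B.nontriv
  exact Finite.one_lt_card

theorem exists_ne_zero : ∃ r ∈ R, r ≠ 0 := by
  obtain ⟨⟨x, hx⟩, hne⟩ := (AddSubgroup.ne_bot_iff_exists_ne_zero).1 B.nontriv
  exact ⟨x, hx, fun e => hne (Subtype.ext e)⟩

theorem pow_stable (i : ℕ) {s : V} (hs : s ∈ T) : ρ (h ^ i) s ∈ T := by
  induction i with
  | zero => rwa [pow_zero, rho_one]
  | succ i ih => rw [pow_succ', rho_mul]; exact B.stable _ ih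

theorem pow_fix (i : ℕ) {r : V} (hr : r ∈ R) : ρ (h ^ i) r = r := by
  induction i with
  | zero => rw [pow_zero, rho_one]
  | succ i ih => rw [pow_succ', rho_mul, ih, B.fix r hr]

theorem eq_of_decomp {s s' r r' : V} (hs : s ∈ T) (hs' : s' ∈ T) (hr : r ∈ R) (hr' : r' ∈ R)
    (e : s + r = s' + r') : s = s' ∧ r = r' := by
  have h1 : s - s' = r' - r := by rw [sub_eq_sub_iff_add_eq_add, e, add_comm r']
  have h2 : s - s' ∈ T ⊓ R := AddSubgroup.mem_inf.2 ⟨sub_mem hs hs', h1 ▸ sub_mem hr' hr⟩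
  rw [B.disj, AddSubgroup.mem_bot, sub_eq_zero] at h2
  subst h2
  exact ⟨rfl, add_left_cancel e⟩

/-- The powers of `h` move a non-zero vector of `T` to different vectors. -/
theorem pow_eq_of_apply_eq {s : V} (hs : s ∈ T) (hs0 : s ≠ 0) {i j : ℕ} (e : ρ (h ^ i) s = ρ (h ^ j) s) :
    h ^ i = h ^ j := by
  classical
  haveI : Fintype T := Fintype.ofFinite _
  let f : Fin (orderOf h) → {x : T // x ≠ 0} := fun k => ⟨⟨ρ (h ^ (k : ℕ)) s, B.pow_stable k hs⟩, fun e =>
    hs0 (rho_injective ρ (h ^ (k : ℕ)) ((congrArg Subtype.val e).trans (map_zero _).symm))⟩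
  have hsur : Function.Surjective f := by
    rintro ⟨⟨x, hx⟩, hx0⟩
    obtain ⟨k, hk⟩ := B.reg s hs hs0 x hx (fun e => hx0 (Subtype.ext e))
    refine ⟨⟨k % orderOf h, Nat.mod_lt _ (orderOf_pos h)⟩, ?_⟩
    refine Subtype.ext (Subtype.ext ?_)
    show ρ (h ^ (k % orderOf h)) s = x
    rw [pow_mod_orderOf, hk]
  have hcard : Nat.card (Fin (orderOf h)) = Nat.card {x : T // x ≠ 0} := by
    rw [Nat.card_eq_fintype_card, Fintype.card_fin, Nat.card_eq_fintype_card, Fintype.card_subtype_compl,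
      Fintype.card_subtype_eq, ← Nat.card_eq_fintype_card, ← B.ord, Nat.add_sub_cancel]
  have hbij := (Nat.bijective_iff_surjective_and_card f).2 ⟨hsur, hcard⟩
  rw [← pow_mod_orderOf h i, ← pow_mod_orderOf h j] at e ⊢
  exact congrArg (h ^ ·) (congrArg Fin.val (hbij.1 (a₁ := ⟨i % orderOf h, Nat.mod_lt _ (orderOf_pos h)⟩)
    (a₂ := ⟨j % orderOf h, Nat.mod_lt _ (orderOf_pos h)⟩) (Subtype.ext (Subtype.ext e))))

/-- A non-trivial power of `h` fixes exactly `R`. -/
theorem mem_of_fixed {i : ℕ} (hi : h ^ i ≠ 1) {x : V} (hx : ρ (h ^ i) x = x) : x ∈ R := by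
  obtain ⟨s, hs, r, hr, rfl⟩ := B.decomp x
  rw [map_add, B.pow_fix i hr, add_left_inj] at hx
  by_cases hs0 : s = 0
  · rwa [hs0, zero_add]
  · exact absurd (B.pow_eq_of_apply_eq hs hs0 (i := i) (j := 0) (by rwa [pow_zero, rho_one])) (by simpa using hi)

theorem T_eq_of_R_eq {a b : A} (e : tr ρ a R = tr ρ b R) : tr ρ a T = tr ρ b T := by
  have e' : tr ρ (b⁻¹ * a) R = R := by
    have := congrArg (tr ρ b⁻¹) e
    rwa [tr_tr, tr_tr, inv_mul_cancel, tr_one] at this
  obtain ⟨r, hr, hr0⟩ := B.exists_ne_zero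
  have h2 := (B.ti (b⁻¹ * a) r hr hr0 (e' ▸ apply_mem_tr ρ hr)).2
  have := congrArg (tr ρ b) h2
  rwa [tr_tr, mul_inv_cancel_left] at this

/-- Two translates with a common non-zero vector are equal. -/
theorem tr_eq_of_mem {a b : A} {v : V} (ha : v ∈ tr ρ a R) (hb : v ∈ tr ρ b R) (hv : v ≠ 0) :
    tr ρ a R = tr ρ b R := by
  rw [mem_tr] at ha hb
  have h1 := (B.ti (b⁻¹ * a) _ ha (fun e => hv (rho_injective ρ a⁻¹ (e.trans (map_zero _).symm)))
    (by rw [rho_mul, rho_inv' ρ a]; exact hb)).1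
  have := congrArg (tr ρ b) h1
  rwa [tr_tr, mul_inv_cancel_left] at this

theorem tr_pow_R (i : ℕ) : tr ρ (h ^ i) R = R := by
  obtain ⟨r, hr, hr0⟩ := B.exists_ne_zero
  exact (B.ti (h ^ i) r hr hr0 (by rw [B.pow_fix i hr]; exact hr)).1

theorem tr_pow_T (i : ℕ) : tr ρ (h ^ i) T = T := by
  obtain ⟨r, hr, hr0⟩ := B.exists_ne_zero
  exact (B.ti (h ^ i) r hr hr0 (by rw [B.pow_fix i hr]; exact hr)).2

/-- A translate stable under a non-trivial power of `h`. -/
theorem le_of_stab {a : A} (ha : tr ρ a R ≠ R) {i : ℕ} (hi : h ^ i ≠ 1)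
    (hs : tr ρ (h ^ i * a) R = tr ρ a R) : tr ρ a R ≤ T ∧ R ≤ tr ρ a T := by
  have hmap : ∀ x ∈ tr ρ a R, ρ (h ^ i) x ∈ tr ρ a R := fun x hx => by
    rw [← hs, ← tr_tr]; exact apply_mem_tr ρ hx
  have hzero : ∀ x ∈ tr ρ a R, x ∈ R → x = 0 := fun x hx hxR => by
    by_contra h0
    exact ha ((B.tr_eq_of_mem hx (b := 1) (by rwa [tr_one]) h0).trans (tr_one ρ R))
  constructor
  · let u : tr ρ a R → tr ρ a R := fun x => ⟨ρ (h ^ i) x + x, add_mem (hmap x x.2) x.2⟩
    have hu : Function.Injective u := by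
      intro x y e
      have e' : ρ (h ^ i) (x : V) + x = ρ (h ^ i) (y : V) + y := congrArg Subtype.val e
      have h0 : ρ (h ^ i) ((x : V) - y) = (x : V) - y := by
        rw [map_sub]
        have h1 : ρ (h ^ i) (x : V) - ρ (h ^ i) (y : V) = (y : V) - x := by
          rw [sub_eq_sub_iff_add_eq_add, e', add_comm]
        rw [h1, ← neg_sub, neg_eq_of_add_eq_zero_left (B.two _)]
      exact Subtype.ext (sub_eq_zero.1 (hzero _ (sub_mem x.2 y.2) (B.mem_of_fixed hi h0)))
    intro x hx
    obtain ⟨⟨y, hy⟩, e⟩ := (Finite.injective_iff_surjective.1 hu) ⟨x, hx⟩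
    have e' : ρ (h ^ i) y + y = x := congrArg Subtype.val e
    obtain ⟨s, hs', r, hr, rfl⟩ := B.decomp y
    rw [map_add, B.pow_fix i hr, add_add_add_comm, B.two, add_zero] at e'
    rw [← e']
    exact add_mem (B.pow_stable i hs') hs'
  · intro r hr
    obtain ⟨s, hs', r', hr', e⟩ := B.decomp (ρ a⁻¹ r)
    have hr2 : r = ρ a s + ρ a r' := by rw [← map_add, ← e, rho_inv' ρ a]
    have hT : ρ (h ^ i) (ρ a s) ∈ tr ρ a T := by
      rw [← B.T_eq_of_R_eq hs, ← tr_tr]; exact apply_mem_tr ρ (apply_mem_tr ρ hs')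
    have hR : ρ (h ^ i) (ρ a r') ∈ tr ρ a R := hmap _ (apply_mem_tr ρ hr')
    have he : ρ (h ^ i) (ρ a s) + ρ (h ^ i) (ρ a r') = ρ a s + ρ a r' := by
      rw [← map_add, ← hr2, B.pow_fix i hr]
    rw [mem_tr] at hT hR
    have h2 := congrArg (ρ a⁻¹) he
    rw [map_add, map_add, rho_inv, rho_inv] at h2
    have h3 := (B.eq_of_decomp hT hs' hR hr' h2).2
    have h4 : ρ (h ^ i) (ρ a r') = ρ a r' := by rw [← rho_inv' ρ a (ρ (h ^ i) (ρ a r')), h3]
    rw [hr2, hzero _ (apply_mem_tr ρ hr') (B.mem_of_fixed hi h4), add_zero]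
    exact apply_mem_tr ρ hs'

/-- Without stabiliser the translates along the powers of `h` are different. -/
theorem orbit_injective {a : A} (hno : ∀ i : ℕ, h ^ i ≠ 1 → tr ρ (h ^ i * a) R ≠ tr ρ a R) :
    Function.Injective fun k : Fin (orderOf h) => tr ρ (h ^ (k : ℕ) * a) R := by
  intro k l e
  dsimp only at e
  by_contra hne
  wlog hle : (l : ℕ) ≤ k generalizing k l
  · exact this e.symm (Ne.symm hne) (by omega)
  refine hno ((k : ℕ) - l) (fun e1 => hne (Fin.ext ?_)) ?_
  · have := Nat.eq_zero_of_dvd_of_lt (orderOf_dvd_of_pow_eq_one e1) (by omega)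
    omega
  · refine tr_injective ρ (h ^ (l : ℕ)) ?_
    rw [tr_tr, tr_tr, ← mul_assoc, ← pow_add, Nat.add_sub_cancel' hle]
    exact e

/-- The vectors in a family of translates. -/
theorem card_biUnion_vec [Fintype V] (F : Finset (AddSubgroup V)) (hF : ∀ U ∈ F, ∃ a, tr ρ a R = U) :
    (F.biUnion fun U => Finset.univ.filter fun x => x ∈ U ∧ x ≠ 0).card = F.card * (Nat.card R - 1) := by
  rw [Finset.card_biUnion, Finset.sum_const_nat]
  · intro U hU
    obtain ⟨a, rfl⟩ := hF U hU
    rw [← card_tr ρ a R, Nat.card_eq_fintype_card, ← Finset.card_univ]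
    have h0 : (Finset.univ.filter fun x => x ∈ tr ρ a R ∧ x ≠ 0) =
        (Finset.univ.filter fun x => x ∈ tr ρ a R).erase 0 := by
      ext x; simp [and_comm]
    rw [h0, Finset.card_erase_of_mem (Finset.mem_filter.2 ⟨Finset.mem_univ _, zero_mem _⟩),
      ← Fintype.card_subtype, Finset.card_univ]
  · intro U hU W hW hne
    refine Finset.disjoint_left.2 fun x hx hx' => hne ?_
    obtain ⟨a, rfl⟩ := hF U hU
    obtain ⟨b, rfl⟩ := hF W hW
    exact B.tr_eq_of_mem (Finset.mem_filter.1 hx).2.1 (Finset.mem_filter.1 hx').2.1 (Finset.mem_filter.1 hx).2.2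

/-- **Trivially intersecting pairs.** -/
theorem odd_or_swap (hirr : ∀ U : AddSubgroup V, (∀ a : A, ∀ u ∈ U, ρ a u ∈ U) → U = ⊥ ∨ U = ⊤) :
    Odd (Nat.card A) ∨
      ∀ a : A, (tr ρ a R = R ∧ tr ρ a T = T) ∨ (tr ρ a R = T ∧ tr ρ a T = R) := by
  haveI : Fintype V := Fintype.ofFinite V
  set q := orderOf h with hq
  have hM1 := B.one_lt_card
  have hQ := B.ord
  have hbig := B.big
  obtain ⟨r0, hr0, hr00⟩ := B.exists_ne_zero
  have hTne : T ≠ ⊥ := fun e => by rw [e, AddSubgroup.card_bot] at hbig; omega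
  have hTtop : T ≠ ⊤ := fun e => B.nontriv (by
    have := B.disj; rwa [e, top_inf_eq] at this)
  have hRtop : R ≠ ⊤ := fun e => hTne (by
    have := B.disj; rwa [e, inf_top_eq] at this)
  have hVcard : Fintype.card V = Nat.card T * Nat.card R := by
    rw [← Nat.card_eq_fintype_card, ← Nat.card_prod]
    refine (Nat.card_eq_of_bijective (fun p : T × R => (p.1 : V) + p.2) ⟨?_, ?_⟩).symm
    · rintro ⟨⟨s, hs⟩, r, hr⟩ ⟨⟨s', hs'⟩, r', hr'⟩ e
      obtain ⟨e1, e2⟩ := B.eq_of_decomp hs hs' hr hr' e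
      exact Prod.ext (Subtype.ext e1) (Subtype.ext e2)
    · intro x
      obtain ⟨s, hs, r, hr, rfl⟩ := B.decomp x
      exact ⟨(⟨s, hs⟩, ⟨r, hr⟩), rfl⟩
  -- the translates
  set 𝒯 : Finset (AddSubgroup V) :=
    (Finset.univ.filter fun x => x ≠ 0).biUnion fun x =>
      if hx : ∃ a, x ∈ tr ρ a R then {tr ρ hx.choose R} else ∅ with h𝒯
  have mem𝒯 : ∀ U, U ∈ 𝒯 ↔ ∃ a, tr ρ a R = U := by
    intro U
    constructor
    · intro hU
      obtain ⟨x, -, hx⟩ := Finset.mem_biUnion.1 hU
      split_ifs at hx with hex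
      · exact ⟨_, (Finset.mem_singleton.1 hx).symm⟩
      · exact absurd hx (Finset.notMem_empty _)
    · rintro ⟨a, rfl⟩
      have hx : ρ a r0 ∈ tr ρ a R := apply_mem_tr ρ hr0
      have hx0 : ρ a r0 ≠ 0 := fun e => hr00 (rho_injective ρ a (e.trans (map_zero _).symm))
      refine Finset.mem_biUnion.2 ⟨_, Finset.mem_filter.2 ⟨Finset.mem_univ _, hx0⟩, ?_⟩
      have hex : ∃ b, ρ a r0 ∈ tr ρ b R := ⟨a, hx⟩
      rw [dif_pos hex, Finset.mem_singleton]
      exact B.tr_eq_of_mem hx hex.choose_spec hx0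
  set 𝒟 := 𝒯.filter fun U => U ≤ T with h𝒟
  set orb : A → Finset (AddSubgroup V) := fun a =>
    Finset.univ.image fun k : Fin q => tr ρ (h ^ (k : ℕ) * a) R with horb
  have horbmem : ∀ a U, U ∈ orb a → ∃ b, tr ρ b R = U := fun a U hU => by
    obtain ⟨k, -, rfl⟩ := Finset.mem_image.1 hU
    exact ⟨_, rfl⟩
  have horbR : ∀ a, tr ρ a R ≠ R → ∀ U ∈ orb a, U ≠ R := fun a ha U hU e => by
    obtain ⟨k, -, rfl⟩ := Finset.mem_image.1 hU
    rw [← tr_tr] at e
    exact ha (tr_injective ρ (h ^ (k : ℕ)) (e.trans (B.tr_pow_R _).symm))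
  have horbT : ∀ a, ∀ U ∈ orb a, (U ≤ T ↔ tr ρ a R ≤ T) := fun a U hU => by
    obtain ⟨k, -, rfl⟩ := Finset.mem_image.1 hU
    rw [← tr_tr]
    constructor
    · intro hle x hx
      have h1 : ρ (h ^ (k : ℕ)) x ∈ T := hle (apply_mem_tr ρ hx)
      rw [← B.tr_pow_T k] at h1
      obtain ⟨y, hy, e⟩ := h1
      exact rho_injective ρ _ e ▸ hy
    · intro hle
      rintro _ ⟨x, hx, rfl⟩
      exact B.pow_stable _ (hle hx)
  have horb_self : ∀ a, tr ρ a R ∈ orb a := fun a =>
    Finset.mem_image.2 ⟨⟨0, orderOf_pos h⟩, Finset.mem_univ _, by rw [pow_zero, one_mul]⟩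
  have horb_sub : ∀ a b, tr ρ b R ∈ orb a → orb b ⊆ orb a := fun a b hb U hU => by
    obtain ⟨k, -, rfl⟩ := Finset.mem_image.1 hU
    obtain ⟨l, -, e⟩ := Finset.mem_image.1 hb
    refine Finset.mem_image.2 ⟨⟨((k : ℕ) + l) % q, Nat.mod_lt _ (orderOf_pos h)⟩, Finset.mem_univ _, ?_⟩
    dsimp only
    rw [pow_mod_orderOf, pow_add, mul_assoc, ← tr_tr, e, tr_tr]
  have horb_back : ∀ a b, tr ρ b R ∈ orb a → tr ρ a R ∈ orb b := fun a b hb => by
    obtain ⟨l, -, e⟩ := Finset.mem_image.1 hb
    refine Finset.mem_image.2 ⟨⟨(q - l) % q, Nat.mod_lt _ (orderOf_pos h)⟩, Finset.mem_univ _, ?_⟩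
    dsimp only at e ⊢
    rw [pow_mod_orderOf, ← tr_tr, ← e, tr_tr, ← mul_assoc, ← pow_add, Nat.sub_add_cancel l.2.le,
      hq, pow_orderOf_eq_one, one_mul]
  -- a stabilised translate, or none
  by_cases hstab : ∃ a, tr ρ a R ≠ R ∧ ∃ i : ℕ, h ^ i ≠ 1 ∧ tr ρ (h ^ i * a) R = tr ρ a R
  · obtain ⟨a1, ha1, i1, hi1, hs1⟩ := hstab
    obtain ⟨hle1, -⟩ := B.le_of_stab ha1 hi1 hs1
    -- the translates in `T` cover it
    have hDmem : ∀ U ∈ 𝒟, ∃ a, tr ρ a R = U := fun U hU => (mem𝒯 U).1 (Finset.mem_filter.1 hU).1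
    have hcov : (𝒟.biUnion fun U => Finset.univ.filter fun x => x ∈ U ∧ x ≠ 0) =
        Finset.univ.filter fun x => x ∈ T ∧ x ≠ 0 := by
      ext x
      simp only [Finset.mem_biUnion, Finset.mem_filter, Finset.mem_univ, true_and]
      constructor
      · rintro ⟨U, hU, hx, hx0⟩
        exact ⟨(Finset.mem_filter.1 hU).2 hx, hx0⟩
      · rintro ⟨hx, hx0⟩
        have hv0 : ρ a1 r0 ≠ 0 := fun e => hr00 (rho_injective ρ a1 (e.trans (map_zero _).symm))
        obtain ⟨k, hk⟩ := B.reg _ (hle1 (apply_mem_tr ρ hr0)) hv0 x hx hx0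
        refine ⟨tr ρ (h ^ k * a1) R, Finset.mem_filter.2 ⟨(mem𝒯 _).2 ⟨_, rfl⟩, ?_⟩, ?_, hx0⟩
        · rw [← tr_tr]
          rintro _ ⟨y, hy, rfl⟩
          exact B.pow_stable k (hle1 hy)
        · rw [← hk, ← rho_mul]
          exact apply_mem_tr ρ hr0
    have hTcard : (Finset.univ.filter fun x : V => x ∈ T ∧ x ≠ 0).card = q := by
      have h0 : (Finset.univ.filter fun x => x ∈ T ∧ x ≠ 0) =
          (Finset.univ.filter fun x => x ∈ T).erase 0 := by
        ext x; simp [and_comm]
      rw [h0, Finset.card_erase_of_mem (Finset.mem_filter.2 ⟨Finset.mem_univ _, zero_mem _⟩),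
        ← Fintype.card_subtype, ← Nat.card_eq_fintype_card]
      show Nat.card T - 1 = q
      omega
    have hL : 𝒟.card * (Nat.card R - 1) = q := by rw [← B.card_biUnion_vec 𝒟 hDmem, hcov, hTcard]
    have hqodd : Odd q := by
      have hT2 : Even (Nat.card T) := by
        obtain ⟨⟨s, hs⟩, hs0⟩ := (AddSubgroup.ne_bot_iff_exists_ne_zero).1 hTne
        have ho : addOrderOf (⟨s, hs⟩ : T) = 2 :=
          addOrderOf_eq_prime (Subtype.ext (by rw [two_nsmul]; exact B.two s)) hs0
        exact even_iff_two_dvd.2 (ho ▸ addOrderOf_dvd_natCard _)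
      rw [← hQ, Nat.even_add_one] at hT2
      exact Nat.not_even_iff_odd.1 hT2
    have hLodd : Odd 𝒟.card := (Nat.odd_mul.1 (hL ▸ hqodd)).1
    -- the relation is symmetric
    have hsymm : ∀ a, tr ρ a R ≤ T → R ≤ tr ρ a T := by
      intro a hle
      have haR : tr ρ a R ≠ R := fun e => B.nontriv (le_bot_iff.1 (B.disj ▸ le_inf (e ▸ hle) le_rfl))
      by_cases hst : ∃ i : ℕ, h ^ i ≠ 1 ∧ tr ρ (h ^ i * a) R = tr ρ a R
      · obtain ⟨i, hi, hs⟩ := hst
        exact (B.le_of_stab haR hi hs).2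
      exfalso
      push Not at hst
      have hsub : orb a ⊆ 𝒟 := fun U hU =>
        Finset.mem_filter.2 ⟨(mem𝒯 U).2 (horbmem a U hU), (horbT a U hU).2 hle⟩
      have h1 := Finset.card_le_card hsub
      rw [horb, Finset.card_image_of_injective _ (B.orbit_injective hst), Finset.card_univ, Fintype.card_fin] at h1
      have hM2 : Nat.card R = 2 := by
        by_contra hM
        have h3 : 2 ≤ Nat.card R - 1 := by omega
        have := Nat.mul_le_mul_left 𝒟.card h3
        have := hLodd.pos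
        omega
      -- a translate of order two is pointwise fixed by its stabiliser
      have hz : ∀ x ∈ tr ρ a1 R, x ≠ 0 → x = ρ a1 r0 := by
        intro x hx hx0
        obtain ⟨y, hy, rfl⟩ := hx
        by_contra hne
        have hy0 : y ≠ 0 := fun e => hx0 (by subst e; exact map_zero (ρ a1))
        haveI : Fintype R := Fintype.ofFinite _
        have h3 : ({⟨y, hy⟩, ⟨r0, hr0⟩, 0} : Finset R).card ≤ Fintype.card R := Finset.card_le_univ _
        rw [← Nat.card_eq_fintype_card, hM2, Finset.card_insert_of_notMem, Finset.card_pair] at h3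
        · omega
        · exact fun e => hr00 (congrArg Subtype.val e)
        · simp only [Finset.mem_insert, Finset.mem_singleton, not_or]
          exact ⟨fun e => hne (by rw [show y = r0 from congrArg Subtype.val e]; rfl),
            fun e => hy0 (congrArg Subtype.val e)⟩
      have hv0 : ρ a1 r0 ≠ 0 := fun e => hr00 (rho_injective ρ a1 (e.trans (map_zero _).symm))
      have hfix : ρ (h ^ i1) (ρ a1 r0) = ρ a1 r0 := hz _
        (by rw [← hs1, ← tr_tr]; exact apply_mem_tr ρ (apply_mem_tr ρ hr0))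
        (fun e => hv0 (rho_injective ρ _ (e.trans (map_zero _).symm)))
      exact ha1 ((B.tr_eq_of_mem (apply_mem_tr ρ hr0) (b := 1)
        (by rw [tr_one]; exact B.mem_of_fixed hi1 hfix) hv0).trans (tr_one ρ R))
    -- the translates outside `T`
    set ℰ := 𝒯.filter fun U => ¬ U ≤ T ∧ U ≠ R with hℰ
    by_cases hE : ℰ = ∅
    · right
      have hall : ∀ a, tr ρ a R ≠ R → tr ρ a R ≤ T := fun a ha => by
        by_contra hc
        have : tr ρ a R ∈ ℰ := Finset.mem_filter.2 ⟨(mem𝒯 _).2 ⟨a, rfl⟩, hc, ha⟩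
        rw [hE] at this
        exact Finset.notMem_empty _ this
      intro a
      by_cases ha : tr ρ a R = R
      · exact Or.inl ⟨ha, (B.T_eq_of_R_eq (b := 1) (ha.trans (tr_one ρ R).symm)).trans (tr_one ρ T)⟩
      refine Or.inr ?_
      have hle := hall a ha
      have hRT' := hsymm a hle
      -- all vectors of `T` outside `U = tr a R` lie in `T' = tr a T`
      have hout : ∀ t ∈ T, t ∉ tr ρ a R → t ∈ tr ρ a T := by
        intro t ht htU
        have ht0 : t ≠ 0 := fun e => htU (e ▸ zero_mem _)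
        have ht' : t ∈ 𝒟.biUnion fun U => Finset.univ.filter fun x => x ∈ U ∧ x ≠ 0 := by
          rw [hcov]; simp [ht, ht0]
        obtain ⟨U, hU, hx⟩ := Finset.mem_biUnion.1 ht'
        obtain ⟨b, rfl⟩ := hDmem U hU
        have hx' := (Finset.mem_filter.1 hx).2.1
        have hne : tr ρ (a⁻¹ * b) R ≠ R := fun e => htU (by
          have := congrArg (tr ρ a) e
          rw [tr_tr, mul_inv_cancel_left] at this
          rwa [← this])
        have h2 := hall _ hne
        have h3 : tr ρ b R ≤ tr ρ a T := by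
          intro x hx''
          rw [mem_tr]
          refine h2 ?_
          rw [← tr_tr]
          exact apply_mem_tr ρ hx''
        exact h3 hx'
      by_cases heq : tr ρ a R = T
      · refine ⟨heq, (AddSubgroup.eq_of_le_of_card_ge hRT' ?_).symm⟩
        rw [card_tr, ← heq, card_tr]
      · exfalso
        obtain ⟨t1, ht1, ht1'⟩ : ∃ t ∈ T, t ∉ tr ρ a R := by
          by_contra hc
          push Not at hc
          exact heq (le_antisymm hle hc)
        have hTT : T ≤ tr ρ a T := fun t ht => by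
          by_cases htU : t ∈ tr ρ a R
          · have h2 := hout _ (add_mem ht ht1) (fun e => ht1' (by simpa using sub_mem e htU))
            simpa using sub_mem h2 (hout t1 ht1 ht1')
          · exact hout t ht htU
        have e := AddSubgroup.eq_of_le_of_card_ge hTT (le_of_eq (card_tr ρ a T))
        exact B.nontriv (le_bot_iff.1 (B.disj ▸ le_inf (hRT'.trans_eq e.symm) le_rfl))
    · exfalso
      obtain ⟨U1, hU1⟩ := Finset.nonempty_of_ne_empty hE
      obtain ⟨hU1m, hU1T, hU1R⟩ := Finset.mem_filter.1 hU1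
      obtain ⟨b1, rfl⟩ := (mem𝒯 U1).1 hU1m
      have hfree : ∀ b, tr ρ b R ∈ ℰ → ∀ i : ℕ, h ^ i ≠ 1 → tr ρ (h ^ i * b) R ≠ tr ρ b R := fun b hb i hi e =>
        (Finset.mem_filter.1 hb).2.1 (B.le_of_stab (Finset.mem_filter.1 hb).2.2 hi e).1
      have horbE : ∀ b, tr ρ b R ∈ ℰ → orb b ⊆ ℰ := fun b hb U hU => Finset.mem_filter.2 ⟨(mem𝒯 U).2 (horbmem b U hU),
        fun hle => (Finset.mem_filter.1 hb).2.1 ((horbT b U hU).1 hle), horbR b (Finset.mem_filter.1 hb).2.2 U hU⟩
      have horbcard : ∀ b, tr ρ b R ∈ ℰ → (orb b).card = q := fun b hb => by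
        rw [horb, Finset.card_image_of_injective _ (B.orbit_injective (hfree b hb)), Finset.card_univ, Fintype.card_fin]
      have hEmem : ∀ U ∈ ℰ, ∃ a, tr ρ a R = U := fun U hU => (mem𝒯 U).1 (Finset.mem_filter.1 hU).1
      have houtside : ℰ.card * (Nat.card R - 1) + q + Nat.card R ≤ Fintype.card V := by
        have hd1 : Disjoint (ℰ.biUnion fun U => Finset.univ.filter fun x => x ∈ U ∧ x ≠ 0)
            (Finset.univ.filter fun x => x ∈ T ∧ x ≠ 0) := by
          rw [← hcov, Finset.disjoint_left]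
          intro x hx hx'
          obtain ⟨U, hU, hxU⟩ := Finset.mem_biUnion.1 hx
          obtain ⟨W, hW, hxW⟩ := Finset.mem_biUnion.1 hx'
          obtain ⟨a, rfl⟩ := hEmem U hU
          obtain ⟨b, rfl⟩ := hDmem W hW
          have := B.tr_eq_of_mem (Finset.mem_filter.1 hxU).2.1 (Finset.mem_filter.1 hxW).2.1 (Finset.mem_filter.1 hxU).2.2
          exact (Finset.mem_filter.1 hU).2.1 (this ▸ (Finset.mem_filter.1 hW).2)
        have hd2 : Disjoint ((ℰ.biUnion fun U => Finset.univ.filter fun x => x ∈ U ∧ x ≠ 0) ∪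
            (Finset.univ.filter fun x => x ∈ T ∧ x ≠ 0)) (Finset.univ.filter fun x => x ∈ R) := by
          rw [Finset.disjoint_left]
          intro x hx hxR
          have hxR' := (Finset.mem_filter.1 hxR).2
          rcases Finset.mem_union.1 hx with hx | hx
          · obtain ⟨U, hU, hxU⟩ := Finset.mem_biUnion.1 hx
            obtain ⟨a, rfl⟩ := hEmem U hU
            exact (Finset.mem_filter.1 hU).2.2 ((B.tr_eq_of_mem (Finset.mem_filter.1 hxU).2.1 (b := 1)
              (by rwa [tr_one]) (Finset.mem_filter.1 hxU).2.2).trans (tr_one ρ R))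
          · have hm : x ∈ T ⊓ R := ⟨(Finset.mem_filter.1 hx).2.1, hxR'⟩
            rw [B.disj, AddSubgroup.mem_bot] at hm
            exact (Finset.mem_filter.1 hx).2.2 hm
        have h4 := Finset.card_le_univ (((ℰ.biUnion fun U => Finset.univ.filter fun x => x ∈ U ∧ x ≠ 0) ∪
            (Finset.univ.filter fun x => x ∈ T ∧ x ≠ 0)) ∪ (Finset.univ.filter fun x => x ∈ R))
        rw [Finset.card_union_of_disjoint hd2, Finset.card_union_of_disjoint hd1, B.card_biUnion_vec ℰ hEmem, hTcard,
          ← Fintype.card_subtype, ← Nat.card_eq_fintype_card] at h4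
        exact h4
      have hEeq : ℰ = orb b1 := by
        refine (Finset.Subset.antisymm (horbE b1 hU1) fun U hU => ?_).symm
        by_contra hU'
        obtain ⟨b2, rfl⟩ := hEmem U hU
        have hdisj : Disjoint (orb b1) (orb b2) := Finset.disjoint_left.2 fun W hW hW' => by
          obtain ⟨c, rfl⟩ := horbmem b1 W hW
          exact hU' (horb_sub b1 c hW (horb_back b2 c hW'))
        have h5 := Finset.card_le_card (Finset.union_subset (horbE b1 hU1) (horbE b2 hU))
        rw [Finset.card_union_of_disjoint hdisj, horbcard b1 hU1, horbcard b2 hU] at h5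
        rw [hVcard, ← hQ] at houtside
        nlinarith [Nat.sub_add_cancel hM1.le, orderOf_pos h, Nat.mul_le_mul_right (Nat.card R - 1) h5]
      -- an odd number of translates with odd degree
      have h𝒯card : 𝒯.card = 1 + 𝒟.card + q := by
        have e1 : 𝒯 = ({R} ∪ 𝒟) ∪ ℰ := by
          ext U
          simp only [h𝒟, hℰ, Finset.mem_union, Finset.mem_singleton, Finset.mem_filter]
          constructor
          · intro hU
            by_cases hUR : U = R
            · exact Or.inl (Or.inl hUR)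
            by_cases hUT : U ≤ T
            · exact Or.inl (Or.inr ⟨hU, hUT⟩)
            · exact Or.inr ⟨hU, hUT, hUR⟩
          · rintro ((rfl | ⟨hU, -⟩) | ⟨hU, -⟩)
            · exact (mem𝒯 _).2 ⟨1, tr_one ρ _⟩
            · exact hU
            · exact hU
        rw [e1, Finset.card_union_of_disjoint, Finset.card_union_of_disjoint, Finset.card_singleton,
          hEeq, horbcard b1 hU1]
        · rw [Finset.disjoint_singleton_left]
          exact fun hR => B.nontriv (le_bot_iff.1 (B.disj ▸ le_inf (Finset.mem_filter.1 hR).2 le_rfl))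
        · rw [Finset.disjoint_left]
          intro U hU hU'
          rcases Finset.mem_union.1 hU with hU | hU
          · exact (Finset.mem_filter.1 hU').2.2 (Finset.mem_singleton.1 hU)
          · exact (Finset.mem_filter.1 hU').2.1 (Finset.mem_filter.1 hU).2
      let Γ : SimpleGraph ↥𝒯 :=
        { Adj := fun U W => U ≠ W ∧ ∃ a b, tr ρ a R = (U : AddSubgroup V) ∧ tr ρ b R = (W : AddSubgroup V) ∧
            tr ρ b R ≤ tr ρ a T
          symm := ⟨fun U W hUW => by
            obtain ⟨hne, a, b, ha, hb, hle⟩ := hUW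
            refine ⟨hne.symm, b, a, hb, ha, ?_⟩
            have h6 : tr ρ (a⁻¹ * b) R ≤ T := by
              rw [← tr_tr]
              rintro _ ⟨x, hx, rfl⟩
              obtain ⟨y, hy, rfl⟩ := hle hx
              show ρ a⁻¹ (ρ a y) ∈ T
              rw [rho_inv]; exact hy
            intro x hx
            obtain ⟨y, hy, rfl⟩ := hx
            have h7 := apply_mem_tr ρ (a := a) (hsymm _ h6 hy)
            rwa [tr_tr, mul_inv_cancel_left] at h7⟩
          loopless := ⟨fun U hU => hU.1 rfl⟩ }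
      have hdeg : ∀ U : ↥𝒯, Γ.degree U = 𝒟.card := by
        intro U
        obtain ⟨a, ha⟩ := (mem𝒯 _).1 U.2
        rw [← SimpleGraph.card_neighborFinset_eq_degree]
        refine Finset.card_bij (fun W _ => tr ρ a⁻¹ (W : AddSubgroup V)) (fun W hW => ?_)
          (fun W _ W' _ e => Subtype.ext (tr_injective ρ a⁻¹ e)) (fun W hW => ?_)
        · obtain ⟨-, a', b, ha', hb, hle⟩ := (SimpleGraph.mem_neighborFinset _ _ _).1 hW
          rw [B.T_eq_of_R_eq (ha'.trans ha.symm)] at hle
          refine Finset.mem_filter.2 ⟨(mem𝒯 _).2 ⟨a⁻¹ * b, by rw [← tr_tr, hb]⟩, ?_⟩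
          rw [← hb]
          rintro _ ⟨x, hx, rfl⟩
          obtain ⟨y, hy, rfl⟩ := hle hx
          show ρ a⁻¹ (ρ a y) ∈ T
          rw [rho_inv]; exact hy
        · obtain ⟨b, rfl⟩ := (mem𝒯 _).1 (Finset.mem_filter.1 hW).1
          refine ⟨⟨tr ρ (a * b) R, (mem𝒯 _).2 ⟨_, rfl⟩⟩, (SimpleGraph.mem_neighborFinset _ _ _).2 ⟨fun e => ?_, a, a * b,
            ha, rfl, ?_⟩, ?_⟩
          · have e' : tr ρ (a * b) R = tr ρ a R := by rw [ha]; exact (congrArg Subtype.val e).symm
            rw [← tr_tr] at e'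
            have hbR : tr ρ b R = R := tr_injective ρ a e'
            exact B.nontriv (le_bot_iff.1 (B.disj ▸ le_inf (hbR ▸ (Finset.mem_filter.1 hW).2) le_rfl))
          · rw [← tr_tr]
            rintro _ ⟨x, hx, rfl⟩
            exact apply_mem_tr ρ ((Finset.mem_filter.1 hW).2 hx)
          · show tr ρ a⁻¹ (tr ρ (a * b) R) = tr ρ b R
            rw [tr_tr, inv_mul_cancel_left]
      have hev := Γ.even_card_odd_degree_vertices
      rw [Finset.filter_true_of_mem (fun U _ => by rw [hdeg U]; exact hLodd), Finset.card_univ, Fintype.card_coe,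
        h𝒯card] at hev
      rcases hev with ⟨k, hk⟩
      obtain ⟨l, hl⟩ := hLodd
      obtain ⟨n, hn⟩ := hqodd
      omega
  · push Not at hstab
    have hfree : ∀ b, tr ρ b R ≠ R → ∀ i : ℕ, h ^ i ≠ 1 → tr ρ (h ^ i * b) R ≠ tr ρ b R := hstab
    set 𝒪 := 𝒯.filter fun U => U ≠ R with h𝒪
    have hOmem : ∀ U ∈ 𝒪, ∃ a, tr ρ a R = U := fun U hU => (mem𝒯 U).1 (Finset.mem_filter.1 hU).1
    have horbO : ∀ b, tr ρ b R ≠ R → orb b ⊆ 𝒪 := fun b hb U hU =>
      Finset.mem_filter.2 ⟨(mem𝒯 U).2 (horbmem b U hU), horbR b hb U hU⟩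
    have horbcard : ∀ b, tr ρ b R ≠ R → (orb b).card = q := fun b hb => by
      rw [horb, Finset.card_image_of_injective _ (B.orbit_injective (hfree b hb)), Finset.card_univ, Fintype.card_fin]
    set Y := (𝒪.biUnion fun U => Finset.univ.filter fun x => x ∈ U ∧ x ≠ 0) ∪
      (Finset.univ.filter fun x => x ∈ R) with hY
    have hYcard : Y.card = 𝒪.card * (Nat.card R - 1) + Nat.card R := by
      rw [hY, Finset.card_union_of_disjoint, B.card_biUnion_vec 𝒪 hOmem, ← Fintype.card_subtype,
        ← Nat.card_eq_fintype_card]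
      rw [Finset.disjoint_left]
      intro x hx hxR
      obtain ⟨U, hU, hxU⟩ := Finset.mem_biUnion.1 hx
      obtain ⟨a, rfl⟩ := hOmem U hU
      exact (Finset.mem_filter.1 hU).2 ((B.tr_eq_of_mem (Finset.mem_filter.1 hxU).2.1 (b := 1)
        (by rw [tr_one]; exact (Finset.mem_filter.1 hxR).2) (Finset.mem_filter.1 hxU).2.2).trans (tr_one ρ R))
    have hYmem : ∀ x, x ∈ Y ↔ x = 0 ∨ ∃ a, x ∈ tr ρ a R := by
      intro x
      rw [hY, Finset.mem_union]
      constructor
      · rintro (hx | hx)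
        · obtain ⟨U, hU, hxU⟩ := Finset.mem_biUnion.1 hx
          obtain ⟨a, rfl⟩ := hOmem U hU
          exact Or.inr ⟨a, (Finset.mem_filter.1 hxU).2.1⟩
        · exact Or.inr ⟨1, by rw [tr_one]; exact (Finset.mem_filter.1 hx).2⟩
      · intro hx
        by_cases hxR : x ∈ R
        · exact Or.inr (Finset.mem_filter.2 ⟨Finset.mem_univ _, hxR⟩)
        rcases hx with rfl | ⟨a, ha⟩
        · exact absurd R.zero_mem hxR
        · refine Or.inl (Finset.mem_biUnion.2 ⟨tr ρ a R, Finset.mem_filter.2 ⟨(mem𝒯 _).2 ⟨a, rfl⟩,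
            fun e => hxR (e ▸ ha)⟩, Finset.mem_filter.2 ⟨Finset.mem_univ _, ha, fun e => hxR (e ▸ R.zero_mem)⟩⟩)
    have hXinv : ∀ (a : A) (x : V), x ∉ Y → ρ a x ∉ Y := by
      intro a x hx hax
      refine hx ((hYmem x).2 ?_)
      rcases (hYmem _).1 hax with e | ⟨b, hb⟩
      · exact Or.inl (rho_injective ρ a (e.trans (map_zero _).symm))
      · refine Or.inr ⟨a⁻¹ * b, ?_⟩
        rw [← tr_tr]
        exact (rho_inv ρ a x) ▸ apply_mem_tr ρ hb
    by_cases hfull : Finset.univ ⊆ Y
    · -- every vector lies in a translate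
      left
      have hcover : ∀ x : V, x ≠ 0 → ∃ a, x ∈ tr ρ a R := fun x hx =>
        ((hYmem x).1 (hfull (Finset.mem_univ x))).resolve_left hx
      have hM2 : Nat.card R = 2 := by
        by_contra hM
        have hM3 : 3 ≤ Nat.card R := by omega
        have h1 : Fintype.card V ≤ Y.card := Finset.card_le_card hfull
        rw [hYcard, hVcard, ← hQ] at h1
        -- at most one orbit
        obtain ⟨b1, hb1⟩ : ∃ b, tr ρ b R ≠ R := by
          by_contra hc
          push Not at hc
          rcases hirr R (fun a u hu => (hc a) ▸ apply_mem_tr ρ hu) with e | e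
          · exact B.nontriv e
          · exact hRtop e
        have hO : 𝒪.card ≤ q := by
          rw [← horbcard b1 hb1]
          refine Finset.card_le_card fun U hU => ?_
          by_contra hU'
          obtain ⟨b2, rfl⟩ := hOmem U hU
          have hb2 := (Finset.mem_filter.1 hU).2
          have hdisj : Disjoint (orb b1) (orb b2) := Finset.disjoint_left.2 fun W hW hW' => by
            obtain ⟨c, rfl⟩ := horbmem b1 W hW
            exact hU' (horb_sub b1 c hW (horb_back b2 c hW'))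
          have h5 := Finset.card_le_card (Finset.union_subset (horbO b1 hb1) (horbO b2 hb2))
          rw [Finset.card_union_of_disjoint hdisj, horbcard b1 hb1, horbcard b2 hb2] at h5
          have h6 : Y.card ≤ Fintype.card V := Finset.card_le_univ _
          rw [hYcard, hVcard, ← hQ] at h6
          nlinarith [Nat.sub_add_cancel hM1.le, orderOf_pos h, Nat.mul_le_mul_right (Nat.card R - 1) h5]
        nlinarith [Nat.sub_add_cancel hM1.le, orderOf_pos h, Nat.mul_le_mul_right (Nat.card R - 1) hO]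
      have hRset : ∀ x ∈ R, x ≠ 0 → x = r0 := by
        intro x hx hx0
        by_contra hne
        haveI : Fintype R := Fintype.ofFinite _
        have h3 : ({⟨x, hx⟩, ⟨r0, hr0⟩, 0} : Finset R).card ≤ Fintype.card R := Finset.card_le_univ _
        rw [← Nat.card_eq_fintype_card, hM2, Finset.card_insert_of_notMem, Finset.card_pair] at h3
        · omega
        · exact fun e => hr00 (congrArg Subtype.val e)
        · simp only [Finset.mem_insert, Finset.mem_singleton, not_or]
          exact ⟨fun e => hne (congrArg Subtype.val e), fun e => hx0 (congrArg Subtype.val e)⟩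
      have htrans : ∀ x : V, x ≠ 0 → ∃ a, ρ a r0 = x := fun x hx => by
        obtain ⟨a, y, hy, rfl⟩ := hcover x hx
        exact ⟨a, by rw [hRset y hy (fun e => hx (by subst e; exact map_zero (ρ a)))]; rfl⟩
      by_contra hodd
      rw [Nat.not_odd_iff_even, even_iff_two_dvd] at hodd
      haveI : Fact (Nat.Prime 2) := ⟨Nat.prime_two⟩
      obtain ⟨u0, hu0⟩ := exists_prime_orderOf_dvd_card' 2 hodd
      obtain ⟨v, hv⟩ : ∃ v, ρ u0 v ≠ v := by
        by_contra hc
        push Not at hc
        have : u0 = 1 := B.inj (AddMonoidHom.ext fun x => (hc x).trans (rho_one ρ x).symm)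
        rw [this, orderOf_one] at hu0
        omega
      have hv0 : v ≠ 0 := fun e => hv (by rw [e, map_zero])
      obtain ⟨a, rfl⟩ := htrans v hv0
      set u := a⁻¹ * u0 * a with hu
      have huu : u * u = 1 := by
        have e : u0 * u0 = 1 := by rw [← pow_two, ← hu0, pow_orderOf_eq_one]
        calc u * u = a⁻¹ * (u0 * u0) * a := by rw [hu]; group
          _ = 1 := by rw [e]; group
      set w := ρ u r0 with hw
      have hw0 : w ≠ r0 := fun e => hv (by
        have := congrArg (ρ a) e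
        rwa [hw, ← rho_mul, hu, show a * (a⁻¹ * u0 * a) = u0 * a by group, rho_mul] at this)
      have hwn : w ≠ 0 := fun e => hr00 (rho_injective ρ u (e.trans (map_zero _).symm))
      let Γ : SimpleGraph {x : V // x ≠ 0} :=
        { Adj := fun x y => ∃ g, ρ g r0 = (x : V) ∧ ρ g w = (y : V)
          symm := ⟨fun x y hxy => by
            obtain ⟨g, h1, h2⟩ := hxy
            refine ⟨g * u, by rw [rho_mul, ← hw, h2], ?_⟩
            rw [rho_mul, hw, ← rho_mul ρ u u, huu, rho_one, h1]⟩
          loopless := ⟨fun x hx => by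
            obtain ⟨g, h1, h2⟩ := hx
            exact hw0 (rho_injective ρ g (h2.trans h1.symm))⟩ }
      have hdeg : ∀ x, Γ.degree x = q := by
        intro x
        obtain ⟨g, hg⟩ := htrans x x.2
        rw [← SimpleGraph.card_neighborFinset_eq_degree]
        obtain ⟨s, hs, e, he, hwd⟩ := B.decomp w
        have hs0 : s ≠ 0 := fun e1 => by
          rw [e1, zero_add] at hwd
          exact hw0 (hRset w (hwd ▸ he) hwn)
        refine Eq.trans (Finset.card_bij (fun (k : Fin q) _ => (⟨ρ (g * h ^ (k : ℕ)) w, fun e1 =>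
          hwn (rho_injective ρ _ (e1.trans (map_zero _).symm))⟩ : {x : V // x ≠ 0})) (fun k _ => ?_)
          (fun k _ l _ e1 => ?_) (fun y hy => ?_)).symm (by rw [Finset.card_univ, Fintype.card_fin])
        · rw [SimpleGraph.mem_neighborFinset]
          exact ⟨g * h ^ (k : ℕ), by rw [rho_mul, B.pow_fix _ hr0, hg], rfl⟩
        · have e2 : ρ (g * h ^ (k : ℕ)) w = ρ (g * h ^ (l : ℕ)) w := congrArg Subtype.val e1
          rw [rho_mul, rho_mul] at e2
          have e3 := rho_injective ρ g e2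
          rw [hwd, map_add, map_add, B.pow_fix _ he, B.pow_fix _ he, add_left_inj] at e3
          exact Fin.ext (pow_injOn_Iio_orderOf k.2 l.2 (B.pow_eq_of_apply_eq hs hs0 e3))
        · obtain ⟨g', h1, h2⟩ := (SimpleGraph.mem_neighborFinset _ _ _).1 hy
          have hkeep := B.ti (g⁻¹ * g') r0 hr0 hr00 (by rw [rho_mul, h1, ← hg, rho_inv]; exact hr0)
          set k' := g⁻¹ * g' with hk'
          have hkT : ρ k' s ∈ T := hkeep.2 ▸ apply_mem_tr ρ hs
          have hke : ρ k' e = e := by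
            have h3 : ρ k' e ∈ R := hkeep.1 ▸ apply_mem_tr ρ he
            by_cases he0 : e = 0
            · rw [he0, map_zero]
            · rw [hRset _ h3 (fun e1 => he0 (rho_injective ρ k' (e1.trans (map_zero _).symm))), hRset e he he0]
          obtain ⟨i, hi⟩ := B.reg s hs hs0 _ hkT fun e1 => hs0 (rho_injective ρ k' (e1.trans (map_zero _).symm))
          refine ⟨⟨i % q, Nat.mod_lt _ (orderOf_pos h)⟩, Finset.mem_univ _, Subtype.ext ?_⟩
          show ρ (g * h ^ (i % q)) w = y
          rw [pow_mod_orderOf, rho_mul, ← h2, show g' = g * k' by rw [hk', mul_inv_cancel_left], rho_mul, hwd, map_add,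
            map_add (ρ k'), B.pow_fix _ he, hi, hke]
      have hev := Γ.even_card_odd_degree_vertices
      have hqodd : Odd q := by
        obtain ⟨⟨s, hs⟩, hs0⟩ := (AddSubgroup.ne_bot_iff_exists_ne_zero).1 hTne
        have ho : addOrderOf (⟨s, hs⟩ : T) = 2 :=
          addOrderOf_eq_prime (Subtype.ext (by rw [two_nsmul]; exact B.two s)) hs0
        have hd : 2 ∣ Nat.card T := ho ▸ addOrderOf_dvd_natCard _
        rw [Nat.odd_iff]; omega
      rw [Finset.filter_true_of_mem (fun x _ => by rw [hdeg x]; exact hqodd), Finset.card_univ,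
        Fintype.card_subtype_compl, Fintype.card_subtype_eq, hVcard, hM2] at hev
      rcases hev with ⟨k, hk⟩
      omega
    · exfalso
      obtain ⟨x, -, hx⟩ := Finset.not_subset.1 hfull
      obtain ⟨b1, hb1⟩ : ∃ b, tr ρ b R ≠ R := by
        by_contra hc
        push Not at hc
        rcases hirr R (fun a u hu => (hc a) ▸ apply_mem_tr ρ hu) with e | e
        · exact B.nontriv e
        · exact hRtop e
      obtain ⟨s, hs, r, hr, rfl⟩ := B.decomp x
      have hs0 : s ≠ 0 := fun e => hx ((hYmem _).2 (Or.inr ⟨1, by rw [tr_one, e, zero_add]; exact hr⟩))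
      -- the vectors outside all translates form one orbit
      have hX : ∀ y : V, y ∉ Y → ∃ i : ℕ, y = ρ (h ^ i) s + r := by
        let O := Finset.univ.image fun k : Fin q => ρ (h ^ (k : ℕ)) s + r
        have hOX : O ⊆ Finset.univ \ Y := fun y hy => by
          obtain ⟨k, -, rfl⟩ := Finset.mem_image.1 hy
          refine Finset.mem_sdiff.2 ⟨Finset.mem_univ _, ?_⟩
          have := hXinv (h ^ (k : ℕ)) _ hx
          rwa [map_add, B.pow_fix _ hr] at this
        have hOc : O.card = q := by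
          rw [Finset.card_image_of_injective, Finset.card_univ, Fintype.card_fin]
          intro k l e
          dsimp only at e
          rw [add_left_inj] at e
          exact Fin.ext (pow_injOn_Iio_orderOf k.2 l.2 (B.pow_eq_of_apply_eq hs hs0 e))
        have hle : (Finset.univ \ Y).card ≤ q := by
          rw [Finset.card_univ_sdiff, hYcard, hVcard, ← hQ]
          have h1 : q ≤ 𝒪.card := (horbcard b1 hb1) ▸ Finset.card_le_card (horbO b1 hb1)
          have h2 := Nat.mul_le_mul_right (Nat.card R - 1) h1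
          have h3 : (q + 1) * Nat.card R = q * (Nat.card R - 1) + q + Nat.card R := by
            have := Nat.sub_add_cancel hM1.le
            nlinarith
          rw [hq] at h2 h3 ⊢
          omega
        intro y hy
        have : y ∈ O := by
          rw [Finset.eq_of_subset_of_card_le hOX (by rw [hOc]; exact hle)]
          exact Finset.mem_sdiff.2 ⟨Finset.mem_univ _, hy⟩
        obtain ⟨k, -, rfl⟩ := Finset.mem_image.1 this
        exact ⟨k, rfl⟩
      set U := AddSubgroup.closure {z : V | ∃ y y', y ∉ Y ∧ y' ∉ Y ∧ z = y + y'} with hU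
      have hUT : U ≤ T := (AddSubgroup.closure_le _).2 (by
        rintro _ ⟨y, y', hy, hy', rfl⟩
        obtain ⟨i, rfl⟩ := hX y hy
        obtain ⟨j, rfl⟩ := hX y' hy'
        show _ ∈ T
        rw [add_add_add_comm, B.two r, add_zero]
        exact add_mem (B.pow_stable i hs) (B.pow_stable j hs))
      have hUinv : ∀ a : A, ∀ u ∈ U, ρ a u ∈ U := by
        intro a u hu
        induction hu using AddSubgroup.closure_induction with
        | mem z hz =>
          obtain ⟨y, y', hy, hy', rfl⟩ := hz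
          exact AddSubgroup.subset_closure ⟨_, _, hXinv a y hy, hXinv a y' hy', map_add _ _ _⟩
        | zero => rw [map_zero]; exact zero_mem _
        | add y z _ _ hy hz => rw [map_add]; exact add_mem hy hz
        | neg y _ hy => rw [map_neg]; exact neg_mem hy
      rcases hirr U hUinv with e | e
      · have hh : h ^ 1 ≠ 1 := by
          rw [pow_one]; intro e1; rw [e1, orderOf_one] at hQ; omega
        have hz : ρ (h ^ 1) (s + r) + (s + r) ∈ U := AddSubgroup.subset_closure ⟨_, _, hXinv _ _ hx, hx, rfl⟩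
        rw [e, AddSubgroup.mem_bot, map_add, B.pow_fix 1 hr, add_add_add_comm, B.two r, add_zero,
          add_eq_zero_iff_eq_neg, neg_eq_of_add_eq_zero_left (B.two s)] at hz
        exact hs0 (by
          have h1 := B.mem_of_fixed hh hz
          have h2 : s ∈ T ⊓ R := ⟨hs, h1⟩
          rwa [B.disj, AddSubgroup.mem_bot] at h2)
      · exact hTtop (top_le_iff.1 (e ▸ hUT))

/-- Without subgroups of index two the group has odd order. -/
theorem odd_card (hirr : ∀ U : AddSubgroup V, (∀ a : A, ∀ u ∈ U, ρ a u ∈ U) → U = ⊥ ∨ U = ⊤)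
    (hidx : ∀ H : Subgroup A, H.index ≠ 2) : Odd (Nat.card A) := by
  rcases B.odd_or_swap hirr with h1 | h1
  · exact h1
  exfalso
  have hne : T ≠ R := fun e => B.nontriv (by
    have := B.disj; rwa [e, inf_idem] at this)
  by_cases hall : ∀ a, tr ρ a R = R
  · rcases hirr R (fun a u hu => (hall a) ▸ apply_mem_tr ρ hu) with e | e
    · exact B.nontriv e
    · have := B.disj
      rw [e, inf_top_eq] at this
      have hb := B.big
      rw [this, AddSubgroup.card_bot] at hb
      omega
  push Not at hall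
  obtain ⟨g, hg⟩ := hall
  refine hidx (Cfsg.Agent.Walter.trStab ρ R) (Subgroup.index_eq_two_iff.2 ⟨g, fun b => ?_⟩)
  obtain ⟨hgR, hgT⟩ := (h1 g).resolve_left fun e => hg e.1
  have hmem : ∀ a, a ∈ Cfsg.Agent.Walter.trStab ρ R ↔ tr ρ a R = R := fun a => Iff.rfl
  simp only [hmem]
  rcases h1 b with ⟨hbR, hbT⟩ | ⟨hbR, hbT⟩
  · refine Or.inr ⟨hbR, ?_⟩
    rw [← tr_tr, hgR, hbT]
    exact hne
  · refine Or.inl ⟨?_, ?_⟩
    · rw [← tr_tr, hgR, hbT]
    · rw [hbR]; exact hne

end TIPair

end Cfsg.Agent.Goldschmidt
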