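import Cfsg.Agent.Lib.Goldschmidt.NoComp
import Cfsg.Agent.Lib.UFour.CharSection
import Cfsg.Agent.Lib.Char.BlockLink
import Cfsg.Agent.Lib.Char.Q8Columns
import Cfsg.Agent.Lib.Char.Convolution
import Cfsg.Agent.Lib.Char.Ortho

/-!
# Rank two: no good involution outside `A`

For `y` in a Sylow subgroup outside `A`, centralised by `A`, the product of `y` with a conjugate of `a` in `A` is
conjugate to some `y * b` times an element of the core of its centraliser.  So multiplication by `χ a / χ 1` maps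
the values at the coset `y A` to combinations of such values, the same for all characters of the principal block;
block orthogonality then kills every polynomial in these ratios, also one singling out the trivial character.
-/

set_option autoImplicit false
set_option linter.style.haveILetI false
set_option linter.unusedSectionVars false

open Cfsg Cfsg.Agent
open scoped ComplexConjugate

namespace Cfsg.Agent.Goldschmidt

open Subgroup
open Cfsg.Agent.Local.SCA (SC comm_of_mem le_centralizer_of_mem conj_mem elemAb_map elemAb_subgroupOf)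

universe u

variable {G : Type u} [Group G] [Finite G] {A : Subgroup G}

/-- The centraliser of `z` is its core times a part normalising `A`. -/
def FactorAt (A : Subgroup G) (z : G) : Prop :=
  ∀ g ∈ centralizer ({z} : Set G), ∃ o ∈ centralizerPPrimeCore 2 z, o * g ∈ normalizer (A : Set G)

/-- This holds when no component of the centraliser modulo its core is moved. -/
theorem factorAt_of_not_moved (hL : LocalStatement.{u}) (h : Hyp G A) {z : G} (hz : z ≠ 1)
    (hAC : A ≤ centralizer ({z} : Set G)) (hno : ∀ J, ¬ Moved (img z A) J) : FactorAt A z := by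
  intro g hg
  haveI : Fact (Nat.Prime 2) := ⟨Nat.prime_two⟩
  set C := centralizer ({z} : Set G) with hC
  haveI : (Cfsg.oddCore ↥C).Normal := Solv.pPrimeCore_normal 2
  set π := QuotientGroup.mk' (Cfsg.oddCore ↥C)
  set A' := A.subgroupOf C
  have hA' : IsElementaryAbelian 2 A' := elemAb_subgroupOf h.elem C
  have hsc' : SC A' := h.sc.subgroupOf hAC
  have hloc : LocalHyp (Cq z) (img z A) :=
    ⟨Fusion.pPrimeCore_quotient_eq_bot, elemAb_map hA' π, hsc'.map _, h.below_quot hz⟩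
  have hlayer : movedLayer (img z A) = ⊥ := le_bot_iff.1 (sSup_le fun J hJ => (hno J hJ).elim)
  have hnormal : (A'.map π).Normal := by
    refine Subgroup.normalizer_eq_top_iff.1 (top_le_iff.1 fun y _ => ?_)
    obtain ⟨e, he, hey⟩ := (hL (Cq z) (img z A) hloc).frattini y
    rw [hlayer, Subgroup.mem_bot] at he
    rw [he, one_mul] at hey
    exact hey
  obtain ⟨o, ho, hn⟩ := Local.SCA.factor hsc'.isPGroup (Local.SCA.sup_normal_of_map hnormal) ⟨g, hg⟩
  rw [← Subgroup.subgroupOf_normalizer_eq hAC] at hn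
  exact ⟨o, ⟨o, ho, rfl⟩, hn⟩

/-- An element inverted by a conjugate of an element of `A` lies in the core. -/
theorem mem_core_of_inverted (hA : IsElementaryAbelian 2 A) (hsc : SC A) {z : G}
    (hAC : A ≤ centralizer ({z} : Set G)) (hF : FactorAt A z) {a : G} (ha : a ∈ A) {g w : G}
    (hgC : g * a * g⁻¹ ∈ centralizer ({z} : Set G)) (hwC : w ∈ centralizer ({z} : Set G))
    (hodd : Odd (orderOf w)) (hinv : g * a * g⁻¹ * w * (g * a * g⁻¹) = w⁻¹) :
    w ∈ centralizerPPrimeCore 2 z := by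
  haveI : Fact (Nat.Prime 2) := ⟨Nat.prime_two⟩
  set C := centralizer ({z} : Set G) with hC
  set e := g * a * g⁻¹ with he
  have haa : a * a = 1 := by rw [← sq]; exact hA.2 a ha
  have hee : e * e = 1 := by
    rw [he, show g * a * g⁻¹ * (g * a * g⁻¹) = g * (a * a) * g⁻¹ by group, haa]
    group
  -- a conjugate in `C` lies in `A`
  obtain ⟨T, hT, hAT⟩ := Fusion.exists_sylIn_ge hsc.isPGroup hAC
  obtain ⟨S, hS⟩ := hT.isPGroup.exists_le_sylow
  have hEp : IsPGroup 2 (zpowers e) := IsPGroup.iff_orderOf.2 fun x => by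
    obtain ⟨i, hi⟩ := x.2
    have hx2 : x ^ 2 ^ 1 = 1 := Subtype.ext (by
      rw [SubgroupClass.coe_pow, ← hi, pow_one, ← zpow_natCast, ← zpow_mul, mul_comm, zpow_mul, zpow_natCast,
        sq, hee, one_zpow]
      rfl)
    obtain ⟨k, -, hk⟩ := (Nat.dvd_prime_pow Nat.prime_two).1 (orderOf_dvd_of_pow_eq_one hx2)
    exact ⟨k, hk⟩
  obtain ⟨d, hd, hdT⟩ := hT.conj_le hEp (zpowers_le.2 hgC)
  have hdA : d * e * d⁻¹ ∈ A := by
    have h1 : d * e * d⁻¹ ∈ (S : Subgroup G) := hS (hdT ⟨e, mem_zpowers e, rfl⟩)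
    have h2 := (hsc.closed_in (hAT.trans hS)).2 a ha (d * g)
      (by rwa [show d * g * a * (d * g)⁻¹ = d * e * d⁻¹ by rw [he]; group])
    rwa [show d * g * a * (d * g)⁻¹ = d * e * d⁻¹ by rw [he]; group] at h2
  haveI : (Cfsg.oddCore ↥C).Normal := Solv.pPrimeCore_normal 2
  set π := QuotientGroup.mk' (Cfsg.oddCore ↥C) with hπ
  have hcore : ∀ {x : G} (hx : x ∈ C), x ∈ centralizerPPrimeCore 2 z ↔ π ⟨x, hx⟩ = 1 := fun {x} hx => by
    rw [hπ, QuotientGroup.mk'_apply, QuotientGroup.eq_one_iff]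
    constructor
    · rintro ⟨y, hy, e'⟩
      rwa [show (⟨x, hx⟩ : C) = y from Subtype.ext e'.symm]
    · exact fun hy => ⟨_, hy, rfl⟩
  have himg : ∀ {x : G}, x ∈ C → ∀ b ∈ A, ∃ b' : C, (b' : G) ∈ A ∧
      ∀ (hxb : x * b * x⁻¹ ∈ C), π ⟨x * b * x⁻¹, hxb⟩ = π b' := by
    intro x hx b hb
    obtain ⟨o, ho, hn⟩ := hF x hx
    have hoC : o ∈ C := LocBal.core_le_centralizer z ho
    have hb' := conj_mem hn hb
    refine ⟨⟨o * x * b * (o * x)⁻¹, hAC hb'⟩, hb', fun hxb => ?_⟩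
    rw [show (⟨o * x * b * (o * x)⁻¹, hAC hb'⟩ : C) = ⟨o, hoC⟩ * ⟨x * b * x⁻¹, hxb⟩ * (⟨o, hoC⟩ : C)⁻¹ from
      Subtype.ext (by simp only [Subgroup.coe_mul, InvMemClass.coe_inv]; group), map_mul, map_mul, map_inv,
      (hcore hoC).1 ho, one_mul, inv_one, mul_one]
  obtain ⟨b₁, hb₁, e₁⟩ := himg (inv_mem hd) _ hdA
  have hE : π ⟨e, hgC⟩ = π b₁ := by
    have hmem : d⁻¹ * (d * e * d⁻¹) * d⁻¹⁻¹ ∈ C := by rwa [show d⁻¹ * (d * e * d⁻¹) * d⁻¹⁻¹ = e by group]
    rw [← e₁ hmem]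
    exact congrArg π (Subtype.ext (by group))
  obtain ⟨b₂, hb₂, e₂⟩ := himg hwC _ hb₁
  have hmem2 : w * (b₁ : G) * w⁻¹ ∈ C := mul_mem (mul_mem hwC b₁.2) (inv_mem hwC)
  set W := π ⟨w, hwC⟩ with hW
  have hWW : W * W = π b₂ * π b₁ := by
    have e3 : (⟨w, hwC⟩ : C) * ⟨w, hwC⟩ = ⟨w, hwC⟩ * ⟨e, hgC⟩ * (⟨w, hwC⟩ : C)⁻¹ * ⟨e, hgC⟩ := Subtype.ext (by
      simp only [Subgroup.coe_mul, InvMemClass.coe_inv]
      rw [← hinv, show w * e * (e * w * e) * e = w * (e * e) * w * (e * e) by group, hee]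
      group)
    rw [hW, ← map_mul, e3, map_mul, map_mul, map_mul, hE, ← map_mul, ← map_mul,
      show (⟨w, hwC⟩ : C) * b₁ * (⟨w, hwC⟩ : C)⁻¹ = ⟨_, hmem2⟩ from Subtype.ext (by simp), e₂ hmem2]
  have h4 : W * W * (W * W) = 1 := by
    rw [hWW, ← map_mul, ← map_mul]
    refine (congrArg π (Subtype.ext ?_)).trans (map_one π)
    show (b₂ : G) * b₁ * ((b₂ : G) * b₁) = 1
    rw [← sq]
    exact hA.2 _ (mul_mem hb₂ hb₁)
  refine (hcore hwC).2 ?_
  have ho : orderOf W ∣ 4 := orderOf_dvd_of_pow_eq_one (by rw [show 4 = 2 + 2 from rfl, pow_add, sq, h4])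
  have ho2 : Odd (orderOf W) := hodd.of_dvd_nat (by
    refine orderOf_dvd_of_pow_eq_one ?_
    rw [hW, ← map_pow, show (⟨w, hwC⟩ : C) ^ orderOf w = 1 from Subtype.ext (by simp [pow_orderOf_eq_one]), map_one])
  have : orderOf W = 1 :=
    Nat.Coprime.eq_one_of_dvd ((Nat.coprime_two_right.2 ho2).pow_right 2) (show orderOf W ∣ 2 ^ 2 from ho)
  exact orderOf_eq_one_iff.1 this

/-- The product of `y` with a conjugate of `a` is conjugate to some `y * b` times an element of the core. -/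
theorem product_form (S : Sylow 2 G) (hsc : IsStronglyClosed A (S : Subgroup G)) (hA : IsElementaryAbelian 2 A)
    (hcen : ∀ s ∈ (S : Subgroup G), ∀ x ∈ A, Commute s x) {y : G} (hy : orderOf y = 2) (hyS : y ∈ (S : Subgroup G))
    (hyA : y ∉ A) (hF : ∀ b ∈ A, FactorAt A (y * b)) {a : G} (ha : a ∈ A) (t : G) :
    ∃ b ∈ A, ∃ c w : G, w ∈ centralizerPPrimeCore 2 (y * b) ∧ c * (t * a * t⁻¹ * y) * c⁻¹ = y * b * w := by
  haveI : Fact (Nat.Prime 2) := ⟨Nat.prime_two⟩
  have hyy : y * y = 1 := by rw [← sq, ← hy]; exact pow_orderOf_eq_one y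
  have hyi : y⁻¹ = y := inv_eq_of_mul_eq_one_right hyy
  set a' := t * a * t⁻¹ with ha'
  have ha'2 : a' * a' = 1 := by
    rw [ha', show t * a * t⁻¹ * (t * a * t⁻¹) = t * (a * a) * t⁻¹ by group, ← sq, hA.2 a ha]
    group
  have ha'i : a'⁻¹ = a' := inv_eq_of_mul_eq_one_right ha'2
  set x := a' * y with hx
  have hyx : y * x * y⁻¹ = x⁻¹ := by
    rw [hx, mul_inv_rev, hyi, ha'i, ← mul_assoc, mul_assoc (y * a'), hyy, mul_one]
  have hax : a' * x * a' = x⁻¹ := by
    rw [hx, mul_inv_rev, hyi, ha'i, show a' * (a' * y) * a' = a' * a' * (y * a') by group, ha'2, one_mul]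
  obtain ⟨k, m, hm, hn⟩ := Nat.exists_eq_pow_mul_and_not_dvd (orderOf_pos x).ne' 2 (by norm_num)
  obtain ⟨l, hl⟩ : ∃ l, m = 2 * l + 1 := ⟨m / 2, by omega⟩
  set as := x ^ l * a' * (x ^ l)⁻¹ with has
  have hasx : as * y = x ^ m := by
    have e1 : a' * (x ^ l)⁻¹ = x ^ l * a' := by
      have e2 : a' * x ^ l * a'⁻¹ = (x ^ l)⁻¹ := by rw [← conj_pow, ha'i, hax, inv_pow]
      rw [← e2, ha'i]
      calc a' * (a' * x ^ l * a') = a' * a' * (x ^ l * a') := by group
        _ = _ := by rw [ha'2, one_mul]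
    rw [has, show x ^ l * a' * (x ^ l)⁻¹ * y = x ^ l * (a' * (x ^ l)⁻¹) * y by group, e1,
      show x ^ l * (x ^ l * a') * y = x ^ l * x ^ l * (a' * y) by group, show a' * y = x from hx.symm, ← pow_add,
      ← pow_succ, hl, two_mul]
  have hq : orderOf (x ^ m) ∣ 2 ^ k := orderOf_dvd_of_pow_eq_one (by
    rw [← pow_mul, mul_comm, ← hn, pow_orderOf_eq_one])
  -- `as` commutes with `y`
  obtain ⟨j, -, hj⟩ := (Nat.dvd_prime_pow Nat.prime_two).1 hq
  set P : Subgroup G := zpowers (x ^ m) ⊔ zpowers y with hP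
  have hPp : IsPGroup 2 P := by
    refine (IsPGroup.of_card (n := j) (by rw [Nat.card_zpowers, hj])).to_sup_of_normal_left'
      (IsPGroup.of_card (n := 1) (by rw [Nat.card_zpowers, hy, pow_one])) (zpowers_le.2 ?_)
    refine Fusion.mem_normalizer_of_cj_le ?_
    show (zpowers (x ^ m)).map (MulAut.conj y).toMonoidHom ≤ _
    rw [MonoidHom.map_zpowers, zpowers_le]
    show y * x ^ m * y⁻¹ ∈ zpowers (x ^ m)
    rw [← conj_pow, hyx, inv_pow]
    exact inv_mem (mem_zpowers _)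
  obtain ⟨g, -, hgS⟩ := (Fusion.sylIn_top S).conj_le hPp le_top
  have hgy : g * y * g⁻¹ ∈ (S : Subgroup G) := hgS ⟨y, mem_sup_right (mem_zpowers y), rfl⟩
  have hasP : as ∈ P := by
    rw [show as = x ^ m * y⁻¹ by rw [← hasx, mul_inv_cancel_right]]
    exact mul_mem (mem_sup_left (mem_zpowers _)) (inv_mem (mem_sup_right (mem_zpowers y)))
  have hgas : g * as * g⁻¹ ∈ A := by
    have h1 := hsc.2 a ha (g * x ^ l * t) (by
      rw [show g * x ^ l * t * a * (g * x ^ l * t)⁻¹ = g * as * g⁻¹ by rw [has, ha']; group]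
      exact hgS ⟨as, hasP, rfl⟩)
    rwa [show g * x ^ l * t * a * (g * x ^ l * t)⁻¹ = g * as * g⁻¹ by rw [has, ha']; group] at h1
  have hcy : Commute as y := by
    have h1 := (hcen _ hgy _ hgas).symm
    have h2 := h1.map (MulAut.conj g⁻¹).toMonoidHom
    simp only [MulEquiv.coe_toMonoidHom, MulAut.conj_apply] at h2
    rwa [show g⁻¹ * (g * as * g⁻¹) * g⁻¹⁻¹ = as by group, show g⁻¹ * (g * y * g⁻¹) * g⁻¹⁻¹ = y by group] at h2
  have has2 : as * as = 1 := by
    rw [has, show x ^ l * a' * (x ^ l)⁻¹ * (x ^ l * a' * (x ^ l)⁻¹) = x ^ l * (a' * a') * (x ^ l)⁻¹ by group, ha'2]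
    group
  have hm2 : x ^ (2 * m) = 1 := by
    rw [two_mul, pow_add, ← hasx, hcy.symm.mul_mul_mul_comm, has2, hyy, one_mul]
  have hm1 : x ^ m ≠ 1 := by
    intro e
    rw [← hasx] at e
    refine hyA ?_
    have h1 := hsc.2 a ha (x ^ l * t) (by
      rw [show x ^ l * t * a * (x ^ l * t)⁻¹ = as by rw [has, ha']; group,
        eq_inv_of_mul_eq_one_left e, hyi]
      exact hyS)
    rwa [show x ^ l * t * a * (x ^ l * t)⁻¹ = as by rw [has, ha']; group, eq_inv_of_mul_eq_one_left e, hyi] at h1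
  -- move `as` into `A` inside the centraliser of `y`
  have hAy : A ≤ centralizer ({y} : Set G) := fun b hb => mem_centralizer_singleton_iff.2 (hcen y hyS b hb).symm.eq
  have hscA : SC A := ⟨S, hsc⟩
  obtain ⟨T, hT, hAT⟩ := Fusion.exists_sylIn_ge hscA.isPGroup hAy
  obtain ⟨S', hS'⟩ := hT.isPGroup.exists_le_sylow
  have has1 : as ≠ 1 → orderOf as = 2 := fun e => orderOf_eq_prime (by rw [sq]; exact has2) e
  obtain ⟨c, hc, hcT⟩ := hT.conj_le (Q := zpowers as)
    (IsPGroup.to_le hPp (zpowers_le.2 hasP)) (zpowers_le.2 (mem_centralizer_singleton_iff.2 hcy.eq))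
  have hb : c * as * c⁻¹ ∈ A := by
    have h1 := (hscA.closed_in (hAT.trans hS')).2 a ha (c * x ^ l * t) (by
      rw [show c * x ^ l * t * a * (c * x ^ l * t)⁻¹ = c * as * c⁻¹ by rw [has, ha']; group]
      exact hS' (hcT ⟨as, mem_zpowers as, rfl⟩))
    rwa [show c * x ^ l * t * a * (c * x ^ l * t)⁻¹ = c * as * c⁻¹ by rw [has, ha']; group] at h1
  set b := c * as * c⁻¹ with hbdef
  have hcy2 : c * y * c⁻¹ = y := mul_inv_eq_iff_eq_mul.2 (mem_centralizer_singleton_iff.1 hc)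
  have hz : c * x ^ m * c⁻¹ = y * b := by
    rw [← hasx, show c * (as * y) * c⁻¹ = b * (c * y * c⁻¹) by rw [hbdef]; group, hcy2]
    exact (hcen y hyS b hb).symm.eq
  set w := c * x ^ (m + 1) * c⁻¹ with hw
  refine ⟨b, hb, c, w, ?_, ?_⟩
  · have hAz : A ≤ centralizer ({y * b} : Set G) := fun e he => mem_centralizer_singleton_iff.2
      (((hcen y hyS e he).mul_left (Commute.symm (comm_of_mem hA he hb))).symm.eq)
    have hzC : ∀ n : ℕ, c * x ^ n * c⁻¹ ∈ centralizer ({y * b} : Set G) := fun n => by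
      refine mem_centralizer_singleton_iff.2 ?_
      rw [← hz]
      simpa only [MulEquiv.coe_toMonoidHom, MulAut.conj_apply] using
        (((Commute.refl x).pow_pow n m).map (MulAut.conj c).toMonoidHom).eq
    have he : c * t * a * (c * t)⁻¹ = c * a' * c⁻¹ := by rw [ha']; group
    refine mem_core_of_inverted hA hscA hAz (hF b hb) ha (g := c * t) ?_ (hzC (m + 1)) ?_ ?_
    · rw [he]
      refine mem_centralizer_singleton_iff.2 ?_
      rw [← hz]
      have hi : a' * x ^ m * a' = x ^ m := by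
        have e2 : a' * x ^ m * a'⁻¹ = (x ^ m)⁻¹ := by rw [← conj_pow, ha'i, hax, inv_pow]
        rw [ha'i] at e2
        rw [e2]
        exact inv_eq_of_mul_eq_one_right (by rw [← pow_add, ← two_mul, hm2])
      have hi' : a' * x ^ m = x ^ m * a' := by
        calc a' * x ^ m = a' * x ^ m * (a' * a') := by rw [ha'2, mul_one]
          _ = a' * x ^ m * a' * a' := by group
          _ = x ^ m * a' := by rw [hi]
      simpa only [MulEquiv.coe_toMonoidHom, MulAut.conj_apply] using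
        (Commute.map (show Commute a' (x ^ m) from hi') (MulAut.conj c).toMonoidHom).eq
    · refine (Nat.odd_iff.2 (by omega) : Odd m).of_dvd_nat ?_
      rw [hw, ← MulAut.conj_apply, MulEquiv.orderOf_eq]
      refine orderOf_dvd_of_pow_eq_one ?_
      rw [← pow_mul, show (m + 1) * m = 2 * m * (l + 1) by rw [hl]; ring, pow_mul, hm2, one_pow]
    · have e2 : a' * x ^ (m + 1) * a' = (x ^ (m + 1))⁻¹ := by
        have e3 : a' * x ^ (m + 1) * a'⁻¹ = (x ^ (m + 1))⁻¹ := by rw [← conj_pow, ha'i, hax, inv_pow]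
        rwa [ha'i] at e3
      rw [he, hw, show c * a' * c⁻¹ * (c * x ^ (m + 1) * c⁻¹) * (c * a' * c⁻¹) =
        c * (a' * x ^ (m + 1) * a') * c⁻¹ by group, e2]
      group
  · rw [← hz, hw, show c * x ^ m * c⁻¹ * (c * x ^ (m + 1) * c⁻¹) = c * (x ^ m * x ^ (m + 1)) * c⁻¹ by group,
      ← pow_add, show m + (m + 1) = 2 * m + 1 by omega, pow_succ, hm2, one_mul]

/-- No involution of the Sylow subgroup outside `A` has all of `y A` good. -/
theorem false_of_good [IsSimpleGroup G] (S : Sylow 2 G)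
    (hsc : IsStronglyClosed A (S : Subgroup G)) (hA : IsElementaryAbelian 2 A)
    (hcen : ∀ s ∈ (S : Subgroup G), ∀ x ∈ A, Commute s x) (hne : A ≠ ⊥) {y : G} (hy : orderOf y = 2)
    (hyS : y ∈ (S : Subgroup G)) (hyA : y ∉ A) (hF : ∀ b ∈ A, FactorAt A (y * b)) : False := by
  classical
  haveI : Fintype G := Fintype.ofFinite G
  haveI : Fact (Nat.Prime 2) := ⟨Nat.prime_two⟩
  obtain ⟨⟨a, ha⟩, ha'⟩ := Subgroup.ne_bot_iff_exists_ne_one.1 hne
  have ha1 : a ≠ 1 := fun e => ha' (Subtype.ext e)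
  obtain ⟨M, hM⟩ := Char.exists_pModular Nat.prime_two
  have hinv : ∀ b ∈ A, y * b ∈ (S : Subgroup G) ∧ y * b ∉ A ∧ orderOf (y * b) = 2 := fun b hb => by
    have hn : y * b ∉ A := fun h => hyA ((Subgroup.mul_mem_cancel_right A hb).1 h)
    refine ⟨mul_mem hyS (hsc.1 hb), hn, orderOf_eq_prime ?_ fun e => hn (e ▸ one_mem A)⟩
    rw [(hcen y hyS b hb).mul_pow, hA.2 b hb, mul_one, ← hy, pow_orderOf_eq_one]
  -- the principal block on the sections
  have hsec : ∀ b ∈ A, ∀ χ : IrrCharacter G, χ ∈ principalBlock M G → ∀ w ∈ centralizerPPrimeCore 2 (y * b),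
      (χ : G → ℂ) (y * b * w) = (χ : G → ℂ) (y * b) := by
    rintro b hb χ hχ _ ⟨v, hv, rfl⟩
    exact (UFour.principal_section hM ⟨1, by rw [(hinv b hb).2.2, pow_one]⟩ _ (Solv.pPrimeCore_normal 2)
      (by rintro h2; exact (Nat.not_even_iff_odd.2 Local.SCA.oddCore_odd') (even_iff_two_dvd.2 h2))).1 χ hχ v hv
  have hstep : ∀ b ∈ A, ∀ t : G, ∃ b' ∈ A, ∀ χ : IrrCharacter G, χ ∈ principalBlock M G →
      (χ : G → ℂ) (y * b * (t * a * t⁻¹)) = (χ : G → ℂ) (y * b') := by
    intro b hb t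
    obtain ⟨hS', hA', ho⟩ := hinv b hb
    have hF' : ∀ e ∈ A, FactorAt A (y * b * e) := fun e he => by
      rw [mul_assoc]; exact hF _ (mul_mem hb he)
    obtain ⟨e, he, c, w, hw, hcx⟩ := product_form S hsc hA hcen ho hS' hA' hF' ha t
    refine ⟨b * e, mul_mem hb he, fun χ hχ => ?_⟩
    have hcl := Char.isClassFunction_character (Char.irr_isCharacter χ.2)
    rw [show y * b * e = y * (b * e) from mul_assoc y b e] at hcx hw
    rw [← hsec _ (mul_mem hb he) χ hχ w hw, ← hcx, hcl, show y * b * (t * a * t⁻¹) =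
      y * b * (t * a * t⁻¹ * (y * b)) * (y * b)⁻¹ by group, hcl]
  choose β hβ hβχ using hstep
  set B : Finset (IrrCharacter G) := Finset.univ.filter (fun χ => χ ∈ principalBlock M G) with hBdef
  have hmemB : ∀ χ : IrrCharacter G, χ ∈ B ↔ χ ∈ principalBlock M G := fun χ => by simp [hBdef]
  let f : IrrCharacter G → ℂ := fun χ => (χ : G → ℂ) a / (χ : G → ℂ) 1
  have hrec : ∀ χ ∈ B, ∀ b (hb : b ∈ A), f χ * (χ : G → ℂ) (y * b) =
      ∑ t : G, (χ : G → ℂ) (y * β b hb t) / (Nat.card G : ℂ) := by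
    intro χ hχ b hb
    have h1 : (χ : G → ℂ) 1 ≠ 0 := Char.irr_one_ne_zero χ.2
    have hG : (Nat.card G : ℂ) ≠ 0 := Nat.cast_ne_zero.2 Nat.card_pos.ne'
    have h := Char.sum_conj_mul χ.2 (y * b) a
    rw [Finset.sum_congr rfl fun t _ => hβχ b hb t χ ((hmemB χ).1 hχ)] at h
    show (χ : G → ℂ) a / (χ : G → ℂ) 1 * (χ : G → ℂ) (y * b) = _
    rw [← Finset.sum_div]
    field_simp
    linear_combination -h
  have key : ∀ s : Finset (IrrCharacter G), ∀ b ∈ A,
      ∑ χ ∈ B, (χ : G → ℂ) 1 * (∏ ψ ∈ s, (f χ - f ψ)) * (χ : G → ℂ) (y * b) = 0 := by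
    intro s
    induction s using Finset.induction_on with
    | empty =>
      intro b hb
      obtain ⟨-, -, ho⟩ := hinv b hb
      have h0 := Char.sum_block_column_orth hM (Char.isPBlock_principalBlock (G := G) M)
        (⟨1, mul_one _, Commute.one_right _, ⟨1, by rw [ho, pow_one]⟩, by simp⟩ : IsPPart 2 (y * b) (y * b))
        (⟨1, mul_one 1, Commute.one_right 1, ⟨0, by simp⟩, by simp⟩ : IsPPart 2 (1 : G) 1)
        (fun h => by
          obtain ⟨c, hc⟩ := isConj_iff.1 h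
          rw [conj_eq_one_iff.1 hc, orderOf_one] at ho
          omega)
      refine Eq.trans ?_ h0
      refine Finset.sum_congr hBdef fun χ _ => ?_
      obtain ⟨d, hd⟩ := Char.charOne_eq_natCast (Char.irr_isCharacter χ.2)
      rw [Finset.prod_empty, mul_one, hd, map_natCast]
    | insert ψ s hψ ih =>
      intro b hb
      have hterm : ∀ χ ∈ B, (χ : G → ℂ) 1 * (∏ φ ∈ insert ψ s, (f χ - f φ)) * (χ : G → ℂ) (y * b) =
          (∑ t : G, (χ : G → ℂ) 1 * (∏ φ ∈ s, (f χ - f φ)) * (χ : G → ℂ) (y * β b hb t) / (Nat.card G : ℂ)) -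
            f ψ * ((χ : G → ℂ) 1 * (∏ φ ∈ s, (f χ - f φ)) * (χ : G → ℂ) (y * b)) := by
        intro χ hχ
        rw [Finset.prod_insert hψ, ← Finset.sum_div, ← Finset.mul_sum, mul_div_assoc, Finset.sum_div, ← hrec χ hχ b hb]
        ring
      rw [Finset.sum_congr rfl hterm, Finset.sum_sub_distrib, Finset.sum_comm, ← Finset.mul_sum, ih b hb, mul_zero,
        sub_zero]
      refine Finset.sum_eq_zero fun t _ => ?_
      rw [← Finset.sum_div, ih _ (hβ b hb t), zero_div]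
  -- only the trivial character has ratio one
  have hone : ∀ χ : IrrCharacter G, f χ = 1 → χ = Char.irrOne := by
    intro χ hf
    have h1 : (χ : G → ℂ) 1 ≠ 0 := Char.irr_one_ne_zero χ.2
    have ha0 : (χ : G → ℂ) a = (χ : G → ℂ) 1 := (div_eq_one_iff_eq h1).1 hf
    obtain ⟨n, ρ, hirr, hρ⟩ := id χ.2
    have hid : ρ a = LinearMap.id := (Char.eq_id_iff ρ a).1 (by
      rw [hρ, ha0, ← hρ, Representation.char_one])
    have hker : ρ.ker = ⊤ := (inferInstance : ρ.ker.Normal).eq_bot_or_eq_top.resolve_left fun e => by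
      have hm : a ∈ ρ.ker := MonoidHom.mem_ker.2 (hid.trans Module.End.one_eq_id.symm)
      rw [e, Subgroup.mem_bot] at hm
      exact ha1 hm
    have hconst : ∀ g, (χ : G → ℂ) g = (χ : G → ℂ) 1 := fun g => by
      rw [← hρ]
      show LinearMap.trace ℂ _ (ρ g) = LinearMap.trace ℂ _ (ρ 1)
      rw [MonoidHom.mem_ker.1 (hker ▸ Subgroup.mem_top g), map_one ρ]
    obtain ⟨d, hd⟩ := Char.charOne_eq_natCast (Char.irr_isCharacter χ.2)
    have hnorm : classInner (χ : G → ℂ) (χ : G → ℂ) = 1 := Char.irr_self χ.2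
    rw [classInner, Finset.sum_congr rfl fun g _ => by rw [hconst g], Finset.sum_const, Finset.card_univ,
      ← Nat.card_eq_fintype_card, nsmul_eq_mul, hd, Complex.conj_natCast, ← mul_assoc,
      inv_mul_cancel₀ (Nat.cast_ne_zero.2 Nat.card_pos.ne'), one_mul] at hnorm
    have hd1 : d = 1 := by
      have : d * d = 1 := by exact_mod_cast hnorm
      exact Nat.eq_one_of_mul_eq_one_right this
    refine Subtype.ext (funext fun g => ?_)
    rw [hconst, hd, hd1, Nat.cast_one]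
    rfl
  have hB1 : (Char.irrOne : IrrCharacter G) ∈ B := (hmemB _).2 (Char.irrOne_mem (Char.pmod_prime hM))
  have h0 := key (B.erase Char.irrOne) 1 (one_mem A)
  rw [Finset.sum_eq_single_of_mem _ hB1] at h0
  swap
  · intro χ hχ hne
    rw [Finset.prod_eq_zero (Finset.mem_erase.2 ⟨hne, hχ⟩) (sub_self _), mul_zero, zero_mul]
  rw [Char.irrOne_apply, Char.irrOne_apply, one_mul, mul_one] at h0
  obtain ⟨ψ, hψ, e⟩ := Finset.prod_eq_zero_iff.1 h0
  have hf1 : f Char.irrOne = 1 := by simp [f, Char.irrOne_apply]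
  exact (Finset.mem_erase.1 hψ).1 (hone ψ (by rw [← sub_eq_zero.1 e, hf1]))

end Cfsg.Agent.Goldschmidt
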