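import Cfsg.Agent.Lib.Goldschmidt.TrichotomyBase
import Cfsg.Agent.Lib.Solv.Basic

/-!
# The blocks of a minimal counterexample

The translates of a largest pair are the blocks: every component of a centraliser is fixed modulo the core by all
blocks but one.
-/

set_option autoImplicit false
set_option linter.style.haveILetI false
set_option linter.unusedSectionVars false

namespace Cfsg.Agent.Goldschmidt

open Subgroup
open Cfsg.Agent.Local.SCA (autOn)
open Cfsg.Agent.Walter (tr tr_one FixesMod)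
open scoped IsMulCommutative

universe u

variable {G : Type u} [Group G] [Finite G]

section Fixes

variable {A : Subgroup G} {c : G} {J : Subgroup (Cq c)}

theorem fixesMod_mono {U W : Subgroup G} (h : U ≤ W) (hW : FixesMod c W J) : FixesMod c U J :=
  fun t ht => hW t (h ht)

theorem fixesMod_rPart [(Cfsg.oddCore ↥(centralizer ({c} : Set G))).Normal] :
    FixesMod c (pull c A (rPart (img c A) J)) J := by
  intro t ht j hj
  obtain ⟨t', ht', e⟩ := ht.2
  have e' : t' = t := Subtype.ext e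
  subst e'
  exact (mem_centralizer_iff.1 (ht' : _ ∈ rPart (img c A) J).2 j hj).symm

theorem fixesMod_of_centralize [(Cfsg.oddCore ↥(centralizer ({c} : Set G))).Normal]
    (h : img c A ≤ centralizer (J : Set (Cq c))) : FixesMod c A J :=
  fun t ht j hj => (mem_centralizer_iff.1 (h ⟨t, ht, rfl⟩) j hj).symm

theorem le_rPull_of_fixes [(Cfsg.oddCore ↥(centralizer ({c} : Set G))).Normal] {U : Subgroup G} (hUA : U ≤ A)
    (hUC : U ≤ centralizer ({c} : Set G)) (hU : FixesMod c U J) : U ≤ pull c A (rPart (img c A) J) := by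
  intro t ht
  refine ⟨hUA ht, ⟨⟨t, hUC ht⟩, ⟨⟨⟨t, hUC ht⟩, hUA ht, rfl⟩, ?_⟩, rfl⟩⟩
  exact mem_centralizer_iff.2 fun j hj => ((hU ⟨t, hUC ht⟩ ht j hj).eq).symm

theorem tPull_mem [(Cfsg.oddCore ↥(centralizer ({c} : Set G))).Normal] {t : ↥(centralizer ({c} : Set G))}
    (ht : (t : G) ∈ pull c A (tPart (img c A) J)) : QuotientGroup.mk' _ t ∈ J := by
  obtain ⟨t', ht', e⟩ := ht.2
  have e' : t' = t := Subtype.ext e
  subst e'
  refine (Subgroup.commutator_le.2 fun a ha b hb => ?_ : tPart (img c A) J ≤ J) ht'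
  rw [commutatorElement_def]
  exact mul_mem (mul_mem (mul_mem ha.2 hb.1) (inv_mem ha.2)) (inv_mem hb.1)

theorem A_le_centralizer (h : Hyp G A) (hc : c ∈ A) : A ≤ centralizer ({c} : Set G) := fun x hx =>
  mem_centralizer_singleton_iff.2 (congrArg Subtype.val (h.elem.1.is_comm.comm (⟨x, hx⟩ : ↥A) ⟨c, hc⟩))

end Fixes

variable {A : Subgroup G} [hAc : IsMulCommutative ↥A]

/-- The case of blocks. -/
theorem gblocks_of (h : Hyp G A) (P : PairSys A) {T R : AddSubgroup (VA A)} (C : GConf (gamRho A) (MemV A) T R) :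
    ∃ B : Finset (Subgroup G), GBlocks A B := by
  classical
  haveI : Fintype ↥(autOn A) := Fintype.ofFinite _
  have B0 := gsys h P
  set B : Finset (Subgroup G) := Finset.univ.image fun a : ↥(autOn A) => vsub A (tr (gamRho A) a T) with hB
  have hmemB : ∀ {U : Subgroup G}, U ∈ B ↔ ∃ a, vsub A (tr (gamRho A) a T) = U := by simp [hB]
  have hBA : ∀ U ∈ B, U ≤ A := fun U hU => by
    obtain ⟨a, rfl⟩ := hmemB.1 hU
    exact vsub_le _
  have hothers : ∀ a : ↥(autOn A), (⨆ U ∈ B, ⨆ _ : U ≠ vsub A (tr (gamRho A) a T), U) ≤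
      vsub A (tr (gamRho A) a R) := by
    intro a
    refine iSup₂_le fun U hU => iSup_le fun hne => ?_
    obtain ⟨b, rfl⟩ := hmemB.1 hU
    exact vsub_le_iff.2 (C.pair_ne fun e => hne (congrArg (vsub A) e))
  have hspan : A = ⨆ U ∈ B, U := by
    refine le_antisymm (fun x hx => ?_) (iSup₂_le hBA)
    have h1 : (⨆ a : ↥(autOn A), tr (gamRho A) a T) ≤ Subgroup.toAddSubgroup
        ((⨆ U ∈ B, U).comap A.subtype) := iSup_le fun a v hv =>
      (le_iSup₂_of_le (f := fun U _ => U) (vsub A (tr (gamRho A) a T)) (hmemB.2 ⟨a, rfl⟩) le_rfl :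
        vsub A (tr (gamRho A) a T) ≤ ⨆ U ∈ B, U) ((mem_vsub (v := Additive.toMul v)).2 hv)
    rw [C.span] at h1
    exact h1 (AddSubgroup.mem_top (Additive.ofMul (⟨x, hx⟩ : ↥A)))
  have hbig : ∀ U ∈ B, 4 ≤ Nat.card U := by
    intro U hU
    obtain ⟨a, rfl⟩ := hmemB.1 hU
    obtain ⟨g, hS⟩ := C.sing
    rw [card_vsub, Walter.card_tr]
    exact hS.big
  have hsupp : ∀ (c : G) (hc : c ∈ A) (J : Subgroup (Cq c)), c ≠ 1 → Moved (img c A) J →
      ∃ a : ↥(autOn A), ∀ U ∈ B, U ≠ vsub A (tr (gamRho A) a T) → FixesMod c U J := by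
    intro c hc J hc1 hJ
    have hM : Mem A c (pull c A (tPart (img c A) J)) (pull c A (rPart (img c A) J)) :=
      ⟨hc, hc1, J, hJ, rfl, rfl⟩
    obtain ⟨hT', hR', -⟩ := P.le hM
    have hMV : MemV A (Additive.ofMul ⟨c, hc⟩) (toV A (pull c A (tPart (img c A) J)))
        (toV A (pull c A (rPart (img c A) J))) := by
      rw [MemV, vsub_toV hT', vsub_toV hR']; exact hM
    obtain ⟨a, -, h2⟩ := C.support B0 hMV
    refine ⟨a, fun U hU hne => fixesMod_mono ?_ (fixesMod_rPart (A := A))⟩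
    obtain ⟨b, rfl⟩ := hmemB.1 hU
    rw [← vsub_toV hR', vsub_le_iff]
    exact le_trans (C.pair_ne fun e => hne (congrArg (vsub A) e)) h2
  refine ⟨B, ⟨?_, hspan, ?_, hbig, ?_, ?_, ?_, ?_⟩⟩
  · obtain ⟨a, ha⟩ := C.moved
    obtain ⟨c, hc1, hc2⟩ := C.third a 1 (by rwa [tr_one])
    have hsub : ({vsub A (tr (gamRho A) a T), vsub A (tr (gamRho A) 1 T), vsub A (tr (gamRho A) c T)} :
        Finset (Subgroup G)) ⊆ B := by
      intro U hU
      simp only [Finset.mem_insert, Finset.mem_singleton] at hU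
      rcases hU with rfl | rfl | rfl <;> exact hmemB.2 ⟨_, rfl⟩
    refine le_trans (le_of_eq ?_) (Finset.card_le_card hsub)
    rw [Finset.card_insert_of_notMem, Finset.card_pair]
    · exact fun e => hc2 (vsub_injective e).symm
    · simp only [Finset.mem_insert, Finset.mem_singleton, not_or]
      exact ⟨fun e => ha ((vsub_injective e).trans (tr_one _ T)), fun e => hc1 (vsub_injective e).symm⟩
  · intro U hU
    obtain ⟨a, rfl⟩ := hmemB.1 hU
    refine (Subgroup.eq_bot_iff_forall _).2 fun y hy => ?_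
    obtain ⟨v, hv, rfl⟩ := hy.1
    exact toMul_eq_one_iff.2 (C.tr_disj (v := Additive.ofMul v) hv (mem_vsub.1 (hothers a hy.2)))
  · intro g hg U hU
    obtain ⟨a, rfl⟩ := hmemB.1 hU
    refine hmemB.2 ⟨gam A g hg * a, ?_⟩
    rw [← Walter.tr_tr, vsub_tr]
  · intro c hc hc1 J hJ
    by_cases hmv : img c A ≤ centralizer (J : Set (Cq c))
    · exact ⟨_, hmemB.2 ⟨1, rfl⟩, fun U hU _ => fixesMod_mono (hBA U hU) (fixesMod_of_centralize hmv)⟩
    · obtain ⟨a, ha⟩ := hsupp c hc J hc1 ⟨hJ, hmv⟩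
      exact ⟨_, hmemB.2 ⟨a, rfl⟩, ha⟩
  · intro c hc hc1 J hJ
    by_contra hno
    push Not at hno
    refine hJ.2 ?_
    have h1 : A ≤ pull c A (rPart (img c A) J) := le_trans hspan.le (iSup₂_le fun U hU =>
      le_rPull_of_fixes (hBA U hU) ((hBA U hU).trans (A_le_centralizer h hc)) (hno U hU))
    rintro _ ⟨t, ht, rfl⟩
    exact mem_centralizer_iff.2 fun j hj => (fixesMod_rPart t (h1 ht) j hj).eq.symm
  · intro U hU c hc hc1
    obtain ⟨a, rfl⟩ := hmemB.1 hU
    obtain ⟨v, hv, rfl⟩ := hothers a hc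
    rw [Subgroup.subtype_apply] at hc1 ⊢
    have hv0 : Additive.ofMul v ≠ (0 : VA A) := fun e => hc1 (toMul_eq_one_iff.2 e)
    obtain ⟨-, -, J, hJ, e1, e2⟩ := C.mem a _ hv hv0
    have hnot : ¬ FixesMod (v : G) (vsub A (tr (gamRho A) a T)) J := by
      intro hfx
      obtain ⟨-, -, hdisj, -, hbig'⟩ := P.le (C.mem a _ hv hv0)
      have h1 : vsub A (tr (gamRho A) a T) ≤ vsub A (tr (gamRho A) a R) := by
        refine le_trans (le_rPull_of_fixes (vsub_le _) ((vsub_le _).trans (A_le_centralizer h v.2)) hfx) ?_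
        exact e2.ge
      rw [(inf_eq_left.2 h1).symm.trans hdisj, Subgroup.card_bot] at hbig'
      omega
    refine ⟨J, ⟨hJ.1, hnot⟩, fun J' hJ' => ?_⟩
    by_contra hne
    have hmv : Moved (img (v : G) A) J' := ⟨hJ'.1, fun hle => hJ'.2
      (fixesMod_mono (vsub_le _) (fixesMod_of_centralize hle))⟩
    have hM' : Mem A (v : G) _ _ := ⟨v.2, hc1, J', hmv, rfl, rfl⟩
    rcases P.orth (C.mem a _ hv hv0) hM' with ⟨eT, -⟩ | ⟨hle, -⟩
    · refine hnot fun t ht j hj => ?_
      have ht' : QuotientGroup.mk' _ t ∈ J' := tPull_mem (A := A) (eT ▸ ht)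
      exact (mem_centralizer_iff.1
        (Subgroup.commutator_eq_bot_iff_le_centralizer.1 (Solv.components_commute hJ'.1 hJ.1 hne) ht') j hj).symm
    · exact hJ'.2 (fixesMod_mono hle fixesMod_rPart)

end Cfsg.Agent.Goldschmidt
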