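import Cfsg.Agent.Lib.Goldschmidt.TrichotomySmall
import Cfsg.Agent.Lib.Goldschmidt.TrichotomyBlocks

/-!
# The three cases of a minimal counterexample
-/

set_option autoImplicit false
set_option linter.style.haveILetI false

namespace Cfsg.Agent.Goldschmidt

open Subgroup
open scoped IsMulCommutative

universe u

/-- **The pairs leave three cases.** -/
theorem trichotomyStatement : TrichotomyStatement.{u} := by
  intro G _ _ A h P
  haveI := h.elem.1
  rcases (gsys h P).cases with hnone | ⟨hodd, x, T, R, hM, hT, hR⟩ | ⟨T, R, C⟩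
  · refine Or.inl fun a T R hM => ?_
    obtain ⟨hT, hR, -⟩ := P.le hM
    refine hnone (Additive.ofMul ⟨a, hM.1⟩) (toV A T) (toV A R) ?_
    rw [MemV, vsub_toV hT, vsub_toV hR]
    exact hM
  · exact Or.inr (Or.inl (smallCase_of h P hodd hM hT hR))
  · exact Or.inr (Or.inr (gblocks_of h P C))

end Cfsg.Agent.Goldschmidt
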