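import Cfsg.Agent.Lib.Goldschmidt.TrichotomySys
import Cfsg.Agent.Lib.Goldschmidt.Normalise

/-!
# The pairs of a minimal counterexample as a system on `A`

`V` is `A` written additively, `Γ` the automisers of `A` induced by `N(A)`.
-/

set_option autoImplicit false
set_option linter.style.haveILetI false
set_option linter.unusedSectionVars false

namespace Cfsg.Agent.Goldschmidt

open Subgroup
open Cfsg.Agent.Local.SCA (autOn)
open Cfsg.Agent.Walter (tr mem_tr apply_mem_tr tr_tr tr_one rho_one rho_mul rho_injective)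
open scoped IsMulCommutative

universe u

variable {G : Type u} [Group G] [Finite G] (A : Subgroup G) [hAc : IsMulCommutative ↥A]

/-- `A`, additively. -/
abbrev VA := Additive ↥A

/-- The automisers on `V`. -/
def gamRho : ↥(autOn A) →* AddMonoid.End (VA A) where
  toFun a := MonoidHom.toAdditive (a : MulAut ↥A).toMonoidHom
  map_one' := rfl
  map_mul' _ _ := rfl

theorem gamRho_inj : Function.Injective (gamRho A) := fun a b h => Subtype.ext (MulEquiv.ext fun x =>
  Additive.ofMul.injective (congrArg (fun f : AddMonoid.End (VA A) => f (Additive.ofMul x)) h))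

/-- An element of `N(A)` as an automiser. -/
def gam (g : G) (hg : g ∈ normalizer (A : Set G)) : ↥(autOn A) :=
  ⟨Subgroup.normalizerMonoidHom A ⟨g, hg⟩, _, rfl⟩

theorem gam_apply (g : G) (hg : g ∈ normalizer (A : Set G)) (v : VA A) :
    ((Additive.toMul (gamRho A (gam A g hg) v) : ↥A) : G) = g * (Additive.toMul v : ↥A) * g⁻¹ := rfl

theorem gam_pow (g : G) (hg : g ∈ normalizer (A : Set G)) (i : ℕ) :
    gam A g hg ^ i = gam A (g ^ i) (pow_mem hg i) := by
  refine Subtype.ext ?_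
  show (Subgroup.normalizerMonoidHom A ⟨g, hg⟩) ^ i = Subgroup.normalizerMonoidHom A ⟨g ^ i, pow_mem hg i⟩
  rw [← map_pow]
  exact congrArg _ (Subtype.ext (SubmonoidClass.coe_pow _ _))

/-- A subgroup of `V` as a subgroup of `G`. -/
def vsub (U : AddSubgroup (VA A)) : Subgroup G := (AddSubgroup.toSubgroup' U).map A.subtype

/-- The part of a subgroup of `G` in `V`. -/
def toV (T : Subgroup G) : AddSubgroup (VA A) := Subgroup.toAddSubgroup (T.subgroupOf A)

variable {A}

theorem mem_vsub {U : AddSubgroup (VA A)} {v : ↥A} : (v : G) ∈ vsub A U ↔ Additive.ofMul v ∈ U :=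
  Subgroup.mem_map_iff_mem (Subgroup.subtype_injective _)

theorem vsub_le (U : AddSubgroup (VA A)) : vsub A U ≤ A := Subgroup.map_subtype_le _

theorem vsub_le_iff {U W : AddSubgroup (VA A)} : vsub A U ≤ vsub A W ↔ U ≤ W :=
  ⟨fun h v hv => (mem_vsub (v := Additive.toMul v)).1 (h ((mem_vsub (v := Additive.toMul v)).2 hv)),
    fun h => Subgroup.map_mono fun _ hx => h hx⟩

theorem vsub_injective : Function.Injective (vsub A) := fun _ _ e =>
  le_antisymm (vsub_le_iff.1 e.le) (vsub_le_iff.1 e.ge)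

theorem vsub_toV {T : Subgroup G} (h : T ≤ A) : vsub A (toV A T) = T := by
  ext x
  exact ⟨fun ⟨v, hv, e⟩ => e ▸ hv, fun hx => ⟨⟨x, h hx⟩, hx, rfl⟩⟩

theorem card_vsub (U : AddSubgroup (VA A)) : Nat.card (vsub A U) = Nat.card U := by
  rw [vsub, Subgroup.card_map_of_injective (Subgroup.subtype_injective _)]
  exact Nat.card_congr (Equiv.subtypeEquiv Additive.ofMul fun _ => Iff.rfl)

theorem vsub_tr (g : G) (hg : g ∈ normalizer (A : Set G)) (U : AddSubgroup (VA A)) :
    vsub A (tr (gamRho A) (gam A g hg) U) = (vsub A U).map (MulAut.conj g).toMonoidHom := by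
  ext y
  constructor
  · rintro ⟨_, ⟨v, hv, rfl⟩, rfl⟩
    exact ⟨((Additive.toMul v : ↥A) : G), ⟨Additive.toMul v, hv, rfl⟩, rfl⟩
  · rintro ⟨_, ⟨v, hv, rfl⟩, rfl⟩
    exact ⟨Additive.toMul (gamRho A (gam A g hg) (Additive.ofMul v)), ⟨Additive.ofMul v, hv, rfl⟩, rfl⟩

/-- `(T, R)` is a pair of `x`. -/
def MemV (A : Subgroup G) [IsMulCommutative ↥A] (x : VA A) (T R : AddSubgroup (VA A)) : Prop :=
  Mem A ((Additive.toMul x : ↥A) : G) (vsub A T) (vsub A R)

theorem VA_two (h : Hyp G A) (v : VA A) : v + v = 0 :=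
  Additive.toMul.injective (Subtype.ext (by
    have := h.elem.2 _ (Additive.toMul v).2
    rw [pow_two] at this
    exact this))

theorem toMul_eq_one_iff {x : VA A} : ((Additive.toMul x : ↥A) : G) = 1 ↔ x = 0 :=
  ⟨fun e => Additive.toMul.injective (Subtype.ext e), fun e => by rw [e]; rfl⟩

theorem memV_sing (h : Hyp G A) (P : PairSys A) {x : VA A} {T R : AddSubgroup (VA A)} (hM : MemV A x T R) :
    ∃ g, GSing (gamRho A) g T R := by
  obtain ⟨-, -, hdisj, hspan, hbig⟩ := P.le hM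
  obtain ⟨g, hgN, hfix, hst, hpow, hreg⟩ := P.torus hM
  rw [card_vsub] at hbig hpow
  have hcm : ∀ v : VA A, ∀ i : ℕ, ((Additive.toMul (gamRho A (gam A g hgN ^ i) v) : ↥A) : G) =
      g ^ i * (Additive.toMul v : ↥A) * (g ^ i)⁻¹ := fun v i => by rw [gam_pow]; rfl
  have hdec : ∀ v : VA A, ∃ s ∈ T, ∃ r ∈ R, v = s + r := by
    intro v
    have hv : ((Additive.toMul v : ↥A) : G) ∈ vsub A T ⊔ vsub A R := hspan ▸ (Additive.toMul v).2
    rw [vsub, vsub, ← Subgroup.map_sup] at hv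
    obtain ⟨w, hw, e⟩ := hv
    obtain ⟨s, hs, r, hr, rfl⟩ := Subgroup.mem_sup.1 hw
    exact ⟨Additive.ofMul s, hs, Additive.ofMul r, hr, Additive.toMul.injective (Subtype.ext e.symm)⟩
  have hfix' : ∀ r ∈ R, gamRho A (gam A g hgN) r = r := fun r hr => Additive.toMul.injective (Subtype.ext (by
    rw [gam_apply, hfix _ ((mem_vsub (v := Additive.toMul r)).2 hr), mul_inv_cancel_right]))
  have hst' : ∀ s ∈ T, gamRho A (gam A g hgN) s ∈ T := fun s hs =>
    (mem_vsub (v := Additive.toMul (gamRho A (gam A g hgN) s))).1 (hst _ ((mem_vsub (v := Additive.toMul s)).2 hs))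
  have hdisj' : T ⊓ R = ⊥ := eq_bot_iff.2 fun v hv => by
    obtain ⟨h1, h2⟩ := AddSubgroup.mem_inf.1 hv
    have h3 : ((Additive.toMul v : ↥A) : G) ∈ vsub A T ⊓ vsub A R := ⟨mem_vsub.2 h1, mem_vsub.2 h2⟩
    rw [hdisj, Subgroup.mem_bot] at h3
    exact AddSubgroup.mem_bot.2 (toMul_eq_one_iff.1 h3)
  have hreg' : ∀ s ∈ T, s ≠ 0 → ∀ s' ∈ T, s' ≠ 0 → ∃ i : ℕ, gamRho A (gam A g hgN ^ i) s = s' := by
    intro s hs hs0 s' hs' hs0'
    obtain ⟨i, hi⟩ := hreg _ ((mem_vsub (v := Additive.toMul s)).2 hs) (fun e => hs0 (toMul_eq_one_iff.1 e))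
      _ ((mem_vsub (v := Additive.toMul s')).2 hs') (fun e => hs0' (toMul_eq_one_iff.1 e))
    exact ⟨i, Additive.toMul.injective (Subtype.ext (by rw [hcm, hi]))⟩
  refine ⟨gam A g hgN, ⟨VA_two h, gamRho_inj A, hfix', hst', hdec, hdisj', hreg', ?_, hbig⟩⟩
  set γ := gam A g hgN with hγ
  have hfixpow : ∀ (i : ℕ), ∀ r ∈ R, gamRho A (γ ^ i) r = r := by
    intro i
    induction i with
    | zero => intro r _; rw [pow_zero, rho_one]
    | succ i ih => intro r hr; rw [pow_succ, rho_mul, hfix' r hr, ih r hr]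
  have hdvd : orderOf γ ∣ Nat.card T - 1 := by
    refine orderOf_dvd_of_pow_eq_one (gamRho_inj A (AddMonoidHom.ext fun v => ?_))
    obtain ⟨s, hs, r, hr, rfl⟩ := hdec v
    show gamRho A (γ ^ (Nat.card T - 1)) (s + r) = gamRho A 1 (s + r)
    rw [rho_one, map_add, hfixpow _ r hr]
    congr 1
    refine Additive.toMul.injective (Subtype.ext ?_)
    rw [hγ, hcm, hpow _ ((mem_vsub (v := Additive.toMul s)).2 hs), mul_inv_cancel_right]
  have hle : Nat.card T - 1 ≤ orderOf γ := by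
    classical
    haveI : Fintype T := Fintype.ofFinite T
    haveI : Nontrivial T := Finite.one_lt_card_iff_nontrivial.1 (by omega)
    obtain ⟨⟨s0, hs0⟩, hne⟩ := exists_ne (0 : T)
    have hs00 : s0 ≠ 0 := fun e => hne (Subtype.ext e)
    have hc : Nat.card {y : T // y ≠ 0} = Nat.card T - 1 := by
      rw [Nat.card_eq_fintype_card, Fintype.card_subtype_compl, Fintype.card_subtype_eq, Nat.card_eq_fintype_card]
    rw [← hc, ← Nat.card_fin (orderOf γ)]
    refine Nat.card_le_card_of_surjective (fun i : Fin (orderOf γ) => (⟨⟨gamRho A (γ ^ (i : ℕ)) s0, ?_⟩, fun e =>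
      hs00 (rho_injective (gamRho A) (γ ^ (i : ℕ)) ((congrArg Subtype.val e).trans (map_zero _).symm))⟩ :
        {y : T // y ≠ 0})) fun z => ?_
    · induction (i : ℕ) with
      | zero => rw [pow_zero, rho_one]; exact hs0
      | succ k ih => rw [pow_succ', rho_mul]; exact hst' _ ih
    · obtain ⟨i, hi⟩ := hreg' s0 hs0 hs00 z.1 z.1.2 (fun e => z.2 (Subtype.ext e))
      refine ⟨⟨i % orderOf γ, Nat.mod_lt _ (orderOf_pos γ)⟩, Subtype.ext (Subtype.ext ?_)⟩
      show gamRho A (γ ^ (i % orderOf γ)) s0 = _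
      rw [pow_mod_orderOf, hi]
  have := Nat.le_of_dvd (by omega) hdvd
  omega

theorem gsys (h : Hyp G A) (P : PairSys A) : GSys (gamRho A) (MemV A) where
  ne_zero := fun {x T R} hM e => hM.2.1 (toMul_eq_one_iff.2 e)
  mem := fun {x T R} hM => mem_vsub.1 (P.mem hM)
  sing := fun hM => memV_sing h P hM
  smul := fun {x T R} hM a => by
    obtain ⟨α, ⟨g, hg⟩, rfl⟩ := a
    show MemV A (gamRho A (gam A g hg) x) (tr (gamRho A) (gam A g hg) T) (tr (gamRho A) (gam A g hg) R)
    rw [MemV, vsub_tr, vsub_tr, gam_apply]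
    exact P.smul hM g hg
  orth := fun hM hM' => (P.orth hM hM').imp (fun e => ⟨vsub_injective e.1, vsub_injective e.2⟩)
    fun e => ⟨vsub_le_iff.1 e.1, vsub_le_iff.1 e.2⟩
  lift := fun {x T R} hM r hr hr0 => by
    obtain ⟨T', R', hM', h1, h2⟩ := P.lift hM _ ((mem_vsub (v := Additive.toMul r)).2 hr)
      (fun e => hr0 (toMul_eq_one_iff.1 e))
    obtain ⟨hT', hR', -⟩ := P.le hM'
    refine ⟨toV A T', toV A R', ?_, ?_, ?_⟩
    · rw [MemV, vsub_toV hT', vsub_toV hR']; exact hM'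
    · rw [← vsub_le_iff, vsub_toV hT']; exact h1
    · rw [← vsub_le_iff, vsub_toV hR']; exact h2
  irr := fun U hU => by
    rcases h.irr (vsub A U) (vsub_le U) (by
      rintro g hg _ ⟨v, hv, rfl⟩
      exact ⟨Additive.toMul (gamRho A (gam A g hg) (Additive.ofMul v)), hU (gam A g hg) _ hv, rfl⟩) with e | e
    · refine Or.inl (eq_bot_iff.2 fun v hv => AddSubgroup.mem_bot.2 (toMul_eq_one_iff.1 ?_))
      exact (Subgroup.eq_bot_iff_forall _).1 e _ ((mem_vsub (v := Additive.toMul v)).2 hv)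
    · exact Or.inr (eq_top_iff.2 fun v _ =>
        (mem_vsub (v := Additive.toMul v)).1 (e.symm ▸ (Additive.toMul v).2))
  idx := h.no_index_two_autOn

end Cfsg.Agent.Goldschmidt
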