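import Cfsg.Agent.Lib.Goldschmidt.TrichotomyBase

/-!
# A largest pair with four and two

If the automisers of `A` have odd order and a pair has `|T| = 4`, `|R| = 2`, then they are transitive on the seven
involutions of `A` and each of these has such a pair.
-/

set_option autoImplicit false
set_option linter.style.haveILetI false
set_option linter.unusedSectionVars false

namespace Cfsg.Agent.Goldschmidt

open Subgroup
open Cfsg.Agent.Local.SCA (autOn)
open Cfsg.Agent.Walter (tr rho_one rho_mul rho_injective)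
open scoped IsMulCommutative

universe u

variable {G : Type u} [Group G] [Finite G] {A : Subgroup G} [hAc : IsMulCommutative ↥A]

/-- The exceptional case. -/
theorem smallCase_of (h : Hyp G A) (P : PairSys A) (hodd : Odd (Nat.card ↥(autOn A))) {x : VA A}
    {T R : AddSubgroup (VA A)} (hM : MemV A x T R) (hT : Nat.card T = 4) (hR : Nat.card R = 2) : SmallCase A := by
  classical
  haveI : Fact (Nat.Prime 3) := ⟨Nat.prime_three⟩
  have B := gsys h P
  obtain ⟨g0, hS⟩ := B.sing hM
  have hx0 := B.ne_zero hM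
  have hxR := B.mem hM
  have hV : Nat.card (VA A) = 8 := by rw [hS.card_eq, hT, hR]
  have hh : orderOf g0 = 3 := by have := hS.ord; omega
  letI : MulAction ↥(autOn A) (VA A) :=
    { smul := fun a v => gamRho A a v
      one_smul := fun v => rho_one (gamRho A) v
      mul_smul := fun a b v => rho_mul (gamRho A) a b v }
  set O : Set (VA A) := MulAction.orbit ↥(autOn A) x with hO
  have hxO : x ∈ O := MulAction.mem_orbit_self x
  have h0O : (0 : VA A) ∉ O := fun ⟨a, e⟩ => hx0 (rho_injective (gamRho A) a (e.trans (map_zero _).symm))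
  have hOodd : Odd O.ncard := by
    rw [← MulAction.index_stabilizer]
    exact hodd.of_dvd_nat (Subgroup.index_dvd_card _)
  have hmod : O.ncard % 3 = 1 := by
    haveI : Finite (MulAction.orbit ↥(autOn A) x) := Set.toFinite _
    have hP : IsPGroup 3 (zpowers g0) := IsPGroup.of_card (n := 1) (by rw [Nat.card_zpowers, hh, pow_one])
    letI : MulAction (zpowers g0) (MulAction.orbit ↥(autOn A) x) := MulAction.compHom _ (zpowers g0).subtype
    have h1 := hP.card_modEq_card_fixedPoints (MulAction.orbit ↥(autOn A) x)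
    have h2 : Nat.card (MulAction.fixedPoints (zpowers g0) (MulAction.orbit ↥(autOn A) x)) = 1 := by
      refine Nat.card_eq_one_iff_unique.2 ⟨⟨?_⟩, ⟨⟨⟨x, hxO⟩, ?_⟩⟩⟩
      · have key : ∀ y : MulAction.fixedPoints (zpowers g0) (MulAction.orbit ↥(autOn A) x),
            ((y : MulAction.orbit ↥(autOn A) x) : VA A) = x := by
          intro y
          have hy : gamRho A g0 ((y : MulAction.orbit ↥(autOn A) x) : VA A) =
              ((y : MulAction.orbit ↥(autOn A) x) : VA A) := congrArg Subtype.val (y.2 ⟨g0, mem_zpowers g0⟩)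
          have hyR : ((y : MulAction.orbit ↥(autOn A) x) : VA A) ∈ R :=
            (hS.fixed_iff (i := 1) hS.ne_one _).1 (by rw [pow_one]; exact hy)
          have hne : ((y : MulAction.orbit ↥(autOn A) x) : VA A) ≠ 0 := fun e =>
            h0O (by rw [← e]; exact (y : MulAction.orbit ↥(autOn A) x).2)
          have huniq := (Nat.card_eq_two_iff' (0 : R)).1 hR
          exact congrArg Subtype.val (huniq.unique (y₁ := ⟨_, hyR⟩) (y₂ := ⟨x, hxR⟩)
            (fun e => hne (congrArg Subtype.val e)) fun e => hx0 (congrArg Subtype.val e))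
        exact fun y z => Subtype.ext (Subtype.ext ((key y).trans (key z).symm))
      · rintro ⟨k, hk⟩
        obtain ⟨i, rfl⟩ := mem_powers_iff_mem_zpowers.2 hk
        exact Subtype.ext (hS.pow_fix i hxR)
    rw [h2] at h1
    rw [← Nat.card_coe_set_eq]
    exact h1
  have hOne : O.ncard ≠ 1 := by
    intro e
    obtain ⟨z, hz⟩ := Set.ncard_eq_one.1 e
    refine hx0 (B.cent hM x fun a => ?_)
    have h1 : gamRho A a x ∈ O := ⟨a, rfl⟩
    have h2 := hxO
    rw [hz] at h1 h2
    rw [Set.mem_singleton_iff.1 h1, Set.mem_singleton_iff.1 h2]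
  have hOle : O.ncard ≤ 7 := by
    have h1 : O ⊆ (Set.univ : Set (VA A)) \ {0} := fun v hv => ⟨trivial, fun e => h0O ((show v = 0 from e) ▸ hv)⟩
    have h2 := Set.ncard_le_ncard h1
    rwa [Set.ncard_sdiff_singleton_of_mem (Set.mem_univ _), Set.ncard_univ, hV] at h2
  have hOall : ∀ v : VA A, v ≠ 0 → ∃ g, ∃ hg : g ∈ normalizer (A : Set G), gamRho A (gam A g hg) x = v := by
    intro v hv
    have h7 : O.ncard = 7 := by
      obtain ⟨k, hk⟩ := hOodd
      omega
    have h1 : O = (Set.univ : Set (VA A)) \ {0} := Set.eq_of_subset_of_ncard_le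
      (fun v hv => ⟨trivial, fun e => h0O ((show v = 0 from e) ▸ hv)⟩)
      (by rw [Set.ncard_sdiff_singleton_of_mem (Set.mem_univ _), Set.ncard_univ, hV, h7])
    have h2 : v ∈ O := h1 ▸ ⟨trivial, hv⟩
    obtain ⟨⟨_, ⟨g, hg⟩, rfl⟩, ha⟩ := h2
    exact ⟨g, hg, ha⟩
  have hconj : ∀ a ∈ A, a ≠ 1 → ∃ g ∈ normalizer (A : Set G), g * ((Additive.toMul x : ↥A) : G) * g⁻¹ = a := by
    intro a ha ha1
    obtain ⟨g, hg, e⟩ := hOall (Additive.ofMul ⟨a, ha⟩) fun e => ha1 (toMul_eq_one_iff.2 e)
    exact ⟨g, hg, congrArg (fun w : VA A => ((Additive.toMul w : ↥A) : G)) e⟩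
  refine ⟨?_, ?_, ?_, ?_⟩
  · exact (Nat.card_congr (Additive.ofMul (α := ↥A))).trans hV
  · intro g hg k hk
    have h1 : gam A g hg ^ 2 ^ k = 1 := by
      rw [gam_pow]
      refine gamRho_inj A (AddMonoidHom.ext fun v => Additive.toMul.injective (Subtype.ext ?_))
      show ((Additive.toMul (gamRho A (gam A (g ^ 2 ^ k) _) v) : ↥A) : G) =
        ((Additive.toMul (gamRho A 1 v) : ↥A) : G)
      rw [gam_apply, rho_one, hk, one_mul, inv_one, mul_one]
    have h2 : gam A g hg = 1 := by
      obtain ⟨i, -, hi⟩ := (Nat.dvd_prime_pow Nat.prime_two).1 (orderOf_dvd_of_pow_eq_one h1)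
      have h3 := hodd.of_dvd_nat (orderOf_dvd_natCard (gam A g hg))
      rw [hi] at h3
      refine orderOf_eq_one_iff.1 (hi.trans ?_)
      rcases i with _ | i
      · rfl
      · rw [pow_succ', Nat.odd_mul] at h3
        exact absurd h3.1 (by decide)
    refine mem_centralizer_iff.2 fun y hy => ?_
    have h3 : g * y * g⁻¹ = y := by
      have := congrArg (fun a => ((Additive.toMul (gamRho A a (Additive.ofMul ⟨y, hy⟩)) : ↥A) : G)) h2
      simp only [rho_one] at this
      exact this
    exact (mul_inv_eq_iff_eq_mul.1 h3).symm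
  · intro a ha ha1 b hb hb1
    obtain ⟨g, hg, rfl⟩ := hconj a ha ha1
    obtain ⟨g', hg', rfl⟩ := hconj b hb hb1
    exact ⟨g' * g⁻¹, mul_mem hg' (inv_mem hg), by group⟩
  · intro a ha ha1
    obtain ⟨g, hg, rfl⟩ := hconj a ha ha1
    refine ⟨_, _, P.smul hM g hg, ?_, ?_⟩
    · rw [Subgroup.card_map_of_injective (MulAut.conj g).injective, card_vsub, hT]
    · rw [Subgroup.card_map_of_injective (MulAut.conj g).injective, card_vsub, hR]

end Cfsg.Agent.Goldschmidt
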