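import Cfsg.Agent.Lib.Goldschmidt.Pairs
import Cfsg.Agent.Lib.Walter.Rigid

/-!
# Systems of pairs

A group `Γ` without subgroups of index two, irreducible on the elementary abelian 2-group `V`, and a relation
`Mem x T R` ("`(T, R)` is a pair of `x`") with the axioms of a system of blocks. Either there is no pair, or `Γ` has odd
order and a largest pair has `|T| = 4`, `|R| = 2`, or the translates of a largest pair decompose `V` into at least three
summands. The group itself need not have odd order.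
-/

set_option autoImplicit false
set_option linter.style.haveILetI false
set_option linter.unusedSectionVars false

namespace Cfsg.Agent.Goldschmidt

open Cfsg.Agent.Walter (tr mem_tr apply_mem_tr tr_tr tr_one tr_injective card_tr trStab rho_mul rho_one rho_inv rho_inv'
  rho_injective)

universe v w

variable {V : Type v} [AddCommGroup V] {Γ : Type w} [Group Γ]

/-- The data of one pair: `h` is trivial on `R`, and its powers are regular on the non-zero elements of `T`. -/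
structure GSing (ρ : Γ →* AddMonoid.End V) (h : Γ) (T R : AddSubgroup V) : Prop where
  two : ∀ v : V, v + v = 0
  inj : Function.Injective ρ
  fix : ∀ r ∈ R, ρ h r = r
  stable : ∀ s ∈ T, ρ h s ∈ T
  decomp : ∀ x : V, ∃ s ∈ T, ∃ r ∈ R, x = s + r
  disj : T ⊓ R = ⊥
  reg : ∀ s ∈ T, s ≠ 0 → ∀ s' ∈ T, s' ≠ 0 → ∃ i : ℕ, ρ (h ^ i) s = s'
  ord : orderOf h + 1 = Nat.card T
  big : 4 ≤ Nat.card T

/-- The axioms of a system of pairs. -/
structure GSys (ρ : Γ →* AddMonoid.End V) (Mem : V → AddSubgroup V → AddSubgroup V → Prop) : Prop where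
  ne_zero : ∀ {x : V} {T R : AddSubgroup V}, Mem x T R → x ≠ 0
  mem : ∀ {x : V} {T R : AddSubgroup V}, Mem x T R → x ∈ R
  sing : ∀ {x : V} {T R : AddSubgroup V}, Mem x T R → ∃ h, GSing ρ h T R
  smul : ∀ {x : V} {T R : AddSubgroup V}, Mem x T R → ∀ a : Γ, Mem (ρ a x) (tr ρ a T) (tr ρ a R)
  orth : ∀ {x : V} {T R T' R' : AddSubgroup V}, Mem x T R → Mem x T' R' → (T = T' ∧ R = R') ∨ (T ≤ R' ∧ T' ≤ R)
  lift : ∀ {x : V} {T R : AddSubgroup V}, Mem x T R → ∀ r ∈ R, r ≠ 0 → ∃ T' R', Mem r T' R' ∧ T ≤ T' ∧ R' ≤ R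
  irr : ∀ U : AddSubgroup V, (∀ a : Γ, ∀ u ∈ U, ρ a u ∈ U) → U = ⊥ ∨ U = ⊤
  idx : ∀ H : Subgroup Γ, H.index ≠ 2

/-- The translates of `(T, R)` decompose `V` into at least three summands, each a pair of the vectors that have
coordinate zero in it. -/
structure GConf (ρ : Γ →* AddMonoid.End V) (Mem : V → AddSubgroup V → AddSubgroup V → Prop)
    (T R : AddSubgroup V) : Prop where
  sing : ∃ h, GSing ρ h T R
  mem : ∀ (a : Γ), ∀ w ∈ tr ρ a R, w ≠ 0 → Mem w (tr ρ a T) (tr ρ a R)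
  pair : ∀ a b : Γ, (tr ρ a T = tr ρ b T ∧ tr ρ a R = tr ρ b R) ∨ tr ρ a T ≤ tr ρ b R
  span : ⨆ a : Γ, tr ρ a T = ⊤
  meet : ⨅ a : Γ, tr ρ a R = ⊥
  moved : ∃ a : Γ, tr ρ a T ≠ T
  third : ∀ a b : Γ, tr ρ a T ≠ tr ρ b T → ∃ c, tr ρ c T ≠ tr ρ a T ∧ tr ρ c T ≠ tr ρ b T

variable [Finite V] [Finite Γ] {ρ : Γ →* AddMonoid.End V} {Mem : V → AddSubgroup V → AddSubgroup V → Prop}

namespace GSing

variable {h : Γ} {T R : AddSubgroup V} (B : GSing ρ h T R)
include B

theorem pow_stable (i : ℕ) {s : V} (hs : s ∈ T) : ρ (h ^ i) s ∈ T := by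
  induction i with
  | zero => rw [pow_zero, rho_one]; exact hs
  | succ i ih => rw [pow_succ', rho_mul]; exact B.stable _ ih

theorem pow_fix (i : ℕ) {r : V} (hr : r ∈ R) : ρ (h ^ i) r = r := by
  induction i with
  | zero => rw [pow_zero, rho_one]
  | succ i ih => rw [pow_succ', rho_mul, ih, B.fix r hr]

theorem eq_zero {s : V} (hs : s ∈ T) (hr : s ∈ R) : s = 0 :=
  AddSubgroup.mem_bot.1 (B.disj ▸ AddSubgroup.mem_inf.2 ⟨hs, hr⟩)

theorem card_eq : Nat.card V = Nat.card T * Nat.card R := by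
  rw [← Nat.card_prod]
  refine (Nat.card_eq_of_bijective (fun p : T × R => (p.1 : V) + p.2) ⟨?_, ?_⟩).symm
  · rintro ⟨⟨s, hs⟩, r, hr⟩ ⟨⟨s', hs'⟩, r', hr'⟩ e
    have e1 : s - s' = r' - r := by rw [sub_eq_sub_iff_add_eq_add, show s + r = s' + r' from e, add_comm]
    have h0 : s - s' = 0 := B.eq_zero (sub_mem hs hs') (e1 ▸ sub_mem hr' hr)
    rw [h0] at e1
    exact Prod.ext (Subtype.ext (sub_eq_zero.1 h0)) (Subtype.ext (sub_eq_zero.1 e1.symm).symm)
  · intro x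
    obtain ⟨s, hs, r, hr, rfl⟩ := B.decomp x
    exact ⟨(⟨s, hs⟩, ⟨r, hr⟩), rfl⟩

theorem ne_bot : T ≠ ⊥ := by
  intro e
  have := B.big
  rw [e, AddSubgroup.card_bot] at this
  omega

theorem not_le : ¬ T ≤ R := fun hle => B.ne_bot (le_bot_iff.1 (B.disj ▸ le_inf le_rfl hle))

theorem ne_one : h ^ 1 ≠ 1 := by
  rw [pow_one]
  intro e
  have h1 := B.ord
  have := B.big
  rw [e, orderOf_one] at h1
  omega

theorem fixed_iff {i : ℕ} (hi : h ^ i ≠ 1) (x : V) : ρ (h ^ i) x = x ↔ x ∈ R := by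
  refine ⟨fun e => ?_, fun hx => B.pow_fix i hx⟩
  obtain ⟨s, hs, r, hr, rfl⟩ := B.decomp x
  rw [map_add, B.pow_fix i hr, add_left_inj] at e
  by_cases hs0 : s = 0
  · rw [hs0, zero_add]; exact hr
  refine absurd (B.inj (AddMonoidHom.ext fun y => ?_)) hi
  obtain ⟨s', hs', r', hr', rfl⟩ := B.decomp y
  show ρ (h ^ i) (s' + r') = ρ 1 (s' + r')
  rw [rho_one, map_add, B.pow_fix i hr']
  congr 1
  by_cases h0 : s' = 0
  · rw [h0, map_zero]
  obtain ⟨j, rfl⟩ := B.reg s hs hs0 s' hs' h0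
  rw [← rho_mul, ← pow_add, add_comm i j, pow_add, rho_mul, e]

end GSing

namespace GSys

variable (B : GSys ρ Mem)
include B

/-- A largest pair is a pair of every non-zero vector of its fixed part. -/
theorem pump {x : V} {T R : AddSubgroup V} (hM : Mem x T R)
    (htop : ∀ (y : V) (T' R' : AddSubgroup V), Mem y T' R' → Nat.card T' ≤ Nat.card T) {r : V} (hr : r ∈ R)
    (hr0 : r ≠ 0) : Mem r T R := by
  obtain ⟨T2, R2, hM2, h1, h2⟩ := B.lift hM r hr hr0
  obtain ⟨h, hS⟩ := B.sing hM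
  obtain ⟨h', hS'⟩ := B.sing hM2
  have e1 : T = T2 := AddSubgroup.eq_of_le_of_card_ge h1 (htop _ _ _ hM2)
  have e2 : R2 = R := by
    refine AddSubgroup.eq_of_le_of_card_ge h2 (le_of_eq (Nat.eq_of_mul_eq_mul_left (Nat.card_pos (α := T)) ?_))
    rw [← hS.card_eq]
    subst e1
    exact hS'.card_eq
  subst e1 e2
  exact hM2

/-- `Γ` fixes no non-zero vector. -/
theorem cent {x : V} {T R : AddSubgroup V} (hM : Mem x T R) (v : V) (hv : ∀ a : Γ, ρ a v = v) : v = 0 := by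
  let U : AddSubgroup V :=
    { carrier := {u | ∀ a : Γ, ρ a u = u}
      zero_mem' := fun a => map_zero _
      add_mem' := fun {u u'} hu hu' a => by rw [map_add, hu, hu']
      neg_mem' := fun {u} hu a => by rw [map_neg, hu] }
  obtain ⟨h, hS⟩ := B.sing hM
  rcases B.irr U fun a u hu => by rw [hu a]; exact hu with e | e
  · have : v ∈ U := hv
    rw [e] at this
    exact this
  · refine absurd (hS.inj (AddMonoidHom.ext fun u => ?_)) hS.ne_one
    have : u ∈ U := e ▸ AddSubgroup.mem_top u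
    exact (this _).trans (rho_one ρ u).symm

/-- **The three outcomes.** -/
theorem cases : (∀ x T R, ¬ Mem x T R) ∨
    (Odd (Nat.card Γ) ∧ ∃ (x : V) (T R : AddSubgroup V), Mem x T R ∧ Nat.card T = 4 ∧ Nat.card R = 2) ∨
    ∃ T R, GConf ρ Mem T R := by
  classical
  by_cases hnone : ∀ x T R, ¬ Mem x T R
  · exact Or.inl hnone
  refine Or.inr ?_
  push Not at hnone
  obtain ⟨x0, T0, R0, h0⟩ := hnone
  haveI : Nonempty {p : V × AddSubgroup V × AddSubgroup V // Mem p.1 p.2.1 p.2.2} := ⟨⟨(x0, T0, R0), h0⟩⟩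
  obtain ⟨⟨⟨x, T, R⟩, hM⟩, hmax⟩ := Finite.exists_max
    fun p : {p : V × AddSubgroup V × AddSubgroup V // Mem p.1 p.2.1 p.2.2} => Nat.card p.1.2.1
  change Mem x T R at hM
  have htop : ∀ (y : V) (T' R' : AddSubgroup V), Mem y T' R' → Nat.card T' ≤ Nat.card T :=
    fun y T' R' hy => hmax ⟨(y, T', R'), hy⟩
  obtain ⟨h, hS⟩ := B.sing hM
  have hx0 := B.ne_zero hM
  have hxR := B.mem hM
  have hRbot : R ≠ ⊥ := fun e => hx0 (by rw [e] at hxR; exact hxR)
  have hmem : ∀ (a : Γ), ∀ w ∈ tr ρ a R, w ≠ 0 → Mem w (tr ρ a T) (tr ρ a R) := by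
    rintro a _ ⟨r, hr, rfl⟩ hw
    exact B.smul (B.pump hM htop hr fun e => hw (by rw [e]; exact map_zero _)) a
  by_cases hsmall : Nat.card R ≤ Nat.card T
  · refine Or.inl ?_
    have hTI : ∀ a : Γ, ∀ r ∈ R, r ≠ 0 → ρ a r ∈ R → tr ρ a R = R ∧ tr ρ a T = T := by
      intro a r hr hr0 har
      have har0 : ρ a r ≠ 0 := fun e => hr0 (rho_injective ρ a (e.trans (map_zero _).symm))
      rcases B.orth (B.pump hM htop har har0) (hmem a _ (apply_mem_tr ρ hr) har0) with ⟨eT, eR⟩ | ⟨h1, -⟩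
      · exact ⟨eR.symm, eT.symm⟩
      exfalso
      have e1 : T = tr ρ a R := AddSubgroup.eq_of_le_of_card_ge h1 (by rw [card_tr]; exact hsmall)
      have h2 : ρ a r ∈ T := e1 ▸ apply_mem_tr ρ hr
      exact har0 (hS.eq_zero h2 har)
    have hodd : Odd (Nat.card Γ) := (TIPair.mk hS.two hS.inj hS.fix hS.stable hS.decomp hS.disj hS.reg hS.ord hS.big
      hsmall hRbot hTI).odd_card B.irr B.idx
    refine ⟨hodd, x, T, R, hM, ?_⟩
    by_contra hexc
    have Bk : Walter.Blk ρ h T R :=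
      ⟨⟨hS.two, hS.fix, hS.stable, hS.decomp, hS.disj, hS.reg, hS.ord, hS.big, hS.inj, hodd⟩, hsmall⟩
    have hkeep := Bk.rigid hRbot (fun a r hr hr0 har => ⟨fun r' hr' => (hTI a r hr hr0 har).1 ▸ apply_mem_tr ρ hr',
      fun s hs => (hTI a r hr hr0 har).2 ▸ apply_mem_tr ρ hs⟩) (B.cent hM) hexc
    rcases B.irr T (fun a => (hkeep a).2) with e | e
    · exact hS.ne_bot e
    · refine hRbot (le_bot_iff.1 ?_)
      rw [← hS.disj, e, top_inf_eq]
  refine Or.inr ⟨T, R, ?_⟩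
  have hmeet : ∀ a b : Γ, ∃ w, w ≠ 0 ∧ w ∈ tr ρ a R ∧ w ∈ tr ρ b R := by
    intro a b
    by_contra hno
    push Not at hno
    have hinj : Function.Injective fun p : R × R => ρ a (p.1 : V) - ρ b (p.2 : V) := by
      rintro ⟨⟨r, hr⟩, r', hr'⟩ ⟨⟨u, hu⟩, u', hu'⟩ e
      have e' : ρ a (r - u) = ρ b (r' - u') := by
        rw [map_sub, map_sub, sub_eq_sub_iff_sub_eq_sub]
        exact e
      have hz : ρ a (r - u) = 0 := by
        by_contra hne
        exact hno _ hne (apply_mem_tr ρ (sub_mem hr hu)) (e' ▸ apply_mem_tr ρ (sub_mem hr' hu'))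
      have h1 : r = u := sub_eq_zero.1 (rho_injective ρ a (hz.trans (map_zero _).symm))
      have h2 : r' = u' := sub_eq_zero.1 (rho_injective ρ b ((e'.symm.trans hz).trans (map_zero _).symm))
      exact Prod.ext (Subtype.ext h1) (Subtype.ext h2)
    have h1 := Nat.card_le_card_of_injective _ hinj
    rw [Nat.card_prod, hS.card_eq] at h1
    exact hsmall (Nat.le_of_mul_le_mul_right h1 Nat.card_pos)
  have hpair : ∀ a b : Γ, (tr ρ a T = tr ρ b T ∧ tr ρ a R = tr ρ b R) ∨ tr ρ a T ≤ tr ρ b R := by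
    intro a b
    obtain ⟨w, hw, hwa, hwb⟩ := hmeet a b
    exact (B.orth (hmem a w hwa hw) (hmem b w hwb hw)).imp id And.left
  refine ⟨⟨h, hS⟩, hmem, hpair, ?_, ?_, ?_, ?_⟩
  · have hle : T ≤ ⨆ a : Γ, tr ρ a T := le_iSup_of_le 1 (tr_one ρ T).ge
    refine (B.irr _ fun g u hu => ?_).resolve_left fun e => hS.ne_bot (le_bot_iff.1 (e ▸ hle))
    refine (iSup_le fun a v hv => ?_ : (⨆ a : Γ, tr ρ a T) ≤
      AddSubgroup.comap (ρ g : V →+ V) (⨆ a : Γ, tr ρ a T)) hu
    exact AddSubgroup.mem_iSup_of_mem (g * a) (tr_tr ρ g a T ▸ apply_mem_tr ρ hv)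
  · refine (B.irr _ fun g u hu => ?_).resolve_right fun e => ?_
    · refine AddSubgroup.mem_iInf.2 fun a => ?_
      have h1 := (mem_tr ρ).1 (AddSubgroup.mem_iInf.1 hu (g⁻¹ * a))
      rw [mul_inv_rev, inv_inv, rho_mul] at h1
      exact (mem_tr ρ).2 h1
    · have h1 : (⊤ : AddSubgroup V) ≤ R := e ▸ (iInf_le _ 1).trans (tr_one ρ R).le
      exact hS.not_le (le_trans le_top h1)
  · by_contra hall
    push Not at hall
    rcases B.irr T (fun a u hu => by have h1 := apply_mem_tr ρ (a := a) hu; rwa [hall a] at h1) with e | e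
    · exact hS.ne_bot e
    · exact hRbot (le_bot_iff.1 (hS.disj ▸ e ▸ (top_inf_eq R).ge))
  · intro a b hab
    by_contra hno
    push Not at hno
    set g := b * a⁻¹ with hg
    have hga : tr ρ g (tr ρ a T) = tr ρ b T := by rw [tr_tr, hg, inv_mul_cancel_right]
    have hmemK : ∀ c, c ∈ trStab ρ (tr ρ a T) ↔ tr ρ c (tr ρ a T) = tr ρ a T := fun c => Iff.rfl
    refine B.idx (trStab ρ (tr ρ a T)) (Subgroup.index_eq_two_iff_exists_notMem_and.2 ⟨g, ?_, fun c => ?_⟩)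
    · rw [hmemK, hga]
      exact Ne.symm hab
    · rw [hmemK, hmemK, ← tr_tr, hga]
      by_contra hc
      push Not at hc
      obtain ⟨hc1, hc2⟩ := hc
      have e1 : tr ρ c (tr ρ b T) = tr ρ b T := by
        rw [tr_tr] at hc1 ⊢
        exact hno _ hc1
      have e2 : tr ρ c (tr ρ a T) = tr ρ b T := by
        rw [tr_tr] at hc2 ⊢
        exact hno _ hc2
      exact hab (tr_injective ρ c (e2.trans e1.symm))

end GSys

/-- `s` is the coordinate of `x` in the translate by `a`. -/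
def IsGCoord (ρ : Γ →* AddMonoid.End V) (T R : AddSubgroup V) (a : Γ) (x s : V) : Prop :=
  s ∈ tr ρ a T ∧ x - s ∈ tr ρ a R

namespace GConf

variable {T R : AddSubgroup V} (C : GConf ρ Mem T R)
include C

theorem tr_disj {a : Γ} {v : V} (h1 : v ∈ tr ρ a T) (h2 : v ∈ tr ρ a R) : v = 0 := by
  obtain ⟨h, hS⟩ := C.sing
  exact rho_injective ρ a⁻¹ ((hS.eq_zero ((mem_tr ρ).1 h1) ((mem_tr ρ).1 h2)).trans (map_zero _).symm)

theorem pair_ne {a b : Γ} (hne : tr ρ a T ≠ tr ρ b T) : tr ρ a T ≤ tr ρ b R :=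
  (C.pair a b).resolve_left fun h => hne h.1

theorem pair_eq {a b : Γ} (he : tr ρ a T = tr ρ b T) : tr ρ a R = tr ρ b R := by
  obtain ⟨h, hS⟩ := C.sing
  refine ((C.pair a b).resolve_right fun hle => hS.not_le ?_).2
  intro s hs
  have h1 := (mem_tr ρ).1 (hle (he.symm ▸ apply_mem_tr ρ (a := b) hs))
  rwa [rho_inv] at h1

theorem exists_coord (a : Γ) (x : V) : ∃ s, IsGCoord ρ T R a x s := by
  obtain ⟨h, hS⟩ := C.sing
  obtain ⟨s, hs, r, hr, e⟩ := hS.decomp (ρ a⁻¹ x)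
  refine ⟨ρ a s, apply_mem_tr ρ hs, ?_⟩
  have : x - ρ a s = ρ a r := by
    rw [sub_eq_iff_eq_add', ← map_add, ← e, rho_inv']
  rw [this]
  exact apply_mem_tr ρ hr

theorem coord_unique {a b : Γ} (he : tr ρ a T = tr ρ b T) {x s s' : V} (h : IsGCoord ρ T R a x s)
    (h' : IsGCoord ρ T R b x s') : s = s' := by
  refine sub_eq_zero.1 (C.tr_disj (a := b) (sub_mem (he ▸ h.1) h'.1) ?_)
  have h1 := sub_mem h'.2 (C.pair_eq he ▸ h.2)
  rwa [sub_sub_sub_cancel_left] at h1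

/-- A non-zero vector has a non-zero coordinate. -/
theorem exists_coord_ne {x : V} (hx : x ≠ 0) : ∃ a s, IsGCoord ρ T R a x s ∧ s ≠ 0 := by
  by_contra hno
  push Not at hno
  refine hx ?_
  have : x ∈ ⨅ a : Γ, tr ρ a R := AddSubgroup.mem_iInf.2 fun a => by
    obtain ⟨s, hs⟩ := C.exists_coord a x
    have h1 := hs.2
    rwa [hno a s hs, sub_zero] at h1
  rw [C.meet] at this
  exact this

theorem coord_apply {a : Γ} {x s : V} (hs : IsGCoord ρ T R a x s) (g : Γ) :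
    IsGCoord ρ T R (g * a) (ρ g x) (ρ g s) := by
  refine ⟨?_, ?_⟩
  · rw [← tr_tr]
    exact apply_mem_tr ρ hs.1
  · rw [← map_sub, ← tr_tr]
    exact apply_mem_tr ρ hs.2

/-- **Every pair fixes the coordinates of the vectors under it.** -/
theorem coord_fixed {h' : Γ} {T' R' : AddSubgroup V} (hS' : GSing ρ h' T' R') {x : V} (hx : x ∈ R') {a : Γ} {s : V}
    (hs : IsGCoord ρ T R a x s) : s ∈ R' := by
  classical
  by_contra hsR
  obtain ⟨h, hS⟩ := C.sing
  have hs0 : s ≠ 0 := fun e => hsR (e ▸ zero_mem R')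
  have hl : ∀ l : ℕ, IsGCoord ρ T R (h' ^ l * a) x (ρ (h' ^ l) s) := fun l => by
    have h1 := C.coord_apply hs (h' ^ l)
    rwa [hS'.pow_fix l hx] at h1
  have hdist : ∀ l : ℕ, h' ^ l ≠ 1 → tr ρ (h' ^ l * a) T ≠ tr ρ a T := fun l hl1 he =>
    hsR ((hS'.fixed_iff hl1 s).1 (C.coord_unique he (hl l) hs))
  set N := orderOf h' with hN
  have hN3 : 3 ≤ N := by have := hS'.ord; have := hS'.big; omega
  have hne : ∀ i j : ℕ, i < j → j < N → tr ρ (h' ^ i * a) T ≠ tr ρ (h' ^ j * a) T := by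
    intro i j hij hjN he
    refine hdist (j - i) (pow_ne_one_of_lt_orderOf (by omega) (by omega)) ?_
    have h1 := congrArg (tr ρ (h' ^ i)⁻¹) he
    rw [tr_tr, tr_tr, ← mul_assoc, ← mul_assoc, inv_mul_cancel, one_mul] at h1
    rw [h1]
    congr 2
    rw [eq_inv_mul_iff_mul_eq, ← pow_add]
    congr 1
    omega
  let pt : Fin (N - 1) → Γ := fun j => h' ^ ((j : ℕ) + 1) * a
  let f : (Fin (N - 1) → T) →+ V :=
    { toFun := fun u => ∑ j, ρ (pt j) (u j : V)
      map_zero' := Finset.sum_eq_zero fun j _ => map_zero _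
      map_add' := fun u u' => by
        rw [← Finset.sum_add_distrib]
        exact Finset.sum_congr rfl fun j _ => map_add _ _ _ }
  have hker : ∀ u, f u ∈ R' → u = 0 := by
    intro u hu
    have h0 : IsGCoord ρ T R a (f u) 0 := by
      refine ⟨zero_mem _, ?_⟩
      rw [sub_zero]
      show (∑ j, ρ (pt j) (u j : V)) ∈ _
      refine AddSubgroup.sum_mem _ fun j _ => C.pair_ne ?_ (apply_mem_tr ρ (u j).2)
      have h1 := hne 0 ((j : ℕ) + 1) (by omega) (by have := j.2; omega)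
      rw [pow_zero, one_mul] at h1
      exact h1.symm
    funext j
    have h1 : IsGCoord ρ T R (pt j) (f u) (ρ (pt j) (u j : V)) := by
      refine ⟨apply_mem_tr ρ (u j).2, ?_⟩
      show (∑ i, ρ (pt i) (u i : V)) - _ ∈ _
      rw [← Finset.sum_erase_eq_sub (Finset.mem_univ j)]
      refine AddSubgroup.sum_mem _ fun i hi => C.pair_ne ?_ (apply_mem_tr ρ (u i).2)
      have hij : (i : ℕ) ≠ j := fun e => (Finset.mem_erase.1 hi).1 (Fin.ext e)
      rcases lt_or_gt_of_ne hij with hlt | hlt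
      · exact hne _ _ (by omega) (by have := j.2; omega)
      · exact (hne _ _ (by omega) (by have := i.2; omega)).symm
    have h2 := C.coord_apply h0 (h' ^ ((j : ℕ) + 1))
    rw [hS'.pow_fix _ hu, map_zero] at h2
    exact Subtype.ext (rho_injective ρ (pt j) ((C.coord_unique rfl h1 h2).trans (map_zero _).symm))
  choose σ hσ ω hω e using hS'.decomp
  have hinj : Function.Injective fun u => (⟨σ (f u), hσ (f u)⟩ : T') := by
    intro u u' he
    refine sub_eq_zero.1 (hker _ ?_)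
    rw [map_sub, e (f u), e (f u'), show σ (f u) = σ (f u') from congrArg Subtype.val he, add_sub_add_left_eq_sub]
    exact sub_mem (hω _) (hω _)
  have h1 := Nat.card_le_card_of_injective _ hinj
  rw [Nat.card_fun, Nat.card_fin, ← hS'.ord, ← hN] at h1
  have h2 : 4 ^ (N - 1) ≤ N + 1 := (Nat.pow_le_pow_left hS.big _).trans h1
  obtain ⟨m, hm⟩ : ∃ m, N = m + 3 := ⟨N - 3, by omega⟩
  rw [hm] at h2
  have h3 : m < 4 ^ m := Nat.lt_pow_self (by norm_num)
  rw [show m + 3 - 1 = m + 2 by omega, pow_add] at h2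
  omega

/-- **Every pair lives in one translate.** -/
theorem support (B : GSys ρ Mem) {x : V} {T' R' : AddSubgroup V} (hM : Mem x T' R') :
    ∃ a : Γ, T' ≤ tr ρ a T ∧ tr ρ a R ≤ R' := by
  obtain ⟨h', hS'⟩ := B.sing hM
  obtain ⟨a, s, hs, hs0⟩ := C.exists_coord_ne (B.ne_zero hM)
  obtain ⟨T2, R2, hM2, h1, h2⟩ := B.lift hM s (C.coord_fixed hS' (B.mem hM) hs) hs0
  by_cases hb : ∃ b, tr ρ b T ≠ tr ρ a T ∧ tr ρ b T = T2
  · obtain ⟨b, hne, rfl⟩ := hb
    refine ⟨b, h1, ?_⟩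
    rcases B.orth hM2 (C.mem b s (C.pair_ne hne.symm hs.1) hs0) with ⟨-, e⟩ | ⟨hle, -⟩
    · exact e ▸ h2
    · refine absurd (fun v hv => ?_) (C.sing.choose_spec.not_le)
      have h3 := (mem_tr ρ).1 (hle (apply_mem_tr ρ (a := b) hv))
      rwa [rho_inv] at h3
  push Not at hb
  have horth : ∀ b, tr ρ b T ≠ tr ρ a T → T2 ≤ tr ρ b R ∧ tr ρ b T ≤ R2 := fun b hne =>
    (B.orth hM2 (C.mem b s (C.pair_ne hne.symm hs.1) hs0)).resolve_left fun e => hb b hne e.1.symm
  refine ⟨a, fun v hv => ?_, fun v hv => ?_⟩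
  · obtain ⟨c, hc⟩ := C.exists_coord a v
    have h0 : v - c ∈ ⨅ b : Γ, tr ρ b R := AddSubgroup.mem_iInf.2 fun b => by
      by_cases hne : tr ρ b T = tr ρ a T
      · exact C.pair_eq hne ▸ hc.2
      · exact sub_mem ((horth b hne).1 (h1 hv)) (C.pair_ne (Ne.symm hne) hc.1)
    rw [C.meet, AddSubgroup.mem_bot, sub_eq_zero] at h0
    exact h0 ▸ hc.1
  · have hsup : (⨆ b : Γ, tr ρ b T) ≤ tr ρ a T ⊔ (R2 ⊓ tr ρ a R) := iSup_le fun b => by
      by_cases hne : tr ρ b T = tr ρ a T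
      · exact hne ▸ le_sup_left
      · exact le_trans (le_inf (horth b hne).2 (C.pair_ne hne)) le_sup_right
    rw [C.span] at hsup
    obtain ⟨c, hc, w, hw, e⟩ := AddSubgroup.mem_sup.1 (hsup (AddSubgroup.mem_top v))
    obtain ⟨hw1, hw2⟩ := AddSubgroup.mem_inf.1 hw
    have hcR : c ∈ tr ρ a R := by
      have h3 := sub_mem hv hw2
      rwa [← e, add_sub_cancel_right] at h3
    rw [C.tr_disj hc hcR, zero_add] at e
    exact h2 (e ▸ hw1)

end GConf

end Cfsg.Agent.Goldschmidt
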